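import Cfsg.Agent.Blocks.Orth
import Cfsg.Agent.Chars.Induced
import Cfsg.Agent.Chars.Eigen
import Cfsg.Agent.Chars.Linear
import Cfsg.Agent.Transfer.Tate
import Cfsg.Agent.FGS3.PGroupFrattini
import Cfsg.Agent.Core.Cores
import Mathlib.GroupTheory.FiniteAbelian.Duality

/-!
Characters of degree prime to `p`: normal subgroups in all their kernels, and the consequence of
Tate's theorem for normal subgroups meeting a Sylow subgroup in its derived group.
-/

namespace Cfsg.Agent.DegreeGraph

open Cfsg
open scoped ComplexConjugate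

set_option linter.style.haveILetI false
set_option linter.unusedSectionVars false

variable {G : Type*} [Group G] [Finite G] {p : ℕ} [Fact p.Prime]

/-- Linear characters separate the derived group. -/
theorem mem_commutator_of_forall_hom {P : Type*} [Group P] [Finite P] {x : P}
    (h : ∀ φ : P →* ℂˣ, φ x = 1) : x ∈ commutator P := by
  by_contra hx
  have hne : (Abelianization.of x : Abelianization P) ≠ 1 := fun h1 =>
    hx ((QuotientGroup.eq_one_iff x).1 h1)
  obtain ⟨φ, hφ⟩ :=
    CommGroup.exists_apply_ne_one_of_hasEnoughRootsOfUnity (Abelianization P) ℂ hne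
  exact hφ (h (φ.comp Abelianization.of))

/-- Every linear character of a Sylow subgroup lies under a character of degree prime to `p`. -/
theorem exists_over_linear [Fintype G] (P : Sylow p G) (φ : (P : Subgroup G) →* ℂˣ)
    [Fintype (P : Subgroup G)] :
    ∃ χ : IrrCharacter G, ¬ p ∣ charDegree (χ : G → ℂ) ∧
      classInner (fun x : (P : Subgroup G) => (φ x : ℂ))
        (fun x : (P : Subgroup G) => (χ : G → ℂ) x) ≠ 0 := by
  classical
  set θ : ↥(P : Subgroup G) → ℂ := fun x => (φ x : ℂ) with hθ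
  have hI : IsCharacter G (indFun (P : Subgroup G) θ) :=
    Chars.isCharacter_indFun _ (Chars.isCharacter_hom φ)
  by_contra hc
  push Not at hc
  have hdeg : ∀ χ : IrrCharacter G, ∃ m d : ℕ,
      classInner (indFun (P : Subgroup G) θ) (χ : G → ℂ) = m ∧ (χ : G → ℂ) 1 = d ∧
        (p ∣ m * d) := fun χ => by
    obtain ⟨m, hm⟩ := Chars.exists_classInner_eq_nat hI (Chars.irr_isCharacter χ)
    obtain ⟨hd, _⟩ := Blocks.charDegree_eq χ.2
    refine ⟨m, _, hm, hd, ?_⟩
    by_cases h : p ∣ charDegree (χ : G → ℂ)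
    · exact dvd_mul_of_dvd_right h m
    · have h0 := hc χ h
      rw [← Chars.classInner_indFun _ θ (Chars.isClassFunction_irr χ), hm] at h0
      rw [Nat.cast_eq_zero.1 h0, zero_mul]; exact dvd_zero p
  choose m d hm hd hdvd using hdeg
  have hsum := congrFun (Chars.eq_sum_classInner (Chars.isClassFunction_of_isCharacter hI)) 1
  rw [Finset.sum_apply, Chars.indFun_apply_one] at hsum
  simp only [Pi.smul_apply, smul_eq_mul, hm, hd] at hsum
  have h1 : θ 1 = 1 := by simp [hθ]
  rw [h1, mul_one] at hsum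
  have h2 : (P : Subgroup G).index = ∑ χ : IrrCharacter G, m χ * d χ := by exact_mod_cast hsum
  exact P.not_dvd_index (h2 ▸ Finset.dvd_sum fun χ _ => hdvd χ)

/-- An element of a Sylow subgroup in the kernel of all characters of degree prime to `p` is in
the derived group of the Sylow subgroup. -/
theorem mem_commutator_of_forall_ker (P : Sylow p G) {x : G} (hx : x ∈ P)
    (h : ∀ χ : IrrCharacter G, ¬ p ∣ charDegree (χ : G → ℂ) → (χ : G → ℂ) x = (χ : G → ℂ) 1) :
    (⟨x, hx⟩ : (P : Subgroup G)) ∈ commutator (P : Subgroup G) := by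
  classical
  have := Fintype.ofFinite G
  refine mem_commutator_of_forall_hom fun φ => ?_
  obtain ⟨χ, hχ, hne⟩ := exists_over_linear P φ
  by_contra hφ
  refine hne ?_
  rw [Chars.classInner_def]
  refine mul_eq_zero_of_right _ ?_
  set S : ℂ := ∑ g : (P : Subgroup G), (φ g : ℂ) * conj ((χ : G → ℂ) g) with hS
  have key : S = (φ ⟨x, hx⟩ : ℂ) * S := by
    conv_lhs => rw [hS, ← Equiv.sum_comp (Equiv.mulLeft (⟨x, hx⟩ : (P : Subgroup G)))]
    rw [hS, Finset.mul_sum]
    refine Finset.sum_congr rfl fun g _ => ?_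
    simp only [Equiv.coe_mulLeft, map_mul, Units.val_mul, Subgroup.coe_mul]
    rw [Chars.apply_mul_of_mem_charKer (Chars.irr_isCharacter χ) _
      ((Chars.mem_charKer (Chars.irr_isCharacter χ)).2 (h χ hχ))]
    ring
  by_contra hS0
  exact hφ (Units.ext (mul_right_cancel₀ hS0 (key.symm.trans (one_mul S).symm)))

/-- If `O_{p'}(G) = 1`, a normal subgroup meeting `P` inside `P'` is a `p`-subgroup of `P'`. -/
theorem le_commutator_of_inf_le (P : Sylow p G) (hc : pPrimeCore p G = ⊥) (X : Subgroup G)
    [X.Normal] (h : X ⊓ (P : Subgroup G) ≤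
      (commutator (P : Subgroup G)).map (P : Subgroup G).subtype) :
    X ≤ (commutator (P : Subgroup G)).map (P : Subgroup G).subtype := by
  have hle := h.trans (Subgroup.map_mono (FGS3.commutator_le_frattini P.isPGroup'))
  have hcomp := Transfer.hasNormalPComplement_of_inf_le_frattini P X hle
  obtain ⟨Q, N, hN, hNQ⟩ := hcomp
  have hbot : pPrimeCore p X = ⊥ := Core.pPrimeCore_eq_bot_of_normal X hc
  have hNc : (Nat.card N).Coprime p := by
    rw [Nat.coprime_comm, (Fact.out : p.Prime).coprime_iff_not_dvd,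
      ← hNQ.index_eq_card]
    exact Q.not_dvd_index
  have hNbot : N = ⊥ := le_bot_iff.1 (hbot ▸ Core.le_pPrimeCore hN hNc)
  subst hNbot
  have hQ : (Q : Subgroup X) = ⊤ := Subgroup.isComplement'_bot_left.1 hNQ
  have hX : IsPGroup p X := Q.isPGroup'.of_surjective (Q : Subgroup X).subtype
    (fun x => ⟨⟨x, hQ ▸ Subgroup.mem_top x⟩, rfl⟩)
  have hXP : X ≤ (P : Subgroup G) :=
    (Core.le_pCore inferInstance hX).trans (Core.pCore_le_sylow P)
  exact fun x hx => h ⟨hx, hXP hx⟩

end Cfsg.Agent.DegreeGraph
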