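import Cfsg.Agent.DegreeGraph.IsoBlockBasic
import Cfsg.Agent.Chars.Brauer

/-!
Alperin's theorem: restriction is a bijection between principal blocks when the normal subgroup has
index prime to `p` and is supplemented by the centralizer of a Sylow `p`-subgroup.
-/

namespace Cfsg.Agent.DegreeGraph.IsoBlock

open Cfsg Cfsg.Agent
open scoped ComplexConjugate commutatorElement

set_option linter.style.haveILetI false
set_option linter.unusedSectionVars false

universe u

variable {p : ℕ} {M : Ideal AlgInt} [Fact p.Prime] [M.IsMaximal]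

section
variable {G : Type u} [Group G] [Fintype G] {N : Subgroup G} [N.Normal] [Fintype N]

/-- A character restricting irreducibly to a subgroup restricts irreducibly above it. -/
theorem isIrr_restrict {H : Subgroup G} [Fintype H] (hNH : N ≤ H) {θ : N → ℂ}
    (hθ : IsIrrCharacter N θ) (χ : IrrCharacter G) (hext : ∀ n : N, (χ : G → ℂ) n = θ n) :
    IsIrrCharacter H (fun h : H => (χ : G → ℂ) h) := by
  haveI : Fintype (N.subgroupOf H) := Fintype.ofFinite _
  obtain ⟨n, ρ, -, hρ⟩ := χ.2
  refine ⟨n, ρ.comp H.subtype, ?_, funext fun c => congrFun hρ (c : G)⟩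
  refine Chars2.isIrreducible_of_comp (N.subgroupOf H).subtype _ ?_
  refine Chars.isIrreducible_of_character _ ?_
  convert Chars.isIrrCharacter_comp_equiv hθ (Subgroup.subgroupOfEquivOfLe hNH) using 1
  funext x
  show _ = θ (Subgroup.subgroupOfEquivOfLe hNH x)
  rw [← hext]
  exact congrFun hρ ((x : H) : G)

/-- The hypotheses on an intermediate subgroup. -/
theorem sub_hyp (hidx : ¬ p ∣ N.index) {P : Subgroup G} (hPN : P ≤ N) (hPi : ¬ p ∣ P.index)
    (hsup : N ⊔ Subgroup.centralizer (P : Set G) = ⊤) {H : Subgroup G} (hNH : N ≤ H) :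
    ¬ p ∣ (N.subgroupOf H).index ∧ P.subgroupOf H ≤ N.subgroupOf H ∧
      ¬ p ∣ (P.subgroupOf H).index ∧
      N.subgroupOf H ⊔ Subgroup.centralizer ((P.subgroupOf H : Subgroup H) : Set H) = ⊤ := by
  refine ⟨fun h => hidx (h.trans (Subgroup.relIndex_dvd_index_of_normal N H)),
    fun x hx => hPN hx,
    fun h => hPi (h.trans ⟨H.index, (Subgroup.relIndex_mul_index (hPN.trans hNH)).symm⟩),
    top_unique fun x _ => ?_⟩
  have hx : (x : G) ∈ N ⊔ Subgroup.centralizer (P : Set G) := hsup.symm ▸ Subgroup.mem_top _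
  obtain ⟨n, hn, c, hc, he⟩ := Subgroup.mem_sup_of_normal_left.1 hx
  have hcH : c ∈ H := by
    have := H.mul_mem (H.inv_mem (hNH hn)) x.2
    rwa [← he, inv_mul_cancel_left] at this
  rw [show x = (⟨n, hNH hn⟩ : H) * ⟨c, hcH⟩ from Subtype.ext he.symm]
  exact Subgroup.mul_mem _ (Subgroup.mem_sup_left hn) (Subgroup.mem_sup_right
    (Subgroup.mem_centralizer_iff.2 fun y hy =>
      Subtype.ext (Subgroup.mem_centralizer_iff.1 hc _ hy)))

theorem mem_centralizer_sub {P H : Subgroup G} (hPH : P ≤ H) {c : H}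
    (hc : c ∈ Subgroup.centralizer ((P.subgroupOf H : Subgroup H) : Set H)) :
    (c : G) ∈ Subgroup.centralizer (P : Set G) :=
  Subgroup.mem_centralizer_iff.2 fun y hy =>
    congrArg Subtype.val (Subgroup.mem_centralizer_iff.1 hc ⟨y, hPH hy⟩ hy)

theorem principal_transport {H : Subgroup G} [Fintype H] (hNH : N ≤ H) {θ : IrrCharacter N}
    (hθ : θ ∈ principalBlock M N) :
    Chars.irrEquiv (Subgroup.subgroupOfEquivOfLe hNH) θ ∈
      principalBlock M (N.subgroupOf H) :=
  mem_principal_of_surjective (Subgroup.subgroupOfEquivOfLe hNH).toMonoidHom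
    (Subgroup.subgroupOfEquivOfLe hNH).surjective hθ rfl

theorem isCyclic_quotient (g : G) :
    IsCyclic (↥(N ⊔ Subgroup.zpowers g) ⧸ N.subgroupOf (N ⊔ Subgroup.zpowers g)) := by
  refine isCyclic_of_surjective ((QuotientGroup.mk' _).comp
    (Subgroup.inclusion (show Subgroup.zpowers g ≤ N ⊔ Subgroup.zpowers g from le_sup_right)))
    fun y => ?_
  obtain ⟨⟨x, hx⟩, rfl⟩ := QuotientGroup.mk'_surjective _ y
  obtain ⟨n, hn, z, hz, rfl⟩ := Subgroup.mem_sup_of_normal_left.1 hx
  refine ⟨⟨z, hz⟩, ?_⟩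
  refine QuotientGroup.eq.2 ?_
  rw [Subgroup.mem_subgroupOf]
  show z⁻¹ * (n * z) ∈ N
  have := ‹N.Normal›.conj_mem n hn z⁻¹
  rwa [inv_inv, mul_assoc] at this

/-- On the cyclic extension by any element there is a principal extension. -/
theorem exists_local (hpM : (p : AlgInt) ∈ M) (hidx : ¬ p ∣ N.index) {P : Subgroup G}
    (hPN : P ≤ N) (hPi : ¬ p ∣ P.index) (hsup : N ⊔ Subgroup.centralizer (P : Set G) = ⊤)
    {θ : IrrCharacter N} (hθ : θ ∈ principalBlock M N) (g : G)
    [Fintype ↥(N ⊔ Subgroup.zpowers g)] :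
    (∀ n : N, (θ : N → ℂ) ⟨g * n * g⁻¹, ‹N.Normal›.conj_mem (n : G) n.2 g⟩ = (θ : N → ℂ) n) ∧
      ∃ η : IrrCharacter ↥(N ⊔ Subgroup.zpowers g),
        η ∈ principalBlock M ↥(N ⊔ Subgroup.zpowers g) ∧
        ∀ n : N, (η : ↥(N ⊔ Subgroup.zpowers g) → ℂ) ⟨n, Subgroup.mem_sup_left n.2⟩ =
          (θ : N → ℂ) n := by
  set H : Subgroup G := N ⊔ Subgroup.zpowers g with hH
  have hNH : N ≤ H := le_sup_left
  haveI : Fintype (N.subgroupOf H) := Fintype.ofFinite _
  haveI := isCyclic_quotient (N := N) g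
  obtain ⟨h1, -, h3, h4⟩ := sub_hyp hidx hPN hPi hsup hNH
  let e := Subgroup.subgroupOfEquivOfLe hNH
  obtain ⟨hinv, η, hη, hηN⟩ := cyclic_step hpM h1 h3 h4 (principal_transport hNH hθ)
  refine ⟨fun n => ?_, η, hη, fun n => ?_⟩
  · have := Chars.inv_of_inertia_top hinv ⟨g, Subgroup.mem_sup_right (Subgroup.mem_zpowers g)⟩
      (e.symm n)
    simp only [Chars.irrEquiv_apply, MulEquiv.apply_symm_apply] at this
    refine Eq.trans (congrArg _ (Subtype.ext ?_)) this
    rfl
  · have := hηN (e.symm n)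
    simp only [Chars.irrEquiv_apply, MulEquiv.apply_symm_apply] at this
    exact this

/-- An extension with normalised values congruent to one lies in the principal block. -/
theorem mem_principal_of_ratioOne (hpM : (p : AlgInt) ∈ M) (hidx : ¬ p ∣ N.index) {P : Subgroup G}
    (hPN : P ≤ N) (hPi : ¬ p ∣ P.index) (hsup : N ⊔ Subgroup.centralizer (P : Set G) = ⊤)
    {θ : IrrCharacter N} (hθ : θ ∈ principalBlock M N) {χ : IrrCharacter G}
    (hext : ∀ n : N, (χ : G → ℂ) n = (θ : N → ℂ) n) (hr : RatioOne M P (χ : G → ℂ)) :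
    χ ∈ principalBlock M G := by
  rw [mem_principalBlock_iff]
  intro g
  set H : Subgroup G := N ⊔ Subgroup.zpowers g with hH
  have hNH : N ≤ H := le_sup_left
  have hgH : g ∈ H := Subgroup.mem_sup_right (Subgroup.mem_zpowers g)
  haveI : Fintype H := Fintype.ofFinite _
  haveI : Fintype (N.subgroupOf H) := Fintype.ofFinite _
  obtain ⟨h1, h2, h3, h4⟩ := sub_hyp hidx hPN hPi hsup hNH
  obtain ⟨-, η, hη, hηN⟩ := exists_local hpM hidx hPN hPi hsup hθ g
  let e := Subgroup.subgroupOfEquivOfLe hNH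
  let χH : IrrCharacter H := ⟨_, isIrr_restrict hNH θ.2 χ hext⟩
  have heq : η = χH := eq_of_ratioOne hpM h1 h4 (Chars.isIrrCharacter_comp_equiv θ.2 e)
    (χ := χH) (fun n => hext (e n))
    (fun c hc => hr c (mem_centralizer_sub (hPN.trans hNH) hc))
    (by
      rw [show (fun n : N.subgroupOf H => (η : H → ℂ) n) = (θ : N → ℂ) ∘ e from
        funext fun n => hηN (e n),
        Chars.classInner_self_irr (Chars.isIrrCharacter_comp_equiv θ.2 e)]
      exact one_ne_zero)
    (ratioOne_of_principal hpM h3 hη)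
  have hloc := (mem_principalBlock_iff.1 hη) ⟨g, hgH⟩
  set C := Subgroup.centralizer ({g} : Set G) with hC
  have hCH : Subgroup.centralizer ({⟨g, hgH⟩} : Set H) = C.subgroupOf H := by
    ext x
    simp [hC, Subgroup.mem_subgroupOf, Subgroup.mem_centralizer_singleton_iff, Subtype.ext_iff]
  have hb0 : C.relIndex H ≠ 0 := Subgroup.index_ne_zero_of_finite
  have hle : (C.relIndex H).factorization p ≤ C.index.factorization p := by
    have e1 : (C ⊓ H).index = C.relIndex H * H.index := by
      rw [← Subgroup.inf_relIndex_right, Subgroup.relIndex_mul_index inf_le_right]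
    have e2 : (C ⊓ H).index = H.relIndex C * C.index := by
      rw [inf_comm, ← Subgroup.inf_relIndex_right, Subgroup.relIndex_mul_index inf_le_right]
    have hnd : ¬ p ∣ H.relIndex C := fun h => hidx
      (h.trans ((Subgroup.relIndex_dvd_of_le_left C hNH).trans
        (Subgroup.relIndex_dvd_index_of_normal N C)))
    have e3 := congrArg (fun n : ℕ => n.factorization p) (e1.symm.trans e2)
    have hH0 : H.index ≠ 0 := Subgroup.index_ne_zero_of_finite
    have hr0 : H.relIndex C ≠ 0 := Subgroup.index_ne_zero_of_finite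
    rw [Nat.factorization_mul hb0 hH0,
      Nat.factorization_mul hr0 Subgroup.index_ne_zero_of_finite, Finsupp.add_apply,
      Finsupp.add_apply, Nat.factorization_eq_zero_of_not_dvd hnd] at e3
    omega
  have hR := Blocks.natRatio_memR hpM (Subgroup.index_ne_zero_of_finite (H := C)) hb0 hle
  have := Blocks.memI_mul_left hR hloc
  convert this using 1
  simp only [centralChar, hCH, heq, χH, div_one, mul_one, Subgroup.coe_one,
    show (C.subgroupOf H).index = C.relIndex H from rfl]
  have : (C.relIndex H : ℂ) ≠ 0 := Nat.cast_ne_zero.2 hb0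
  field_simp
  rw [← hC]
  ring

end

/-- Solvable quotient: every member of the principal block of the normal subgroup extends to the
principal block. -/
theorem exists_ext_solvable (hpM : (p : AlgInt) ∈ M) {G : Type u} [Group G] [Fintype G]
    {N : Subgroup G} [N.Normal] [Fintype N] (hidx : ¬ p ∣ N.index) {P : Subgroup G} (hPN : P ≤ N)
    (hPi : ¬ p ∣ P.index) (hsup : N ⊔ Subgroup.centralizer (P : Set G) = ⊤)
    (hsolv : Group.IsSolvable (G ⧸ N)) {θ : IrrCharacter N} (hθ : θ ∈ principalBlock M N) :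
    ∃ χ : IrrCharacter G, χ ∈ principalBlock M G ∧
      ∀ n : N, (χ : G → ℂ) n = (θ : N → ℂ) n := by
  classical
  induction hk : N.index using Nat.strong_induction_on generalizing G with
  | _ k ih =>
  subst hk
  haveI := hsolv
  by_cases hcyc : IsCyclic (G ⧸ N)
  · exact (cyclic_step hpM hidx hPi hsup hθ).2
  obtain ⟨L, hLn, hNL, hLne, hLtop⟩ :
      ∃ L : Subgroup G, L.Normal ∧ N ≤ L ∧ L ≠ N ∧ L ≠ ⊤ := by
    haveI : Nontrivial (G ⧸ N) := by
      by_contra h
      rw [not_nontrivial_iff_subsingleton] at h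
      exact hcyc isCyclic_of_subsingleton
    by_cases hcomm : commutator (G ⧸ N) = ⊥
    · obtain ⟨x, hx⟩ := exists_ne (1 : G ⧸ N)
      have hab : ∀ a b : G ⧸ N, a * b = b * a := fun a b => by
        have h : ⁅a, b⁆ ∈ commutator (G ⧸ N) := Subgroup.commutator_mem_commutator trivial trivial
        rw [hcomm, Subgroup.mem_bot] at h
        exact commutatorElement_eq_one_iff_mul_comm.1 h
      haveI : (Subgroup.zpowers x).Normal :=
        ⟨fun a ha b => by rwa [hab b a, mul_inv_cancel_right]⟩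
      refine ⟨(Subgroup.zpowers x).comap (QuotientGroup.mk' N), inferInstance,
        fun n hn => ?_, fun h => hx ?_, fun h => hcyc ⟨⟨x, fun y => ?_⟩⟩⟩
      · rw [Subgroup.mem_comap, QuotientGroup.mk'_apply, (QuotientGroup.eq_one_iff n).2 hn]
        exact Subgroup.one_mem _
      · obtain ⟨g, rfl⟩ := QuotientGroup.mk_surjective x
        have : g ∈ (Subgroup.zpowers (g : G ⧸ N)).comap (QuotientGroup.mk' N) :=
          Subgroup.mem_zpowers _
        rw [h] at this
        exact (QuotientGroup.eq_one_iff g).2 this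
      · obtain ⟨g, rfl⟩ := QuotientGroup.mk_surjective y
        have : g ∈ (Subgroup.zpowers x).comap (QuotientGroup.mk' N) := h ▸ Subgroup.mem_top g
        exact this
    · refine ⟨(commutator (G ⧸ N)).comap (QuotientGroup.mk' N), inferInstance, fun n hn => ?_,
        fun h => hcomm (eq_bot_iff.2 fun y hy => ?_), fun h => ?_⟩
      · rw [Subgroup.mem_comap, QuotientGroup.mk'_apply, (QuotientGroup.eq_one_iff n).2 hn]
        exact Subgroup.one_mem _
      · obtain ⟨g, rfl⟩ := QuotientGroup.mk_surjective y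
        have : g ∈ (commutator (G ⧸ N)).comap (QuotientGroup.mk' N) := hy
        rw [h] at this
        exact (QuotientGroup.eq_one_iff g).2 this
      · have htop : commutator (G ⧸ N) = ⊤ := top_unique fun y _ => by
          obtain ⟨g, rfl⟩ := QuotientGroup.mk_surjective y
          exact (h ▸ Subgroup.mem_top g : g ∈ (commutator (G ⧸ N)).comap (QuotientGroup.mk' N))
        exact (Group.IsSolvable.commutator_lt_top_of_nontrivial (G ⧸ N)).ne htop
  haveI := hLn
  haveI : Fintype L := Fintype.ofFinite _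
  haveI : Fintype (N.subgroupOf L) := Fintype.ofFinite _
  obtain ⟨h1, h2, h3, h4⟩ := sub_hyp hidx hPN hPi hsup hNL
  have hrel := Subgroup.relIndex_mul_index hNL
  have hN0 : N.index ≠ 0 := Subgroup.index_ne_zero_of_finite
  have hlt1 : (N.subgroupOf L).index < N.index := by
    have hL1 : L.index ≠ 1 := mt Subgroup.index_eq_one.1 hLtop
    have hL0 : L.index ≠ 0 := Subgroup.index_ne_zero_of_finite
    show N.relIndex L < N.index
    rw [← hrel]
    exact lt_mul_of_one_lt_right (Nat.pos_of_ne_zero fun h => hN0 (by rw [← hrel, h, zero_mul]))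
      (by omega)
  have hlt2 : L.index < N.index := by
    have hr1 : N.relIndex L ≠ 1 := fun h => hLne (le_antisymm (Subgroup.relIndex_eq_one.1 h) hNL)
    have hr0 : N.relIndex L ≠ 0 := fun h => hN0 (by rw [← hrel, h, zero_mul])
    rw [← hrel]
    exact lt_mul_of_one_lt_left (Nat.pos_of_ne_zero Subgroup.index_ne_zero_of_finite) (by omega)
  have hs1 : Group.IsSolvable (L ⧸ N.subgroupOf L) := by
    refine Group.isSolvable_of_isSolvable_injective
      (f := QuotientGroup.map (N.subgroupOf L) N L.subtype (fun x hx => hx)) ?_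
    refine (MonoidHom.ker_eq_bot_iff _).1 (eq_bot_iff.2 fun y hy => ?_)
    obtain ⟨x, rfl⟩ := QuotientGroup.mk'_surjective _ y
    exact (QuotientGroup.eq_one_iff x).2 ((QuotientGroup.eq_one_iff (x : G)).1 hy)
  have hs2 : Group.IsSolvable (G ⧸ L) :=
    Group.isSolvable_of_surjective (f := QuotientGroup.map N L (MonoidHom.id G) hNL) fun y => by
      obtain ⟨g, rfl⟩ := QuotientGroup.mk'_surjective L y
      exact ⟨QuotientGroup.mk' N g, rfl⟩
  obtain ⟨η, hη, hηN⟩ := ih _ hlt1 h1 h2 h3 h4 hs1 (principal_transport hNL hθ) rfl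
  obtain ⟨χ, hχ, hχL⟩ := ih _ hlt2 (N := L) (fun h => hidx (h.trans (Subgroup.index_dvd_of_le hNL)))
    (hPN.trans hNL) hPi (top_unique (hsup.symm.le.trans (sup_le_sup_right hNL _))) hs2 hη rfl
  refine ⟨χ, hχ, fun n => ?_⟩
  have e1 := hηN ((Subgroup.subgroupOfEquivOfLe hNL).symm n)
  simp only [Chars.irrEquiv_apply, MulEquiv.apply_symm_apply] at e1
  rw [← e1]
  exact hχL ⟨n, hNL n.2⟩

variable {G : Type u} [Group G] [Fintype G] {N : Subgroup G} [N.Normal] [Fintype N]

/-- A subgroup generated with a normal subgroup has quotient an image. -/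
theorem solvable_sup_quotient (E : Subgroup G) [Group.IsSolvable E] :
    Group.IsSolvable (↥(N ⊔ E) ⧸ N.subgroupOf (N ⊔ E)) := by
  refine Group.isSolvable_of_surjective (f := (QuotientGroup.mk' _).comp
    (Subgroup.inclusion (show E ≤ N ⊔ E from le_sup_right))) fun y => ?_
  obtain ⟨⟨x, hx⟩, rfl⟩ := QuotientGroup.mk'_surjective _ y
  obtain ⟨n, hn, z, hz, rfl⟩ := Subgroup.mem_sup_of_normal_left.1 hx
  refine ⟨⟨z, hz⟩, ?_⟩
  refine QuotientGroup.eq.2 ?_
  rw [Subgroup.mem_subgroupOf]
  show z⁻¹ * (n * z) ∈ N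
  have := ‹N.Normal›.conj_mem n hn z⁻¹
  rwa [inv_inv, mul_assoc] at this

/-- Every member of the principal block of the normal subgroup extends to the principal block. -/
theorem exists_ext (hpM : (p : AlgInt) ∈ M) (hidx : ¬ p ∣ N.index) {P : Subgroup G} (hPN : P ≤ N)
    (hPi : ¬ p ∣ P.index) (hsup : N ⊔ Subgroup.centralizer (P : Set G) = ⊤)
    {θ : IrrCharacter N} (hθ : θ ∈ principalBlock M N) :
    ∃ χ : IrrCharacter G, χ ∈ principalBlock M G ∧
      ∀ n : N, (χ : G → ℂ) n = (θ : N → ℂ) n := by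
  classical
  haveI : ∀ H : Subgroup G, Fintype H := fun H => Fintype.ofFinite _
  have hinv : ∀ (g : G) (n : N),
      (θ : N → ℂ) ⟨g * n * g⁻¹, ‹N.Normal›.conj_mem (n : G) n.2 g⟩ = (θ : N → ℂ) n :=
    fun g => (exists_local hpM hidx hPN hPi hsup hθ g).1
  choose η hη hηN using fun g : G => (exists_local hpM hidx hPN hPi hsup hθ g).2
  -- an extension
  obtain ⟨χ₀, hχ₀, hext₀⟩ : ∃ χ : G → ℂ, IsIrrCharacter G χ ∧ ∀ n : N, χ n = (θ : N → ℂ) n := by
    refine Chars2.extends_of_sylow (θ : N → ℂ) θ.2 hinv fun q hq => ?_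
    haveI := Fact.mk hq
    obtain ⟨S⟩ : Nonempty (Sylow q G) := inferInstance
    haveI : Group.IsSolvable (S : Subgroup G) := by
      haveI : Group.IsNilpotent (S : Subgroup G) := S.isPGroup'.isNilpotent
      infer_instance
    obtain ⟨h1, h2, h3, h4⟩ := sub_hyp hidx hPN hPi hsup (le_sup_left : N ≤ N ⊔ S)
    obtain ⟨χ, -, hχ⟩ := exists_ext_solvable hpM h1 h2 h3 h4 (solvable_sup_quotient (S : Subgroup G))
      (principal_transport le_sup_left hθ)
    refine ⟨_, le_sup_left, (χ : ↥(N ⊔ (S : Subgroup G)) → ℂ),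
      fun h => S.not_dvd_index' Subgroup.index_ne_zero_of_finite
        (h.trans (Subgroup.index_dvd_of_le le_sup_right)), Chars.irr_isCharacter χ, fun n => ?_⟩
    have e1 := hχ ((Subgroup.subgroupOfEquivOfLe le_sup_left).symm n)
    simp only [Chars.irrEquiv_apply, MulEquiv.apply_symm_apply] at e1
    exact e1
  -- the glued function
  let F : G → ℂ := fun g => (η g : ↥(N ⊔ Subgroup.zpowers g) → ℂ)
    ⟨g, Subgroup.mem_sup_right (Subgroup.mem_zpowers g)⟩
  have hgood : ∀ (U : Subgroup G), N ≤ U → ∀ (χ : IrrCharacter U),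
      χ ∈ principalBlock M U → (∀ n : N, ∀ h : (n : G) ∈ U, (χ : U → ℂ) ⟨n, h⟩ = (θ : N → ℂ) n) →
      ∀ (g : G) (hg : g ∈ U), F g = (χ : U → ℂ) ⟨g, hg⟩ := by
    intro U hNU χ hχ hχN g hg
    set H : Subgroup G := N ⊔ Subgroup.zpowers g with hH
    have hHU : H ≤ U := sup_le hNU (Subgroup.zpowers_le.2 hg)
    have hNH : N ≤ H := le_sup_left
    obtain ⟨h1, h2, h3, h4⟩ := sub_hyp hidx hPN hPi hsup hNH
    let e := Subgroup.subgroupOfEquivOfLe hNH
    let eU : H.subgroupOf U ≃* H := Subgroup.subgroupOfEquivOfLe hHU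
    have hirr : IsIrrCharacter H (fun x : H => (χ : U → ℂ) ⟨x, hHU x.2⟩) := by
      have := isIrr_restrict (G := U) (N := N.subgroupOf U) (H := H.subgroupOf U)
        (fun x hx => hNH hx) (Chars.isIrrCharacter_comp_equiv θ.2 (Subgroup.subgroupOfEquivOfLe hNU))
        χ (fun n => hχN ⟨((n : U) : G), n.2⟩ (n : U).2)
      exact Chars.isIrrCharacter_comp_equiv this eU.symm
    have hrU := ratioOne_of_principal hpM (sub_hyp hidx hPN hPi hsup hNU).2.2.1 hχ
    have heq : η g = ⟨_, hirr⟩ := eq_of_ratioOne hpM h1 h4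
      (Chars.isIrrCharacter_comp_equiv θ.2 e) (χ := ⟨_, hirr⟩) (fun n => hχN (e n) _)
      (fun c hc => hrU ⟨(c : G), hHU c.2⟩ (Subgroup.mem_centralizer_iff.2 fun y hy =>
        Subtype.ext (Subgroup.mem_centralizer_iff.1
          (mem_centralizer_sub (hPN.trans hNH) hc) _ hy)))
      (by
        rw [show (fun n : N.subgroupOf H => (η g : H → ℂ) n) = (θ : N → ℂ) ∘ e from
          funext fun n => hηN g (e n),
          Chars.classInner_self_irr (Chars.isIrrCharacter_comp_equiv θ.2 e)]
        exact one_ne_zero)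
      (ratioOne_of_principal hpM h3 (hη g))
    exact congrFun (congrArg Subtype.val heq) ⟨g, _⟩
  have hFgen : ∀ (E : Subgroup G), Group.IsSolvable E →
      ∃ χ : IrrCharacter ↥(N ⊔ E), ∀ (g : G) (hg : g ∈ N ⊔ E),
        F g = (χ : ↥(N ⊔ E) → ℂ) ⟨g, hg⟩ := by
    intro E hE
    obtain ⟨h1, h2, h3, h4⟩ := sub_hyp hidx hPN hPi hsup (le_sup_left : N ≤ N ⊔ E)
    obtain ⟨χ, hχ, hχN⟩ := exists_ext_solvable hpM h1 h2 h3 h4 (solvable_sup_quotient E)
      (principal_transport le_sup_left hθ)
    refine ⟨χ, hgood _ le_sup_left χ hχ fun n h => ?_⟩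
    have e1 := hχN ((Subgroup.subgroupOfEquivOfLe le_sup_left).symm n)
    simp only [Chars.irrEquiv_apply, MulEquiv.apply_symm_apply] at e1
    exact e1
  -- norm
  haveI := Fintype.ofFinite (G ⧸ N)
  have hnorm : ∀ g, F g * conj (F g) = χ₀ g * conj (χ₀ g) := by
    intro g
    set H : Subgroup G := N ⊔ Subgroup.zpowers g with hH
    have hNH : N ≤ H := le_sup_left
    let e := Subgroup.subgroupOfEquivOfLe hNH
    haveI := isCyclic_quotient (N := N) g
    haveI := IsCyclic.commutative (α := H ⧸ N.subgroupOf H)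
    have hirr := isIrr_restrict hNH θ.2 ⟨χ₀, hχ₀⟩ hext₀
    obtain ⟨-, -, hsurj⟩ := ModFix.gallagher_hom (QuotientGroup.mk' (N.subgroupOf H))
      (QuotientGroup.mk'_surjective _) (QuotientGroup.ker_mk' _)
      (Chars.isIrrCharacter_comp_equiv θ.2 e)
      (Chars2.inertiaSub_eq_top fun x n => hinv (x : G) (e n)) hirr
      (fun n => hext₀ (e n))
    obtain ⟨γ, hγ⟩ := hsurj (η g) (by
      rw [show (fun n : N.subgroupOf H => (η g : H → ℂ) n) = (θ : N → ℂ) ∘ e from
        funext fun n => hηN g (e n),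
        Chars.classInner_self_irr (Chars.isIrrCharacter_comp_equiv θ.2 e)]
      exact one_ne_zero)
    obtain ⟨l, hl⟩ := Chars.exists_hom_of_degree_one (Chars.irr_isCharacter γ)
      (Chars.irr_apply_one_of_comm Std.Commutative.comm γ.2)
    show (η g : H → ℂ) _ * conj ((η g : H → ℂ) _) = _
    rw [hγ, hl, map_mul]
    set x := QuotientGroup.mk' (N.subgroupOf H)
      (⟨g, Subgroup.mem_sup_right (Subgroup.mem_zpowers g)⟩ : H)
    have h1 : (l x : ℂ) * conj (l x : ℂ) = 1 := by
      have hfin : (l x : ℂ) ^ orderOf x = 1 := by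
        rw [← Units.val_pow_eq_pow_val, ← map_pow, pow_orderOf_eq_one, map_one, Units.val_one]
      rw [Complex.mul_conj, Complex.normSq_eq_norm_sq,
        Complex.norm_eq_one_of_pow_eq_one hfin (orderOf_pos _).ne']
      simp
    calc _ = ((l x : ℂ) * conj (l x : ℂ)) * (χ₀ g * conj (χ₀ g)) := by ring
      _ = _ := by rw [h1, one_mul]
  have hFF : classInner F F = 1 := by
    rw [← Chars.classInner_self_irr hχ₀, Chars.classInner_def, Chars.classInner_def]
    simp only [hnorm]
  have hF1 : ∀ n : N, F n = (θ : N → ℂ) n := by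
    intro n
    obtain ⟨h1, h2, h3, h4⟩ := sub_hyp hidx hPN hPi hsup (le_refl N)
    exact hgood N le_rfl θ hθ (fun m h => rfl) n n.2
  have hFc : IsClassFunction G F := by
    intro g x
    have hmem : x * g * x⁻¹ ∈ N ⊔ Subgroup.zpowers (x * g * x⁻¹) :=
      Subgroup.mem_sup_right (Subgroup.mem_zpowers _)
    -- conjugation of the local extension
    set H : Subgroup G := N ⊔ Subgroup.zpowers g with hH
    set H' : Subgroup G := N ⊔ Subgroup.zpowers (x * g * x⁻¹) with hH'
    have hmap : H.map (MulAut.conj x).toMonoidHom = H' := by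
      rw [hH, Subgroup.map_sup, MonoidHom.map_zpowers, hH']
      congr 1
      ext y
      rw [Subgroup.mem_map]
      constructor
      · rintro ⟨z, hz, rfl⟩; exact ‹N.Normal›.conj_mem z hz x
      · intro hy
        refine ⟨x⁻¹ * y * x, ?_, by simp [mul_assoc]⟩
        simpa using ‹N.Normal›.conj_mem y hy x⁻¹
    let c : H' ≃* H :=
      ((MulEquiv.subgroupMap (MulAut.conj x) H).trans (MulEquiv.subgroupCongr hmap)).symm
    let η' : IrrCharacter H' := Chars.irrEquiv c (η g)
    have hη' : η' ∈ principalBlock M H' :=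
      mem_principal_of_surjective c.toMonoidHom c.surjective (hη g) rfl
    have hval : ∀ y : H', ((c y : H) : G) = x⁻¹ * y * x := fun y => by
      have h := congrArg Subtype.val (c.symm_apply_apply y)
      change x * ((c y : H) : G) * x⁻¹ = (y : G) at h
      rw [← h]; group
    rw [hgood H' le_sup_left η' hη' (fun n h => ?_) _ hmem]
    · show (η g : H → ℂ) (c ⟨x * g * x⁻¹, hmem⟩) = F g
      exact congrArg _ (Subtype.ext (by rw [hval]; show x⁻¹ * (x * g * x⁻¹) * x = g; group))
    · show (η g : H → ℂ) (c ⟨(n : G), h⟩) = (θ : N → ℂ) n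
      rw [← hinv x⁻¹ n, ← hηN g]
      refine congrArg _ ?_
      exact Subtype.ext (by
        rw [hval]
        show x⁻¹ * (n : G) * x = x⁻¹ * (n : G) * x⁻¹⁻¹
        rw [inv_inv])
  have hgen : IsGeneralizedCharacter G F := by
    refine Chars.isGen_of_elementary hFc fun E q hq hE => ?_
    have hsolE : Group.IsSolvable E := by
      haveI := Fact.mk hq
      obtain ⟨z, hz, -, k, hk⟩ := hE
      have hle : Subgroup.zpowers z ≤ Subgroup.center E := Subgroup.zpowers_le.2 hz
      haveI : (Subgroup.zpowers z).Normal :=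
        ⟨fun y hy g => by rw [(Subgroup.mem_center_iff.1 (hle hy) g), mul_inv_cancel_right]; exact hy⟩
      have hQ : IsPGroup q (E ⧸ Subgroup.zpowers z) :=
        IsPGroup.of_card (by rw [← Subgroup.index_eq_card, hk])
      haveI : Group.IsNilpotent (E ⧸ Subgroup.zpowers z) := hQ.isNilpotent
      haveI : Group.IsNilpotent E :=
        Subgroup.isNilpotent_of_ker_le_center (QuotientGroup.mk' (Subgroup.zpowers z))
          (by rw [QuotientGroup.ker_mk']; exact hle)
      infer_instance
    obtain ⟨χ, hχ⟩ := hFgen E hsolE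
    rw [show (fun e : E => F e) = fun e : E => (χ : ↥(N ⊔ E) → ℂ) (Subgroup.inclusion le_sup_right e)
      from funext fun e => hχ e _]
    exact Chars.isGen_comp (Chars.isGen_of_isCharacter (Chars.irr_isCharacter χ)) _
  rcases Chars.isIrrCharacter_of_gen_norm_one hgen hFF with hF | hF
  · refine ⟨⟨F, hF⟩, mem_principal_of_ratioOne hpM hidx hPN hPi hsup hθ (χ := ⟨F, hF⟩) hF1
      fun c hc => ?_, hF1⟩
    have hc' : (⟨c, Subgroup.mem_sup_right (Subgroup.mem_zpowers c)⟩ : ↥(N ⊔ Subgroup.zpowers c)) ∈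
        Subgroup.centralizer ((P.subgroupOf (N ⊔ Subgroup.zpowers c) : Subgroup _) : Set _) :=
      Subgroup.mem_centralizer_iff.2 fun y hy =>
        Subtype.ext (Subgroup.mem_centralizer_iff.1 hc _ hy)
    have := ratioOne_of_principal hpM
      (sub_hyp hidx hPN hPi hsup (le_sup_left : N ≤ N ⊔ Subgroup.zpowers c)).2.2.1 (hη c) _ hc'
    have e1 : F 1 = (η c : ↥(N ⊔ Subgroup.zpowers c) → ℂ) 1 := by
      rw [show (1 : ↥(N ⊔ Subgroup.zpowers c)) = ⟨((1 : N) : G), Subgroup.mem_sup_left (1 : N).2⟩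
        from rfl, hηN, ← hF1]
      simp
    show MemLocalIdeal M (F c / F 1 - 1)
    rw [e1]
    exact this
  · exfalso
    obtain ⟨d, hd0, hd⟩ := Chars.exists_irr_apply_one_eq hF
    obtain ⟨t, ht0, ht⟩ := Chars.exists_irr_apply_one_eq θ.2
    have := hF1 1
    simp only [Subgroup.coe_one] at this
    rw [Pi.neg_apply, this, ht] at hd
    have h2 : ((d + t : ℕ) : ℂ) = 0 := by push_cast; linear_combination -hd
    exact absurd (Nat.cast_eq_zero.1 h2) (by omega)

/-- A member of the principal block restricts into the principal block. -/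
theorem exists_under (hpM : (p : AlgInt) ∈ M) {χ : IrrCharacter G} (hχ : χ ∈ principalBlock M G)
    (hinv : ∀ θ : IrrCharacter N, θ ∈ principalBlock M N → ∀ (g : G) (n : N),
      (θ : N → ℂ) ⟨g * n * g⁻¹, ‹N.Normal›.conj_mem (n : G) n.2 g⟩ = (θ : N → ℂ) n) :
    ∃ θ : IrrCharacter N, θ ∈ principalBlock M N ∧
      classInner (fun n : N => (χ : G → ℂ) n) (θ : N → ℂ) ≠ 0 := by
  classical
  set B : Set (IrrCharacter N) := principalBlock M N with hB
  let f : G → ℂ := extendByZero N (blockCoeff B)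
  have hf : IsClassFunction G f := by
    intro g x
    by_cases hg : g ∈ N
    · show extendByZero N _ _ = extendByZero N _ _
      rw [Chars.extendByZero_of_mem N _ (‹N.Normal›.conj_mem g hg x),
        Chars.extendByZero_of_mem N _ hg, Blocks.blockCoeff_eq_sum, Finset.sum_apply,
        Finset.sum_apply]
      refine Finset.sum_congr rfl fun θ hθ => ?_
      simp only [Blocks.eFun]
      rw [hinv θ (Finset.mem_filter.1 hθ).2 x ⟨g, hg⟩]
    · show extendByZero N _ _ = extendByZero N _ _
      rw [Chars.extendByZero_of_not_mem N _ hg, Chars.extendByZero_of_not_mem]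
      exact fun h => hg (by simpa [mul_assoc] using ‹N.Normal›.conj_mem _ h x⁻¹)
  have hfR : Blocks.RFun M f := fun g => by
    by_cases hg : g ∈ N
    · show MemLocalRing M (extendByZero N _ _)
      rw [Chars.extendByZero_of_mem N _ hg]
      exact Blocks.rFun_blockCoeff hpM Blocks.isPBlock_principal _
    · show MemLocalRing M (extendByZero N _ _)
      rw [Chars.extendByZero_of_not_mem N _ hg]
      exact Blocks.memR_zero
  have hsum : ∀ φ : G → ℂ, ∑ g, f g * φ g = ∑ n : N, blockCoeff B n * φ n := by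
    intro φ
    rw [← Finset.sum_subset (Finset.subset_univ (Finset.univ.filter (· ∈ N)))
      (fun g _ hg => by
        show extendByZero N _ _ * _ = 0
        rw [Chars.extendByZero_of_not_mem N _ (fun h => hg (Finset.mem_filter.2 ⟨Finset.mem_univ _, h⟩)),
          zero_mul]),
      Finset.sum_subtype (p := (· ∈ N)) (Finset.univ.filter (· ∈ N)) (fun x => by simp)]
    refine Finset.sum_congr rfl fun n _ => ?_
    show extendByZero N _ _ * _ = _
    rw [Chars.extendByZero_of_mem N _ n.2]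
  by_contra hne
  push Not at hne
  have h0 : ∑ n : N, blockCoeff B n * (χ : G → ℂ) n = 0 := by
    simp only [Blocks.blockCoeff_eq_sum, Finset.sum_apply, Blocks.eFun, Finset.sum_mul]
    rw [Finset.sum_comm]
    refine Finset.sum_eq_zero fun θ hθ => ?_
    have h1 := hne θ (Finset.mem_filter.1 hθ).2
    rw [Chars.classInner_def, mul_eq_zero] at h1
    have h2 := h1.resolve_left (inv_ne_zero Chars.card_ne_zero)
    rw [show (0 : ℂ) = (Nat.card N : ℂ)⁻¹ * (θ : N → ℂ) 1 * 0 by ring, ← h2, Finset.mul_sum]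
    exact Finset.sum_congr rfl fun n _ => by ring
  have h := Blocks.omega_congr
    (Blocks.sameBlock_of_mem Blocks.isPBlock_principal hχ Blocks.one_mem_principal) hf hfR
  have h1 : Blocks.omega ((Blocks.oneChar G : IrrCharacter G) : G → ℂ) f = 1 := by
    have := Blocks.omega_blockCoeff_mem (B := B) (Blocks.one_mem_principal (G := N))
    simp only [Blocks.omega, Blocks.coe_oneChar] at this ⊢
    rw [hsum (fun _ => 1)]
    exact this
  have h2 : Blocks.omega (χ : G → ℂ) f = 0 := by
    simp only [Blocks.omega]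
    rw [hsum, h0, zero_div]
  rw [h1, h2, zero_sub] at h
  exact Blocks.not_memI_one (by simpa using Blocks.memI_neg h)

/-- Restriction is a bijection of the principal blocks. -/
theorem restriction_bijection (hpM : (p : AlgInt) ∈ M) (hidx : ¬ p ∣ N.index) {P : Subgroup G}
    (hPN : P ≤ N) (hPi : ¬ p ∣ P.index) (hsup : N ⊔ Subgroup.centralizer (P : Set G) = ⊤) :
    (∀ χ ∈ principalBlock M G, ∃ θ ∈ principalBlock M N, ∀ n : N,
      (χ : G → ℂ) n = (θ : N → ℂ) n) ∧
    ∀ θ ∈ principalBlock M N, ∃! χ : IrrCharacter G, χ ∈ principalBlock M G ∧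
      ∀ n : N, (χ : G → ℂ) n = (θ : N → ℂ) n := by
  refine ⟨fun χ hχ => ?_, fun θ hθ => ?_⟩
  · obtain ⟨θ, hθ, hover⟩ := exists_under hpM hχ fun θ hθ g =>
      haveI : Fintype ↥(N ⊔ Subgroup.zpowers g) := Fintype.ofFinite _
      (exists_local hpM hidx hPN hPi hsup hθ g).1
    obtain ⟨χ', hχ', hext⟩ := exists_ext hpM hidx hPN hPi hsup hθ
    rw [eq_of_ratioOne hpM hidx hsup θ.2 hext (ratioOne_of_principal hpM hPi hχ') hover
      (ratioOne_of_principal hpM hPi hχ)]
    exact ⟨θ, hθ, hext⟩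
  · obtain ⟨χ', hχ', hext⟩ := exists_ext hpM hidx hPN hPi hsup hθ
    refine ⟨χ', ⟨hχ', hext⟩, fun χ ⟨hχ, hχext⟩ => ?_⟩
    refine eq_of_ratioOne hpM hidx hsup θ.2 hext (ratioOne_of_principal hpM hPi hχ') ?_
      (ratioOne_of_principal hpM hPi hχ)
    rw [show (fun n : N => (χ : G → ℂ) n) = (θ : N → ℂ) from funext hχext,
      Chars.classInner_self_irr θ.2]
    exact one_ne_zero

end Cfsg.Agent.DegreeGraph.IsoBlock
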