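import Cfsg.Agent.DegreeGraph.ModFix
import Cfsg.Agent.Chars.CoprimeExt
import Cfsg.Agent.Chars.GlaubermanSolvable

/-!
The correspondence above a fully invariant character of a normal `p`-subgroup of index prime
to `p`.
-/

set_option autoImplicit false
set_option linter.style.haveILetI false
set_option linter.unusedSectionVars false

namespace Cfsg.Agent.DegreeGraph.ModFix

open Cfsg Cfsg.Agent
open scoped ComplexConjugate

universe u v

/-- A character constant on the kernel of a surjection comes from the image. -/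
theorem exists_deflate {G : Type u} [Group G] [Finite G] {H : Type v} [Group H] (f : G →* H)
    (hf : Function.Surjective f) {β : G → ℂ} (hβ : IsIrrCharacter G β)
    (h : ∀ n ∈ f.ker, β n = β 1) : ∃ γ : IrrCharacter H, ∀ g, (γ : H → ℂ) (f g) = β g := by
  obtain ⟨n, ρ, hirr, rfl⟩ := hβ
  have hker : f.ker ≤ ρ.toHomUnits.ker := fun x hx => by
    rw [MonoidHom.mem_ker]
    refine Units.ext ?_
    show ρ x = 1
    refine (Chars.rep_char_eq_finrank_iff ρ x).1 ?_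
    rw [h x hx, Representation.char_one]
  let σu := f.liftOfRightInverse (Function.surjInv hf) (Function.rightInverse_surjInv hf)
    ⟨ρ.toHomUnits, hker⟩
  let σ : Representation ℂ H (Fin n → ℂ) := (Units.coeHom _).comp σu
  have hσ : ∀ g, σ (f g) = ρ g := fun g => by
    show ((σu (f g) : (Module.End ℂ (Fin n → ℂ))ˣ) : Module.End ℂ (Fin n → ℂ)) = ρ g
    rw [MonoidHom.liftOfRightInverse_comp_apply]
    rfl
  have hcomp : σ.comp f = ρ := MonoidHom.ext hσ
  refine ⟨⟨σ.character, n, σ, Chars2.isIrreducible_of_comp f σ (by rw [hcomp]; exact hirr), rfl⟩,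
    fun g => ?_⟩
  show LinearMap.trace ℂ _ (σ (f g)) = LinearMap.trace ℂ _ (ρ g)
  rw [hσ]

/-- The characters over an extendible invariant character are its extension times the characters
of the image. -/
theorem gallagher_hom {G : Type u} [Group G] [Fintype G] {H : Type v} [Group H] [Fintype H]
    (f : G →* H) (hf : Function.Surjective f) {N : Subgroup G} [N.Normal] [Fintype N]
    (hker : f.ker = N) {θ : N → ℂ} (hθ : IsIrrCharacter N θ)
    (hinv : Chars2.inertiaSub θ = ⊤) {χ₀ : G → ℂ} (h₀ : IsIrrCharacter G χ₀)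
    (hext : ∀ n : N, χ₀ n = θ n) :
    (∀ γ : IrrCharacter H, IsIrrCharacter G (fun g => (γ : H → ℂ) (f g) * χ₀ g) ∧
      classInner (fun n : N => (γ : H → ℂ) (f n) * χ₀ n) θ ≠ 0) ∧
    (∀ γ γ' : IrrCharacter H,
      (∀ g, (γ : H → ℂ) (f g) * χ₀ g = (γ' : H → ℂ) (f g) * χ₀ g) → γ = γ') ∧
    ∀ ψ : IrrCharacter G, classInner (fun n : N => (ψ : G → ℂ) n) θ ≠ 0 →
      ∃ γ : IrrCharacter H, ∀ g, (ψ : G → ℂ) g = (γ : H → ℂ) (f g) * χ₀ g := by
  classical
  have h1i : Chars2.inertiaSub (1 : N → ℂ) = ⊤ := Chars2.inertiaSub_eq_top fun g n => rfl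
  have hG := Chars2.gallagher (N := N) (φ := 1) (ϑ := θ) Chars.isIrrCharacter_one h1i hinv
    (by rw [one_mul]; exact hθ) h₀ hext
  rw [one_mul] at hG
  have hind : ∀ {θ' : N → ℂ} {χ : G → ℂ}, IsClassFunction G χ →
      (classInner (indFun N θ') χ ≠ 0 ↔ classInner (fun n : N => χ n) θ' ≠ 0) := by
    intro θ' χ hχ
    rw [Chars.classInner_indFun N θ' hχ, ← Chars.classInner_conj_symm, ne_eq, map_eq_zero]
  have hone : ∀ (n : N), f (n : G) = 1 := fun n => by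
    have : (n : G) ∈ f.ker := hker.symm ▸ n.2
    exact this
  have hmem : ∀ γ : IrrCharacter H, (fun g => (γ : H → ℂ) (f g)) ∈
      {β : G → ℂ | IsIrrCharacter G β ∧ classInner (indFun N 1) β ≠ 0} := by
    intro γ
    have hirr : IsIrrCharacter G (fun g => (γ : H → ℂ) (f g)) :=
      Chars.isIrrCharacter_comp_surjective γ.2 f hf
    refine ⟨hirr, (hind (Chars.isClassFunction_of_isCharacter (Chars.isCharacter_of_isIrr hirr))).2 ?_⟩
    rw [show (fun n : N => (γ : H → ℂ) (f n)) = (γ : H → ℂ) 1 • (1 : N → ℂ) from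
      funext fun n => by simp [hone], Chars.classInner_smul_left]
    exact mul_ne_zero (Chars.irr_apply_one_ne_zero γ.2)
      fun h => one_ne_zero ((Chars.classInner_self_irr Chars.isIrrCharacter_one).symm.trans h)
  refine ⟨fun γ => ?_, fun γ γ' h => ?_, fun ψ hψ => ?_⟩
  · obtain ⟨h1, h2⟩ := hG.mapsTo (hmem γ)
    exact ⟨h1, (hind (Chars.isClassFunction_of_isCharacter (Chars.isCharacter_of_isIrr h1))).1 h2⟩
  · have := hG.injOn (hmem γ) (hmem γ') (funext h)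
    refine Subtype.ext (funext fun x => ?_)
    obtain ⟨g, rfl⟩ := hf x
    exact congrFun this g
  · obtain ⟨β, ⟨hβ, hβ1⟩, he⟩ := hG.surjOn
      (show (ψ : G → ℂ) ∈ {ψ : G → ℂ | IsIrrCharacter G ψ ∧ classInner (indFun N θ) ψ ≠ 0} from
        ⟨ψ.2, (hind (Chars.isClassFunction_irr ψ)).2 hψ⟩)
    have hβN := Chars2.clifford_invariant hβ Chars.isIrrCharacter_one h1i
      ((hind (Chars.isClassFunction_of_isCharacter (Chars.isCharacter_of_isIrr hβ))).1 hβ1)
    obtain ⟨γ, hγ⟩ := exists_deflate f hf hβ fun n hn => by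
      have h1 := hβN ⟨n, hker ▸ hn⟩
      have h2 := hβN 1
      simp only [Subgroup.coe_one] at h2
      rw [h2]
      simpa using h1
    exact ⟨γ, fun g => by rw [hγ, ← he]; rfl⟩

variable {G : Type u} [Group G] {A : Type v} [Group A]

/-- Multiplicity not divisible by `p`. -/
def Rel (p : ℕ) {C : Subgroup G} [Fintype C] (χ : G → ℂ) (ξ : C → ℂ) : Prop :=
  ∃ m : ℕ, classInner (fun c : C => χ c) ξ = m ∧ ¬ p ∣ m

/-- The correspondence between the invariant characters over `θ` of the group and of the fixed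
points modulo the normal subgroup. -/
def Corr (p : ℕ) [Fintype G] (φ : A →* MulAut G) (N C : Subgroup G) [Fintype N] [Fintype C]
    (hNC : N ≤ C) (hCi : ∀ a, ∀ c ∈ C, φ a c ∈ C) (θ : N → ℂ) : Prop :=
  (∀ χ : IrrCharacter G, Chars.InvFun φ (χ : G → ℂ) →
    classInner (fun n : N => (χ : G → ℂ) n) θ ≠ 0 →
    ∃ ξ : IrrCharacter C, Chars.InvFun (Chars.subAct φ C hCi) (ξ : C → ℂ) ∧
      classInner (Chars2.resSub N C hNC (ξ : C → ℂ)) θ ≠ 0 ∧
      Rel p (χ : G → ℂ) (ξ : C → ℂ) ∧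
      ∀ ξ' : IrrCharacter C, Chars.InvFun (Chars.subAct φ C hCi) (ξ' : C → ℂ) →
        classInner (Chars2.resSub N C hNC (ξ' : C → ℂ)) θ ≠ 0 →
        Rel p (χ : G → ℂ) (ξ' : C → ℂ) → ξ' = ξ) ∧
  (∀ ξ : IrrCharacter C, Chars.InvFun (Chars.subAct φ C hCi) (ξ : C → ℂ) →
    classInner (Chars2.resSub N C hNC (ξ : C → ℂ)) θ ≠ 0 →
    ∃ χ : IrrCharacter G, Chars.InvFun φ (χ : G → ℂ) ∧
      classInner (fun n : N => (χ : G → ℂ) n) θ ≠ 0 ∧
      Rel p (χ : G → ℂ) (ξ : C → ℂ) ∧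
      ∀ χ' : IrrCharacter G, Chars.InvFun φ (χ' : G → ℂ) →
        classInner (fun n : N => (χ' : G → ℂ) n) θ ≠ 0 →
        Rel p (χ' : G → ℂ) (ξ : C → ℂ) → χ' = χ) ∧
  (∀ (χ : IrrCharacter G) (ξ : IrrCharacter C) (m : ℕ), Chars.InvFun φ (χ : G → ℂ) →
    classInner (fun n : N => (χ : G → ℂ) n) θ ≠ 0 →
    Chars.InvFun (Chars.subAct φ C hCi) (ξ : C → ℂ) →
    classInner (Chars2.resSub N C hNC (ξ : C → ℂ)) θ ≠ 0 →
    classInner (fun c : C => (χ : G → ℂ) c) (ξ : C → ℂ) = m → ¬ p ∣ m →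
    (m : ℤ) ≡ 1 [ZMOD p] ∨ (m : ℤ) ≡ -1 [ZMOD p])

variable [Fintype G] [Finite A] {p : ℕ}

theorem exists_invariant_extension (hp : p.Prime) (hA : IsPGroup p A) (φ : A →* MulAut G)
    (N : Subgroup G) [N.Normal] [Fintype N] (hN : ∀ a, ∀ n ∈ N, φ a n ∈ N) (hNp : IsPGroup p N)
    (hidx : ¬ p ∣ N.index) {θ : N → ℂ} (hθ : IsIrrCharacter N θ)
    (hθi : Chars.InvFun (Chars.subAct φ N hN) θ) (hinv : Chars2.inertiaSub θ = ⊤) :
    ∃ χ₀ : IrrCharacter G, Chars.InvFun φ (χ₀ : G → ℂ) ∧ ∀ n : N, (χ₀ : G → ℂ) n = θ n := by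
  classical
  haveI := Fact.mk hp
  obtain ⟨k, hk⟩ := IsPGroup.iff_card.1 hNp
  obtain ⟨χ, hχ, hext⟩ := Chars.extends_of_coprime N
    (hk ▸ Nat.Coprime.pow_left k (hp.coprime_iff_not_dvd.2 hidx)) hθ hinv
  haveI : Fintype (G ⧸ N) := Fintype.ofFinite _
  have hπ : Function.Surjective (QuotientGroup.mk' N) := QuotientGroup.mk'_surjective N
  obtain ⟨hmk, hinj, hsurj⟩ :=
    gallagher_hom (QuotientGroup.mk' N) hπ (QuotientGroup.ker_mk' N) hθ hinv hχ hext
  let E := {χ' : IrrCharacter G // ∀ n : N, (χ' : G → ℂ) n = θ n}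
  have hcard : Nat.card E = Nat.card ((G ⧸ N) →* ℂˣ) := by
    symm
    refine Nat.card_eq_of_bijective (fun l : (G ⧸ N) →* ℂˣ =>
      (⟨⟨_, (hmk ⟨fun x => (l x : ℂ), Chars.isIrrCharacter_hom l⟩).1⟩, fun n => ?_⟩ : E)) ⟨?_, ?_⟩
    · show ((l (QuotientGroup.mk' N (n : G))) : ℂ) * χ n = θ n
      rw [show QuotientGroup.mk' N (n : G) = 1 from (QuotientGroup.eq_one_iff _).2 n.2, map_one,
        Units.val_one, one_mul, hext]
    · intro l l' h
      have := hinj ⟨fun x => (l x : ℂ), Chars.isIrrCharacter_hom l⟩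
        ⟨fun x => (l' x : ℂ), Chars.isIrrCharacter_hom l'⟩
        (fun g => congrFun (congrArg (fun e : E => (e.1 : G → ℂ)) h) g)
      refine MonoidHom.ext fun x => Units.ext ?_
      exact congrFun (congrArg Subtype.val this) x
    · rintro ⟨ψ, hψ⟩
      obtain ⟨γ, hγ⟩ := hsurj ψ (by
        rw [show (fun n : N => (ψ : G → ℂ) n) = θ from funext hψ, Chars.classInner_self_irr hθ]
        exact one_ne_zero)
      have h1 : (γ : G ⧸ N → ℂ) 1 = 1 := by
        have h := hγ 1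
        have e1 := hψ 1
        have e2 := hext 1
        simp only [Subgroup.coe_one] at e1 e2
        rw [e1, map_one, e2] at h
        exact (mul_eq_right₀ (Chars.irr_apply_one_ne_zero hθ)).1 h.symm
      obtain ⟨l, hl⟩ := Chars.exists_hom_of_degree_one (Chars.irr_isCharacter γ) h1
      refine ⟨l, Subtype.ext (Subtype.ext (funext fun g => ?_))⟩
      show (l (QuotientGroup.mk' N g) : ℂ) * χ g = _
      rw [hγ g, hl]
  have hnd : ¬ p ∣ Nat.card E := by
    rw [hcard, Nat.card_congr Chars.homEquivLinear, Chars.card_linear]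
    exact fun h => hidx (h.trans (Subgroup.index_eq_card N ▸ Subgroup.index_dvd_card _))
  letI := Chars.irrAction φ
  letI : MulAction A E :=
    { smul := fun a e => ⟨a • e.1, fun n => by
        show (e.1 : G → ℂ) (φ a⁻¹ (n : G)) = θ n
        rw [← hθi a⁻¹ n]
        exact e.2 ⟨φ a⁻¹ (n : G), hN a⁻¹ n n.2⟩⟩
      one_smul := fun e => Subtype.ext (one_smul A e.1)
      mul_smul := fun a b e => Subtype.ext (mul_smul a b e.1) }
  obtain ⟨e, he⟩ := hA.nonempty_fixed_point_of_prime_not_dvd_card E hnd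
  exact ⟨e.1, (Chars.irrAction_fixed_iff φ e.1).1 fun a => congrArg Subtype.val (he a), e.2⟩

/-- The correspondence over an invariant character with full inertia group. -/
theorem corr_of_inertia_top (hp : p.Prime) (hA : IsPGroup p A) (φ : A →* MulAut G)
    (N : Subgroup G) [N.Normal] [Fintype N] (hN : ∀ a, ∀ n ∈ N, φ a n ∈ N) (hNp : IsPGroup p N)
    (hidx : ¬ p ∣ N.index) (C : Subgroup G) [Fintype C]
    (hC : ∀ g : G, g ∈ C ↔ ∀ a, φ a g * g⁻¹ ∈ N) (hNC : N ≤ C)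
    (hCi : ∀ a, ∀ c ∈ C, φ a c ∈ C) {θ : N → ℂ} (hθ : IsIrrCharacter N θ)
    (hθi : Chars.InvFun (Chars.subAct φ N hN) θ) (hinv : Chars2.inertiaSub θ = ⊤) :
    Corr p φ N C hNC hCi θ := by
  classical
  obtain ⟨χ₀, hχ₀i, hext⟩ := exists_invariant_extension hp hA φ N hN hNp hidx hθ hθi hinv
  haveI : Fintype (G ⧸ N) := Fintype.ofFinite _
  let ψ := quotAct φ N hN
  haveI : Fintype (Chars.fixSub ψ) := Fintype.ofFinite _
  have hπ : Function.Surjective (QuotientGroup.mk' N) := QuotientGroup.mk'_surjective N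
  obtain ⟨hmk, hinj, hsurj⟩ :=
    gallagher_hom (QuotientGroup.mk' N) hπ (QuotientGroup.ker_mk' N) hθ hinv χ₀.2 hext
  -- the same on the fixed points modulo `N`
  let πC : C →* Chars.fixSub ψ :=
    ((QuotientGroup.mk' N).comp C.subtype).codRestrict _ fun c => (mem_iff_fix φ N hN C hC c).1 c.2
  have hπC : ∀ c : C, ((πC c : Chars.fixSub ψ) : G ⧸ N) = ((c : G) : G ⧸ N) := fun c => rfl
  have hπCs : Function.Surjective πC := by
    rintro ⟨x, hx⟩
    obtain ⟨g, rfl⟩ := hπ x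
    exact ⟨⟨g, (mem_iff_fix φ N hN C hC g).2 hx⟩, rfl⟩
  have hkerC : πC.ker = N.subgroupOf C := by
    ext c
    rw [MonoidHom.mem_ker, Subgroup.mem_subgroupOf, ← QuotientGroup.eq_one_iff (N := N),
      ← hπC, OneMemClass.coe_eq_one]
  haveI : Fintype (N.subgroupOf C) := Fintype.ofFinite _
  let e : N.subgroupOf C ≃* N := Subgroup.subgroupOfEquivOfLe hNC
  let ξ₀ : C → ℂ := fun c => (χ₀ : G → ℂ) c
  have hextC : ∀ n : N.subgroupOf C, ξ₀ n = (θ ∘ e) n := fun n => hext (e n)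
  have hθC : IsIrrCharacter (N.subgroupOf C) (θ ∘ e) := Chars.isIrrCharacter_comp_equiv hθ e
  have hξ₀ : IsIrrCharacter C ξ₀ := by
    obtain ⟨n, ρ, -, hρ⟩ := χ₀.2
    refine ⟨n, ρ.comp C.subtype, ?_, funext fun c => congrFun hρ (c : G)⟩
    refine Chars2.isIrreducible_of_comp (N.subgroupOf C).subtype _ ?_
    refine Chars.isIrreducible_of_character _ ?_
    convert hθC using 1
    funext x
    rw [← hextC x]
    exact congrFun hρ ((x : C) : G)
  have hinvC : Chars2.inertiaSub (θ ∘ e) = ⊤ := Chars2.inertiaSub_eq_top fun c n => by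
    refine Eq.trans (congrArg θ ?_) (Chars.inv_of_inertia_top hinv (c : G) (e n))
    exact Subtype.ext rfl
  obtain ⟨hmkC, hinjC, hsurjC⟩ :=
    gallagher_hom πC hπCs hkerC hθC hinvC hξ₀ hextC
  have hover : ∀ ξ : C → ℂ, classInner (fun n : N.subgroupOf C => ξ n) (θ ∘ e) =
      classInner (Chars2.resSub N C hNC ξ) θ := by
    intro ξ
    rw [← Chars2.classInner_comp_mulEquiv e (Chars2.resSub N C hNC ξ) θ]
    congr 1
  -- multiplicities
  have hmult : ∀ (γ : IrrCharacter (G ⧸ N)) (δ : IrrCharacter (Chars.fixSub ψ)),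
      classInner (fun c : C => (γ : G ⧸ N → ℂ) (QuotientGroup.mk' N c) * (χ₀ : G → ℂ) c)
        (fun c : C => (δ : Chars.fixSub ψ → ℂ) (πC c) * ξ₀ c) =
      classInner (fun x : Chars.fixSub ψ => (γ : G ⧸ N → ℂ) x)
        (δ : Chars.fixSub ψ → ℂ) := by
    intro γ δ
    have hexp := fun x : Chars.fixSub ψ => Chars2.apply_eq_sum (Chars.isClassFunction_of_isCharacter
      (Chars.isCharacter_restrict (Chars.irr_isCharacter γ) (Chars.fixSub ψ))) x
    have e1 : (fun c : C => (γ : G ⧸ N → ℂ) (QuotientGroup.mk' N c) * (χ₀ : G → ℂ) c) =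
        ∑ η : IrrCharacter (Chars.fixSub ψ),
          classInner (fun x : Chars.fixSub ψ => (γ : G ⧸ N → ℂ) x) (η : Chars.fixSub ψ → ℂ) •
            fun c : C => (η : Chars.fixSub ψ → ℂ) (πC c) * ξ₀ c := by
      funext c
      rw [Finset.sum_apply]
      simp only [Pi.smul_apply, smul_eq_mul, ← mul_assoc]
      rw [← Finset.sum_mul, ← hexp (πC c)]
      rfl
    rw [e1, Chars.classInner_sum_left, Finset.sum_eq_single δ]
    · rw [Chars.classInner_smul_left, Chars.classInner_self_irr (hmkC δ).1, mul_one]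
    · intro η _ hne
      rw [Chars.classInner_smul_left, Chars.classInner_irr_of_ne (hmkC η).1 (hmkC δ).1
        (fun h => hne (hinjC η δ (congrFun h))), mul_zero]
    · intro h; exact absurd (Finset.mem_univ _) h
  -- invariance
  have hinvG : ∀ γ : IrrCharacter (G ⧸ N),
      Chars.InvFun φ (fun g => (γ : G ⧸ N → ℂ) (QuotientGroup.mk' N g) * (χ₀ : G → ℂ) g) ↔
        Chars.InvFun ψ (γ : G ⧸ N → ℂ) := by
    intro γ
    constructor
    · intro h a x
      obtain ⟨g, rfl⟩ := hπ x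
      have h1 := hinj ⟨_, Chars.isIrrCharacter_comp_equiv γ.2 (ψ a)⟩ γ fun g => by
        show (γ : G ⧸ N → ℂ) (ψ a (QuotientGroup.mk' N g)) * (χ₀ : G → ℂ) g = _
        rw [show ψ a (QuotientGroup.mk' N g) = QuotientGroup.mk' N (φ a g) from rfl]
        conv_lhs => rw [← hχ₀i a g]
        exact h a g
      exact congrFun (congrArg Subtype.val h1) _
    · intro h a g
      show (γ : G ⧸ N → ℂ) (QuotientGroup.mk' N (φ a g)) * (χ₀ : G → ℂ) (φ a g) = _
      rw [hχ₀i a g, show QuotientGroup.mk' N (φ a g) = ψ a (QuotientGroup.mk' N g) from rfl, h]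
  have hinvC' : ∀ δ : IrrCharacter (Chars.fixSub ψ),
      Chars.InvFun (Chars.subAct φ C hCi) (fun c : C => (δ : Chars.fixSub ψ → ℂ) (πC c) * ξ₀ c) := by
    intro δ a c
    show (δ : Chars.fixSub ψ → ℂ) (πC (Chars.subAct φ C hCi a c)) * (χ₀ : G → ℂ) (φ a c) = _
    rw [hχ₀i a c, show πC (Chars.subAct φ C hCi a c) = πC c from Subtype.ext ((πC c).2 a)]
  have hpG : ¬ p ∣ Nat.card (G ⧸ N) := by rwa [← Subgroup.index_eq_card]
  obtain ⟨Φ, m, hΦ⟩ := Chars.glauberman_pgroup hp hA ψ hpG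
  have hrel : ∀ (γ : IrrCharacter (G ⧸ N)) (δ : IrrCharacter (Chars.fixSub ψ))
      (χ : G → ℂ) (ξ : C → ℂ),
      (∀ g, χ g = (γ : G ⧸ N → ℂ) (QuotientGroup.mk' N g) * (χ₀ : G → ℂ) g) →
      (∀ c, ξ c = (δ : Chars.fixSub ψ → ℂ) (πC c) * ξ₀ c) →
      classInner (fun c : C => χ c) ξ =
        Chars.restrMult (Chars.fixSub ψ) (γ : G ⧸ N → ℂ) (δ : Chars.fixSub ψ → ℂ) := by
    intro γ δ χ ξ h1 h2
    rw [show (fun c : C => χ c) = _ from funext fun c : C => h1 c, show ξ = _ from funext h2, hmult]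
    rfl
  refine ⟨fun χ hχi hχ => ?_, fun ξ hξi hξ => ?_, fun χ ξ k hχi hχ hξi hξ hk hkp => ?_⟩
  · obtain ⟨γ, hγ⟩ := hsurj χ hχ
    have hγi := (hinvG γ).1 (by rw [← funext hγ]; exact hχi)
    obtain ⟨hm1, hm2, hm3⟩ := hΦ ⟨γ, hγi⟩
    refine ⟨⟨_, (hmkC (Φ ⟨γ, hγi⟩)).1⟩, hinvC' _, ?_, ⟨m ⟨γ, hγi⟩, ?_,
      Chars.not_dvd_of_pm_one hp hm2⟩, fun ξ' _ hξ' hr => ?_⟩
    · rw [← hover]; exact (hmkC _).2
    · rw [hrel γ (Φ ⟨γ, hγi⟩) _ _ hγ fun c => rfl]; exact hm1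
    · obtain ⟨δ, hδ⟩ := hsurjC ξ' (by rw [hover]; exact hξ')
      obtain ⟨k, hk, hkp⟩ := hr
      rw [hrel γ δ _ _ hγ hδ] at hk
      obtain rfl := hm3 δ k hk hkp
      exact Subtype.ext (funext hδ)
  · obtain ⟨δ, hδ⟩ := hsurjC ξ (by rw [hover]; exact hξ)
    obtain ⟨hm1, hm2, -⟩ := hΦ (Φ.symm δ)
    rw [Φ.apply_symm_apply] at hm1
    refine ⟨⟨_, (hmk (Φ.symm δ).1).1⟩, (hinvG _).2 (Φ.symm δ).2, (hmk _).2,
      ⟨m (Φ.symm δ), ?_, Chars.not_dvd_of_pm_one hp hm2⟩, fun χ' hχ'i hχ' hr => ?_⟩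
    · rw [hrel (Φ.symm δ).1 δ _ _ (fun g => rfl) hδ]; exact hm1
    · obtain ⟨γ, hγ⟩ := hsurj χ' hχ'
      have hγi := (hinvG γ).1 (by rw [← funext hγ]; exact hχ'i)
      obtain ⟨k, hk, hkp⟩ := hr
      rw [hrel γ δ _ _ hγ hδ] at hk
      have hd := (hΦ ⟨γ, hγi⟩).2.2 δ k hk hkp
      refine Subtype.ext (funext fun g => ?_)
      show (χ' : G → ℂ) g = _
      rw [hγ g]
      congr 2
      rw [hd, Φ.symm_apply_apply]
  · obtain ⟨γ, hγ⟩ := hsurj χ hχ
    obtain ⟨δ, hδ⟩ := hsurjC ξ (by rw [hover]; exact hξ)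
    have hγi := (hinvG γ).1 (by rw [← funext hγ]; exact hχi)
    obtain ⟨hm1, hm2, hm3⟩ := hΦ ⟨γ, hγi⟩
    rw [hrel γ δ _ _ hγ hδ] at hk
    obtain rfl := hm3 δ k hk hkp
    have : m ⟨γ, hγi⟩ = k := by exact_mod_cast hm1.symm.trans hk
    rwa [this] at hm2

end Cfsg.Agent.DegreeGraph.ModFix
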