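import Cfsg.Agent.DegreeGraph.Principal
import Cfsg.Agent.DegreeGraph.ModFixBase
import Cfsg.Agent.Blocks.Defect

/-!
Principal blocks over a normal subgroup of index prime to `p` supplemented by the centralizer of a
Sylow `p`-subgroup: covering, invariance and uniqueness of extensions.
-/

namespace Cfsg.Agent.DegreeGraph.IsoBlock

open Cfsg Cfsg.Agent
open scoped ComplexConjugate

set_option linter.style.haveILetI false
set_option linter.unusedSectionVars false

universe u

variable {G : Type u} [Group G] {p : ℕ} {M : Ideal AlgInt}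

/-- The normalised value is congruent to one on the centralizer of `P`. -/
def RatioOne (M : Ideal AlgInt) (P : Subgroup G) (χ : G → ℂ) : Prop :=
  ∀ c ∈ Subgroup.centralizer (P : Set G), MemLocalIdeal M (χ c / χ 1 - 1)

variable [Fintype G] [Fact p.Prime] [M.IsMaximal]

/-- An irreducible character of a group of order prime to `p` congruent to its degree is
principal. -/
theorem eq_one_of_congr (hpM : (p : AlgInt) ∈ M) {H : Type u} [Group H] [Fintype H]
    (hH : ¬ p ∣ Nat.card H) {γ : IrrCharacter H}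
    (h : ∀ x : H, MemLocalIdeal M ((γ : H → ℂ) x - (γ : H → ℂ) 1)) (x : H) :
    (γ : H → ℂ) x = 1 := by
  classical
  obtain ⟨d, hd0, hd, hdvd⟩ := Chars.irr_degree_dvd_card γ.2
  by_contra hne
  have hne' : (γ : H → ℂ) ≠ fun _ => 1 := fun e => hne (congrFun e x)
  have hsum : ∑ y, (γ : H → ℂ) y = 0 := by
    have h0 := Chars.classInner_irr_of_ne γ.2 Chars.isIrrCharacter_one hne'
    rw [Chars.classInner_def, mul_eq_zero] at h0
    have h1 := h0.resolve_left (inv_ne_zero Chars.card_ne_zero)
    simpa using h1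
  have h1 := Blocks.memI_sum Finset.univ (fun y => (γ : H → ℂ) y - (γ : H → ℂ) 1) fun y _ => h y
  rw [Finset.sum_sub_distrib, hsum, Finset.sum_const, Finset.card_univ, ← Nat.card_eq_fintype_card,
    nsmul_eq_mul, zero_sub, hd, ← Nat.cast_mul] at h1
  have h2 := Blocks.memI_neg h1
  rw [neg_neg, Blocks.memI_natCast_iff hpM] at h2
  rcases (Fact.out : p.Prime).dvd_mul.1 h2 with h3 | h3
  · exact hH h3
  · exact hH (h3.trans hdvd)

/-- A member of the principal block has normalised value congruent to one on the centralizer of a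
subgroup of index prime to `p`. -/
theorem ratioOne_of_principal (hpM : (p : AlgInt) ∈ M) {P : Subgroup G} (hPi : ¬ p ∣ P.index)
    {χ : IrrCharacter G} (hχ : χ ∈ principalBlock M G) : RatioOne M P (χ : G → ℂ) := by
  intro c hc
  have hP : P ≤ Subgroup.centralizer ({c} : Set G) := fun x hx =>
    Subgroup.mem_centralizer_singleton_iff.2 (Subgroup.mem_centralizer_iff.1 hc x hx)
  have hK : ¬ p ∣ (Subgroup.centralizer ({c} : Set G)).index := fun h =>
    hPi (h.trans (Subgroup.index_dvd_of_le hP))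
  have h := Blocks.memI_mul_left (Blocks.memR_inv_natCast hpM hK)
    ((mem_principalBlock_iff.1 hχ) c)
  have hK0 : ((Subgroup.centralizer ({c} : Set G)).index : ℂ) ≠ 0 :=
    Nat.cast_ne_zero.2 Subgroup.index_ne_zero_of_finite
  have e : (χ : G → ℂ) c / (χ : G → ℂ) 1 - 1 =
      -((((Subgroup.centralizer ({c} : Set G)).index : ℂ))⁻¹ *
        (centralChar (fun _ : G => (1 : ℂ)) c - centralChar (χ : G → ℂ) c)) := by
    simp only [centralChar, div_one, mul_one]
    field_simp
    ring
  rw [e]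
  exact Blocks.memI_neg h

variable {N : Subgroup G} [N.Normal] [Fintype N]

theorem exists_mem_centralizer {P : Subgroup G}
    (hsup : N ⊔ Subgroup.centralizer (P : Set G) = ⊤) (g : G) :
    ∃ c ∈ Subgroup.centralizer (P : Set G), (g : G ⧸ N) = (c : G ⧸ N) := by
  have hg : g ∈ N ⊔ Subgroup.centralizer (P : Set G) := hsup.symm ▸ Subgroup.mem_top g
  obtain ⟨n, hn, c, hc, rfl⟩ := Subgroup.mem_sup_of_normal_left.1 hg
  refine ⟨c, hc, ?_⟩
  rw [QuotientGroup.mk_mul, (QuotientGroup.eq_one_iff n).2 hn, one_mul]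

/-- An irreducible character of the quotient with normalised value congruent to one on the
centralizer is principal. -/
theorem eq_one_of_ratio (hpM : (p : AlgInt) ∈ M) (hidx : ¬ p ∣ N.index) {P : Subgroup G}
    (hsup : N ⊔ Subgroup.centralizer (P : Set G) = ⊤) (γ : IrrCharacter (G ⧸ N))
    (h : ∀ c ∈ Subgroup.centralizer (P : Set G),
      MemLocalIdeal M ((γ : G ⧸ N → ℂ) (c : G ⧸ N) / (γ : G ⧸ N → ℂ) 1 - 1)) (x : G ⧸ N) :
    (γ : G ⧸ N → ℂ) x = 1 := by
  haveI := Fintype.ofFinite (G ⧸ N)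
  obtain ⟨d, hd0, hd⟩ := Chars.exists_irr_apply_one_eq γ.2
  refine eq_one_of_congr hpM (by rwa [← Subgroup.index_eq_card]) (fun y => ?_) x
  obtain ⟨g, rfl⟩ := QuotientGroup.mk_surjective y
  obtain ⟨c, hc, hgc⟩ := exists_mem_centralizer hsup g
  rw [hgc]
  have := Blocks.memI_mul_left (Blocks.memR_natCast (M := M) d) (h c hc)
  rwa [← hd, mul_sub, mul_one, mul_div_cancel₀ _ (Chars.irr_apply_one_ne_zero γ.2)] at this

/-- Extensions with normalised values congruent to one are unique. -/
theorem eq_of_ratioOne (hpM : (p : AlgInt) ∈ M) (hidx : ¬ p ∣ N.index) {P : Subgroup G}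
    (hsup : N ⊔ Subgroup.centralizer (P : Set G) = ⊤) {θ : N → ℂ} (hθ : IsIrrCharacter N θ)
    {χ : IrrCharacter G} (hext : ∀ n : N, (χ : G → ℂ) n = θ n)
    (hr : RatioOne M P (χ : G → ℂ)) {χ' : IrrCharacter G}
    (hover : classInner (fun n : N => (χ' : G → ℂ) n) θ ≠ 0)
    (hr' : RatioOne M P (χ' : G → ℂ)) : χ' = χ := by
  classical
  haveI := Fintype.ofFinite (G ⧸ N)
  have hinv : Chars2.inertiaSub θ = ⊤ := Chars2.inertiaSub_eq_top fun g n => by
    rw [← hext, ← hext]; exact Chars.isClassFunction_irr χ (n : G) g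
  obtain ⟨-, -, hsurj⟩ := ModFix.gallagher_hom (QuotientGroup.mk' N) (QuotientGroup.mk'_surjective N)
    (QuotientGroup.ker_mk' N) hθ hinv χ.2 hext
  obtain ⟨γ, hγ⟩ := hsurj χ' hover
  obtain ⟨d, hd0, hd⟩ := Chars.exists_irr_apply_one_eq γ.2
  have hχ1 := Chars.irr_apply_one_ne_zero χ.2
  have h1 : ∀ x, (γ : G ⧸ N → ℂ) x = 1 := eq_one_of_ratio hpM hidx hsup γ fun c hc => by
    have e1 := hγ c
    have e2 := hγ 1
    rw [map_one] at e2
    have hR : MemLocalRing M ((γ : G ⧸ N → ℂ) (c : G ⧸ N) / (γ : G ⧸ N → ℂ) 1) := by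
      obtain ⟨m, hm0, hm, hmd⟩ := Chars.irr_degree_dvd_card γ.2
      rw [hm, div_eq_mul_inv]
      exact Blocks.memR_mul (Blocks.memR_of_isIntegral
        (Chars.isIntegral_of_isCharacter (Chars.irr_isCharacter γ) _))
        (Blocks.memR_inv_natCast hpM fun h => hidx (Subgroup.index_eq_card N ▸ h.trans hmd))
    have e : (γ : G ⧸ N → ℂ) (c : G ⧸ N) / (γ : G ⧸ N → ℂ) 1 - 1 =
        ((χ' : G → ℂ) c / (χ' : G → ℂ) 1 - 1) -
          (γ : G ⧸ N → ℂ) (c : G ⧸ N) / (γ : G ⧸ N → ℂ) 1 *
            ((χ : G → ℂ) c / (χ : G → ℂ) 1 - 1) := by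
      have hγ1 := Chars.irr_apply_one_ne_zero γ.2
      rw [e1, e2, QuotientGroup.mk'_apply]
      field_simp
      ring
    rw [e]
    exact Blocks.memI_sub (hr' c hc) (Blocks.memI_mul_left hR (hr c hc))
  exact Subtype.ext (funext fun g => by rw [hγ g, h1, one_mul])

/-- Every member of the principal block of the normal subgroup lies under one of the principal
block. -/
theorem exists_principal_over (hpM : (p : AlgInt) ∈ M) (hidx : ¬ p ∣ N.index) {P : Subgroup G}
    (hPi : ¬ p ∣ P.index) (hsup : N ⊔ Subgroup.centralizer (P : Set G) = ⊤)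
    {θ : IrrCharacter N} (hθ : θ ∈ principalBlock M N) :
    ∃ χ : IrrCharacter G, χ ∈ principalBlock M G ∧
      classInner (fun n : N => (χ : G → ℂ) n) (θ : N → ℂ) ≠ 0 := by
  classical
  set B : Set (IrrCharacter G) := principalBlock M G with hB
  let f : N → ℂ := fun n => blockCoeff B n
  have hf : IsClassFunction N f := fun a b => Blocks.isClassFunction_blockCoeff B (a : G) (b : G)
  have hfR : Blocks.RFun M f := fun n => Blocks.rFun_blockCoeff hpM Blocks.isPBlock_principal _
  let a : (N → ℂ) → ℂ := fun η => ∑ χ ∈ Finset.univ.filter (· ∈ B),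
    (χ : G → ℂ) 1 * ((Nat.card N : ℂ) * classInner η (fun n : N => (χ : G → ℂ) n))
  have homega : ∀ η : IrrCharacter N,
      Blocks.omega (η : N → ℂ) f = (Nat.card G : ℂ)⁻¹ * a η / (η : N → ℂ) 1 := by
    intro η
    simp only [Blocks.omega, f, a, Blocks.blockCoeff_eq_sum, Finset.sum_apply, Blocks.eFun,
      Finset.sum_mul, Finset.mul_sum]
    rw [Finset.sum_comm]
    congr 1
    refine Finset.sum_congr rfl fun χ _ => ?_
    rw [Chars.classInner_def, ← mul_assoc (Nat.card N : ℂ), mul_inv_cancel₀ Chars.card_ne_zero,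
      one_mul, Finset.mul_sum, Finset.mul_sum]
    exact Finset.sum_congr rfl fun n _ => by ring
  have hone : Blocks.omega ((Blocks.oneChar N : IrrCharacter N) : N → ℂ) f =
      (N.index : ℂ)⁻¹ := by
    have ha : a ((Blocks.oneChar N : IrrCharacter N) : N → ℂ) = (Nat.card N : ℂ) := by
      show ∑ χ ∈ _, _ = _
      rw [Finset.sum_eq_single (Blocks.oneChar G)]
      · rw [show (fun n : N => ((Blocks.oneChar G : IrrCharacter G) : G → ℂ) n) =
          ((Blocks.oneChar N : IrrCharacter N) : N → ℂ) from rfl,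
          Chars.classInner_self_irr (Blocks.oneChar N).2]
        simp [Blocks.coe_oneChar]
      · intro χ hχ hne
        refine mul_eq_zero_of_right _ (mul_eq_zero_of_right _ ?_)
        by_contra h0
        refine hne ?_
        refine eq_of_ratioOne hpM hidx hsup (Blocks.oneChar N).2 (χ := Blocks.oneChar G)
          (fun n => rfl) (ratioOne_of_principal hpM hPi Blocks.one_mem_principal)
          (fun h => h0 ?_) (ratioOne_of_principal hpM hPi (Finset.mem_filter.1 hχ).2)
        rw [← Chars.classInner_conj_symm, h, map_zero]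
      · intro h
        exact absurd (Finset.mem_filter.2 ⟨Finset.mem_univ _, Blocks.one_mem_principal⟩) h
    rw [homega, ha, ← N.index_mul_card]
    have h1 : (Nat.card N : ℂ) ≠ 0 := Chars.card_ne_zero
    simp only [Blocks.coe_oneChar, div_one, Nat.cast_mul, mul_inv]
    field_simp
  by_contra hne
  push Not at hne
  have hzero : Blocks.omega (θ : N → ℂ) f = 0 := by
    rw [homega, show a (θ : N → ℂ) = 0 from Finset.sum_eq_zero fun χ hχ => by
      rw [← Chars.classInner_conj_symm (fun n : N => (χ : G → ℂ) n) (θ : N → ℂ),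
        hne χ (Finset.mem_filter.1 hχ).2, map_zero, mul_zero, mul_zero]]
    simp
  have h := Blocks.omega_congr
    (Blocks.sameBlock_of_mem Blocks.isPBlock_principal hθ Blocks.one_mem_principal) hf hfR
  rw [hone, hzero, zero_sub] at h
  have h2 := Blocks.memI_mul_left (Blocks.memR_natCast (M := M) N.index) (Blocks.memI_neg h)
  rw [neg_neg, mul_inv_cancel₀ (Nat.cast_ne_zero.2 Subgroup.index_ne_zero_of_finite)] at h2
  exact Blocks.not_memI_one h2

/-- Cyclic quotient: a member of the principal block of the normal subgroup is invariant and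
extends to the principal block. -/
theorem cyclic_step (hpM : (p : AlgInt) ∈ M) (hidx : ¬ p ∣ N.index) {P : Subgroup G}
    (hPi : ¬ p ∣ P.index) (hsup : N ⊔ Subgroup.centralizer (P : Set G) = ⊤)
    [IsCyclic (G ⧸ N)] {θ : IrrCharacter N} (hθ : θ ∈ principalBlock M N) :
    Chars2.inertiaSub (θ : N → ℂ) = ⊤ ∧
      ∃ χ : IrrCharacter G, χ ∈ principalBlock M G ∧ ∀ n : N, (χ : G → ℂ) n = (θ : N → ℂ) n := by
  classical
  obtain ⟨ψ, hψ, hψθ⟩ := exists_principal_over hpM hidx hPi hsup hθ
  set T : Subgroup G := Chars2.inertiaSub (θ : N → ℂ) with hT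
  have hNT : N ≤ T := Chars2.le_inertiaSub (Chars.isClassFunction_irr θ)
  haveI : Fintype T := Fintype.ofFinite _
  haveI := IsCyclic.commutative (α := G ⧸ N)
  have hcomm : ∀ a b : G ⧸ N, a * b = b * a := Std.Commutative.comm
  have hTtop : T = ⊤ := by
    obtain ⟨φ, hφ, hind, -⟩ := Chars2.exists_correspondent hNT θ.2 hT ψ.2 hψθ
    refine top_unique fun g _ => ?_
    obtain ⟨c, hc, hgc⟩ := exists_mem_centralizer hsup g
    have hmem : ∀ {a b : G}, (a : G ⧸ N) = (b : G ⧸ N) → a ∈ T → b ∈ T := fun {a b} h ha => by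
      have := T.mul_mem ha (hNT (QuotientGroup.eq.1 h))
      rwa [mul_inv_cancel_left] at this
    by_contra hg
    have hcT : c ∉ T := fun h => hg (hmem hgc.symm h)
    have hzero : (ψ : G → ℂ) c = 0 := by
      rw [← hind, Chars.indFun_apply, Finset.sum_eq_zero, mul_zero]
      intro x _
      refine Chars.extendByZero_of_not_mem _ _ fun h => hcT (hmem ?_ h)
      rw [QuotientGroup.mk_mul, QuotientGroup.mk_mul, hcomm _ (c : G ⧸ N), mul_assoc,
        QuotientGroup.mk_inv, inv_mul_cancel, mul_one]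
    have := ratioOne_of_principal hpM hPi hψ c hc
    rw [hzero, zero_div, zero_sub] at this
    exact Blocks.not_memI_one (by simpa using Blocks.memI_neg this)
  refine ⟨hTtop, ψ, hψ, ?_⟩
  obtain ⟨χ₀, hχ₀, hext⟩ := Chars2.extends_of_cyclic (θ : N → ℂ) θ.2
    fun g n => Chars.inv_of_inertia_top hTtop g n
  haveI := Fintype.ofFinite (G ⧸ N)
  obtain ⟨-, -, hsurj⟩ := ModFix.gallagher_hom (QuotientGroup.mk' N) (QuotientGroup.mk'_surjective N)
    (QuotientGroup.ker_mk' N) θ.2 hTtop hχ₀ hext
  obtain ⟨γ, hγ⟩ := hsurj ψ hψθ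
  intro n
  rw [hγ, show QuotientGroup.mk' N (n : G) = 1 from (QuotientGroup.eq_one_iff _).2 n.2,
    Chars.irr_apply_one_of_comm hcomm γ.2, one_mul, hext]

end Cfsg.Agent.DegreeGraph.IsoBlock
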