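import Cfsg.Agent.Chars.InvariantAbove
import Cfsg.Agent.Chars2.Correspondence

/-!
A `p`-group acting on a group with an invariant normal subgroup of index prime to `p`: invariant
constituents on the normal subgroup and transitivity of the fixed points modulo it.
-/

set_option autoImplicit false
set_option linter.style.haveILetI false
set_option linter.unusedSectionVars false

namespace Cfsg.Agent.DegreeGraph.ModFix

open Cfsg Cfsg.Agent

universe u v

variable {G : Type u} [Group G] {A : Type v} [Group A]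

/-- The action on the quotient by an invariant normal subgroup. -/
def quotAct (φ : A →* MulAut G) (N : Subgroup G) [N.Normal] (hN : ∀ a, ∀ n ∈ N, φ a n ∈ N) :
    A →* MulAut (G ⧸ N) :=
  Chars.autOfFun (fun a => QuotientGroup.map N N (φ a).toMonoidHom fun x hx => hN a x hx)
    (fun x => by
      induction x using QuotientGroup.induction_on with
      | H g =>
        show ((φ 1 g : G) : G ⧸ N) = (g : G ⧸ N)
        rw [map_one, MulAut.one_apply])
    (fun a b x => by
      induction x using QuotientGroup.induction_on with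
      | H g =>
        show ((φ (a * b) g : G) : G ⧸ N) = ((φ a (φ b g) : G) : G ⧸ N)
        rw [map_mul, MulAut.mul_apply])

@[simp] theorem quotAct_mk (φ : A →* MulAut G) (N : Subgroup G) [N.Normal]
    (hN : ∀ a, ∀ n ∈ N, φ a n ∈ N) (a : A) (g : G) :
    quotAct φ N hN a (g : G ⧸ N) = ((φ a g : G) : G ⧸ N) := rfl

theorem mem_iff_fix (φ : A →* MulAut G) (N : Subgroup G) [N.Normal]
    (hN : ∀ a, ∀ n ∈ N, φ a n ∈ N) (C : Subgroup G)
    (hC : ∀ g : G, g ∈ C ↔ ∀ a, φ a g * g⁻¹ ∈ N) (g : G) :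
    g ∈ C ↔ (g : G ⧸ N) ∈ Chars.fixSub (quotAct φ N hN) := by
  rw [hC, Chars.mem_fixSub]
  refine forall_congr' fun a => ?_
  rw [quotAct_mk, eq_comm, QuotientGroup.eq]
  exact ⟨fun h => ‹N.Normal›.mem_comm h, fun h => ‹N.Normal›.mem_comm h⟩

theorem le_of_modFix (φ : A →* MulAut G) (N : Subgroup G) (hN : ∀ a, ∀ n ∈ N, φ a n ∈ N)
    (C : Subgroup G) (hC : ∀ g : G, g ∈ C ↔ ∀ a, φ a g * g⁻¹ ∈ N) : N ≤ C :=
  fun n hn => (hC n).2 fun a => N.mul_mem (hN a n hn) (N.inv_mem hn)

theorem invariant_of_modFix (φ : A →* MulAut G) (N : Subgroup G)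
    (hN : ∀ a, ∀ n ∈ N, φ a n ∈ N) (C : Subgroup G)
    (hC : ∀ g : G, g ∈ C ↔ ∀ a, φ a g * g⁻¹ ∈ N) : ∀ a, ∀ c ∈ C, φ a c ∈ C := fun a c hc => by
  have h := C.mul_mem (le_of_modFix φ N hN C hC ((hC c).1 hc a)) hc
  rwa [inv_mul_cancel_right] at h

variable [Fintype G] [Finite A] {p : ℕ}

/-- An invariant character has an invariant constituent on an invariant normal subgroup of index
prime to `p`. -/
theorem exists_fixed_constituent (hp : p.Prime) (hA : IsPGroup p A) (φ : A →* MulAut G)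
    (N : Subgroup G) [N.Normal] [Fintype N] (hN : ∀ a, ∀ n ∈ N, φ a n ∈ N)
    (hidx : ¬ p ∣ N.index) {χ : G → ℂ} (hχ : IsIrrCharacter G χ)
    (hinv : Chars.InvFun φ χ) :
    ∃ θ : IrrCharacter N, Chars.InvFun (Chars.subAct φ N hN) (θ : N → ℂ) ∧
      classInner (fun n : N => χ n) (θ : N → ℂ) ≠ 0 := by
  classical
  haveI := Fact.mk hp
  obtain ⟨θ₀, hθ₀⟩ : ∃ θ : IrrCharacter N, classInner (fun n : N => χ n) (θ : N → ℂ) ≠ 0 := by
    by_contra h
    push Not at h
    have hres := Chars.isCharacter_restrict (Chars.isCharacter_of_isIrr hχ) N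
    have h1 := Chars2.apply_eq_sum (Chars.isClassFunction_of_isCharacter hres) 1
    simp only [h, zero_mul, Finset.sum_const_zero, Subgroup.coe_one] at h1
    exact Chars.irr_apply_one_ne_zero hχ h1
  let ψ := Chars.subAct φ N hN
  letI := Chars.irrAction ψ
  have hmove : ∀ (a : A) (θ : IrrCharacter N),
      classInner (fun n : N => χ n) ((a • θ : IrrCharacter N) : N → ℂ) =
        classInner (fun n : N => χ n) (θ : N → ℂ) := by
    intro a θ
    refine Eq.trans ?_ (Chars.classInner_comp_equiv (ψ a⁻¹) (fun n : N => χ n) (θ : N → ℂ))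
    congr 1
    exact funext fun n => (hinv a⁻¹ (n : G)).symm
  letI : MulAction A {θ : IrrCharacter N // classInner (fun n : N => χ n) (θ : N → ℂ) ≠ 0} :=
    { smul := fun a θ => ⟨a • θ.1, by rw [hmove]; exact θ.2⟩
      one_smul := fun θ => Subtype.ext (one_smul A θ.1)
      mul_smul := fun a b θ => Subtype.ext (mul_smul a b θ.1) }
  have hcard : Nat.card {θ : IrrCharacter N // classInner (fun n : N => χ n) (θ : N → ℂ) ≠ 0} =
      (Chars2.inertiaSub (θ₀ : N → ℂ)).index := by
    rw [← Chars2.card_orbitFinset θ₀.2, Nat.card_eq_fintype_card, Fintype.card_subtype]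
    congr 1
    ext θ
    rw [Finset.mem_filter, Chars2.mem_orbitFinset]
    refine ⟨fun h => ?_, ?_⟩
    · obtain ⟨g, hg⟩ := Chars2.clifford_constituent hχ θ₀.2 hθ₀ θ.2 h.2
      exact ⟨g, hg.symm⟩
    · rintro ⟨g, hg⟩
      refine ⟨Finset.mem_univ _, ?_⟩
      rw [← hg, Chars2.classInner_restrict_conjFun
        (Chars.isClassFunction_of_isCharacter (Chars.isCharacter_of_isIrr hχ))]
      exact hθ₀
  have hnd : ¬ p ∣ Nat.card
      {θ : IrrCharacter N // classInner (fun n : N => χ n) (θ : N → ℂ) ≠ 0} := by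
    rw [hcard]
    exact fun h => hidx (h.trans (Subgroup.index_dvd_of_le (Chars2.le_inertiaSub
      (Chars.isClassFunction_of_isCharacter (Chars.isCharacter_of_isIrr θ₀.2)))))
  obtain ⟨θ, hθ⟩ := hA.nonempty_fixed_point_of_prime_not_dvd_card _ hnd
  exact ⟨θ.1, (Chars.irrAction_fixed_iff ψ θ.1).1 fun a => congrArg Subtype.val (hθ a), θ.2⟩

/-- Two invariant conjugate characters of an invariant normal subgroup are conjugate by an element
fixed modulo it. -/
theorem conj_by_modFix (hp : p.Prime) (hA : IsPGroup p A) (φ : A →* MulAut G)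
    (N : Subgroup G) [N.Normal] (hN : ∀ a, ∀ n ∈ N, φ a n ∈ N) (hidx : ¬ p ∣ N.index)
    (C : Subgroup G) (hC : ∀ g : G, g ∈ C ↔ ∀ a, φ a g * g⁻¹ ∈ N) {θ : N → ℂ}
    (hθ : IsClassFunction N θ) (hθi : Chars.InvFun (Chars.subAct φ N hN) θ) (g : G)
    (hgi : Chars.InvFun (Chars.subAct φ N hN) (Chars2.conjFun θ g)) :
    ∃ c ∈ C, Chars2.conjFun θ c = Chars2.conjFun θ g := by
  classical
  haveI := Fact.mk hp
  have hequiv : ∀ (a : A) (x : G) (n : N),
      Chars2.conjFun θ (φ a x) (Chars.subAct φ N hN a n) = Chars2.conjFun θ x n := by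
    intro a x n
    rw [Chars2.conjFun_apply, Chars2.conjFun_apply]
    refine Eq.trans (congrArg θ ?_) (hθi a _)
    ext
    simp [Chars.subAct]
  have hact : ∀ (a : A) (x : G), Chars2.conjFun θ x = Chars2.conjFun θ g →
      Chars2.conjFun θ (φ a x) = Chars2.conjFun θ g := by
    intro a x hx
    funext n
    obtain ⟨n', rfl⟩ := (Chars.subAct φ N hN a).surjective n
    rw [hequiv, hx]
    exact (hgi a n').symm
  let ψ := quotAct φ N hN
  let S := {q : G ⧸ N // ∃ x : G, (x : G ⧸ N) = q ∧ Chars2.conjFun θ x = Chars2.conjFun θ g}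
  letI := Chars.autAction ψ
  letI : MulAction A S :=
    { smul := fun a q => ⟨a • q.1, by
        obtain ⟨x, hx, hx'⟩ := q.2
        refine ⟨φ a x, ?_, hact a x hx'⟩
        rw [← hx]
        rfl⟩
      one_smul := fun q => Subtype.ext (one_smul A q.1)
      mul_smul := fun a b q => Subtype.ext (mul_smul a b q.1) }
  have hcard : Nat.card S = Nat.card ((Chars2.inertiaSub θ).map (QuotientGroup.mk' N)) := by
    refine Nat.card_congr (Equiv.ofBijective
      (fun q : S => (⟨(g : G ⧸ N)⁻¹ * q.1, ?_⟩ :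
        (Chars2.inertiaSub θ).map (QuotientGroup.mk' N))) ⟨?_, ?_⟩)
    · obtain ⟨x, hx, hx'⟩ := q.2
      refine ⟨g⁻¹ * x, ?_, by rw [← hx]; rfl⟩
      exact Chars2.mem_inertiaSub.2 ((Chars2.conjFun_eq_iff θ x g).1 hx')
    · intro q q' h
      exact Subtype.ext (mul_left_cancel (congrArg Subtype.val h))
    · rintro ⟨_, y, hy, rfl⟩
      refine ⟨⟨(g : G ⧸ N) * QuotientGroup.mk' N y, g * y, rfl, ?_⟩, Subtype.ext ?_⟩
      · rw [Chars2.conjFun_eq_iff, inv_mul_cancel_left]
        exact Chars2.mem_inertiaSub.1 hy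
      · simp
  have hnd : ¬ p ∣ Nat.card S := by
    rw [hcard]
    exact fun h => hidx (h.trans (Subgroup.index_eq_card N ▸ Subgroup.card_subgroup_dvd_card _))
  obtain ⟨q, hq⟩ := hA.nonempty_fixed_point_of_prime_not_dvd_card S hnd
  obtain ⟨x, hx, hx'⟩ := q.2
  refine ⟨x, (mem_iff_fix φ N hN C hC x).2 fun a => ?_, hx'⟩
  rw [hx]
  exact congrArg Subtype.val (hq a)

end Cfsg.Agent.DegreeGraph.ModFix
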