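import Cfsg.Agent.OddChar.GaloisAut
import Cfsg.Agent.Chars2.LinearExtend

/-!
Galois conjugates of representations, determinants of `p`-rational characters, and the field of
values of a character fixed by the automorphisms fixing given roots of unity.
-/

namespace Cfsg.Agent.DegreeGraph.PRational

open Cfsg Cfsg.Agent

set_option linter.unusedSectionVars false

universe u

variable {G : Type u} [Group G]

/-- The Galois conjugate of a representation. -/
theorem exists_rep_map (σ : ℂ ≃+* ℂ) {d : ℕ} (ρ : Representation ℂ G (Fin d → ℂ)) :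
    ∃ ρ' : Representation ℂ G (Fin d → ℂ), (∀ g, ρ'.character g = σ (ρ.character g)) ∧
      ∀ g, LinearMap.det (ρ' g) = σ (LinearMap.det (ρ g)) := by
  classical
  let f : Matrix (Fin d) (Fin d) ℂ →+* Matrix (Fin d) (Fin d) ℂ := (σ : ℂ →+* ℂ).mapMatrix
  let t : Matrix (Fin d) (Fin d) ℂ ≃ₐ[ℂ] Module.End ℂ (Fin d → ℂ) := Matrix.toLinAlgEquiv'
  let ρ' : Representation ℂ G (Fin d → ℂ) :=
    (t.toMonoidHom).comp (f.toMonoidHom.comp ((t.symm.toMonoidHom).comp ρ))
  have htr : ∀ A : Matrix (Fin d) (Fin d) ℂ, LinearMap.trace ℂ _ (t A) = A.trace := fun A =>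
    Matrix.trace_toLin'_eq A
  have hdet : ∀ A : Matrix (Fin d) (Fin d) ℂ, LinearMap.det (t A) = A.det := fun A =>
    LinearMap.det_toLin' A
  refine ⟨ρ', fun g => ?_, fun g => ?_⟩
  · show LinearMap.trace ℂ _ (t (f (t.symm (ρ g)))) = σ (LinearMap.trace ℂ _ (ρ g))
    conv_rhs => rw [← t.apply_symm_apply (ρ g)]
    rw [htr, htr]
    simp [f, Matrix.trace, map_sum]
  · show LinearMap.det (t (f (t.symm (ρ g)))) = σ (LinearMap.det (ρ g))
    conv_rhs => rw [← t.apply_symm_apply (ρ g)]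
    rw [hdet, hdet]
    exact ((σ : ℂ →+* ℂ).map_det _).symm

/-- An automorphism fixing an irreducible character fixes its determinant. -/
theorem det_fixed [Finite G] {d : ℕ} (ρ : Representation ℂ G (Fin d → ℂ)) [ρ.IsIrreducible]
    (σ : ℂ ≃+* ℂ) (h : ∀ g, σ (ρ.character g) = ρ.character g) (g : G) :
    σ (LinearMap.det (ρ g)) = LinearMap.det (ρ g) := by
  obtain ⟨ρ', hc, hd⟩ := exists_rep_map σ ρ
  obtain ⟨e⟩ := Chars2.equiv_of_character_eq ρ ρ' (funext fun x => by rw [hc, h])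
  rw [← hd, ← e.conj_apply_self g]
  exact LinearMap.det_conj _ _

/-- An automorphism fixing the `m`-th roots of unity fixes the field they generate. -/
theorem fixed_adjoin {m : ℕ} (hm : m ≠ 0) (σ : ℂ ≃+* ℂ) (hσ : ∀ z : ℂ, z ^ m = 1 → σ z = z) {x : ℂ}
    (hx : x ∈ IntermediateField.adjoin ℚ
      ({Complex.exp (2 * Real.pi * Complex.I / m)} : Set ℂ)) : σ x = x := by
  induction hx using IntermediateField.adjoin_induction with
  | mem x hx =>
    rw [Set.mem_singleton_iff] at hx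
    subst hx
    exact hσ _ (Complex.isPrimitiveRoot_exp m hm).pow_eq_one
  | algebraMap q => simp
  | add x y _ _ hx hy => rw [map_add, hx, hy]
  | inv x _ hx => rw [map_inv₀, hx]
  | mul x y _ _ hx hy => rw [map_mul, hx, hy]

/-- Exponents separating the `p`-part from the part prime to `p`. -/
theorem exists_split {a b : ℕ} (h : a.Coprime b) : ∃ u : ℕ, u ≡ 1 [MOD a] ∧ u ≡ 0 [MOD b] :=
  ⟨(Nat.chineseRemainder h 1 0).1, (Nat.chineseRemainder h 1 0).2⟩

variable {p : ℕ} [Fact p.Prime]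

/-- For odd `p`, the determinant of a `p`-rational irreducible character has order prime to `p`. -/
theorem det_coprime [Finite G] (hp : p ≠ 2) {d : ℕ} (ρ : Representation ℂ G (Fin d → ℂ))
    [ρ.IsIrreducible] {m : ℕ} (hm : ¬ p ∣ m)
    (hrat : ∀ g, ρ.character g ∈ IntermediateField.adjoin ℚ
      ({Complex.exp (2 * Real.pi * Complex.I / m)} : Set ℂ)) :
    ¬ p ∣ orderOf (Chars2.detHom ρ) := by
  have hP := (Fact.out : p.Prime)
  have hm0 : m ≠ 0 := fun h => hm (h ▸ dvd_zero p)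
  intro hdvd
  set a := (Nat.card G).factorization p
  set b := Nat.card G / p ^ a
  have hab : p ^ a * b = Nat.card G := Nat.ordProj_mul_ordCompl_eq_self _ _
  have hbp : ¬ p ∣ b := Nat.not_dvd_ordCompl hP Nat.card_pos.ne'
  have hb0 : b ≠ 0 := fun h => hbp (h ▸ dvd_zero p)
  have hcopb : (p ^ a).Coprime b := ((hP.coprime_iff_not_dvd).2 hbp).pow_left a
  have hcop : (p ^ a).Coprime (m * b) :=
    ((hP.coprime_iff_not_dvd).2 fun h => (hP.dvd_mul.1 h).elim hm hbp).pow_left a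
  obtain ⟨k, hk1, hk2⟩ := Nat.chineseRemainder hcop 2 1
  have hkc : k.Coprime (p ^ a * (m * b)) := by
    refine Nat.Coprime.mul_right ?_ ?_
    · rcases Nat.eq_zero_or_pos a with h | h
      · simp [h]
      · refine Nat.Coprime.pow_right a ((hP.coprime_iff_not_dvd).2 fun hd => ?_).symm
        have := (hk1.of_dvd (dvd_pow_self p h.ne'))
        rw [Nat.modEq_iff_dvd] at this
        have h2 : (p : ℤ) ∣ 2 := by
          have := dvd_add this (Int.natCast_dvd_natCast.2 hd)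
          simpa using this
        have h3 : p ∣ 2 := by exact_mod_cast h2
        exact hp (((Nat.prime_dvd_prime_iff_eq hP Nat.prime_two).1 h3))
    · rw [Nat.coprime_iff_gcd_eq_one, hk2.gcd_eq, Nat.gcd_one_left]
  obtain ⟨σ, hσ⟩ := OddChar.exists_aut_pow
    (mul_ne_zero (pow_ne_zero a hP.ne_zero) (mul_ne_zero hm0 hb0)) hkc
  have hfix : ∀ g, σ (ρ.character g) = ρ.character g := fun g =>
    fixed_adjoin hm0 σ (fun z hz => by
      rw [hσ z (by rw [mul_left_comm, pow_mul, hz, one_pow]),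
        pow_eq_pow_of_modEq (hk2.of_dvd (dvd_mul_right m b)) hz, pow_one]) (hrat g)
  refine hbp (hdvd.trans (orderOf_dvd_of_pow_eq_one (MonoidHom.ext fun g => Units.ext ?_)))
  set x : ℂ := (Chars2.detHom ρ g : ℂ)
  have hx : x ^ Nat.card G = 1 := by
    rw [← Units.val_pow_eq_pow_val, ← map_pow, pow_card_eq_one', map_one, Units.val_one]
  have hy : (x ^ b) ^ (p ^ a) = 1 := by rw [← pow_mul, mul_comm, hab, hx]
  have h2 : σ x = x := det_fixed ρ σ hfix g
  have h3 : (x ^ b) ^ k = x ^ b := by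
    have hy' : (x ^ b) ^ (p ^ a * (m * b)) = 1 := by rw [pow_mul, hy, one_pow]
    rw [← hσ _ hy', map_pow, h2]
  have h4 : (x ^ b) ^ k = (x ^ b) ^ 2 := pow_eq_pow_of_modEq hk1 hy
  rw [h4, pow_two] at h3
  have hx0 : x ^ b ≠ 0 := pow_ne_zero b (Units.ne_zero _)
  show ((Chars2.detHom ρ ^ b) g : ℂ) = _
  rw [MonoidHom.pow_apply, Units.val_pow_eq_pow_val]
  exact (mul_eq_left₀ hx0).1 h3

/-- The sum of the powers with exponent prime to `p` of a root of unity of `p`-power order is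
rational. -/
theorem exists_rat_sum {a : ℕ} {w : ℂ} (hw : w ^ p ^ (a + 1) = 1) :
    ∃ r : ℚ, ∑ j ∈ (Finset.range (p ^ (a + 1))).filter (fun j => ¬ p ∣ j), w ^ j = (r : ℂ) := by
  classical
  have hgeom : ∀ (v : ℂ) (n : ℕ), v ^ n = 1 → ∃ r : ℚ, ∑ j ∈ Finset.range n, v ^ j = (r : ℂ) := by
    intro v n hv
    rcases eq_or_ne v 1 with rfl | h
    · exact ⟨n, by simp⟩
    · exact ⟨0, by rw [geom_sum_eq h, hv, sub_self, zero_div, Rat.cast_zero]⟩
  obtain ⟨r, hr⟩ := hgeom w _ hw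
  obtain ⟨s, hs⟩ := hgeom (w ^ p) (p ^ a) (by rw [← pow_mul, ← pow_succ', hw])
  refine ⟨r - s, ?_⟩
  have hP := (Fact.out : p.Prime)
  have h := Finset.sum_filter_add_sum_filter_not (Finset.range (p ^ (a + 1))) (fun j => p ∣ j)
    (fun j => w ^ j)
  have himg : (Finset.range (p ^ (a + 1))).filter (fun j => p ∣ j) =
      (Finset.range (p ^ a)).image (p * ·) := by
    ext j
    simp only [Finset.mem_filter, Finset.mem_range, Finset.mem_image]
    constructor
    · rintro ⟨hj, i, rfl⟩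
      rw [pow_succ'] at hj
      exact ⟨i, Nat.lt_of_mul_lt_mul_left hj, rfl⟩
    · rintro ⟨i, hi, rfl⟩
      rw [pow_succ']
      exact ⟨Nat.mul_lt_mul_of_pos_left hi hP.pos, dvd_mul_right p i⟩
  rw [himg, Finset.sum_image (fun i _ j _ hij => mul_left_cancel₀ hP.ne_zero hij), hr] at h
  simp only [pow_mul] at h
  rw [hs] at h
  rw [Rat.cast_sub, ← h]
  ring

/-- A character value fixed by the automorphisms fixing the `n`-th roots of unity lies in their
field. -/
theorem mem_rootField_of_fixed [Finite G] {χ : G → ℂ} (hχ : IsCharacter G χ) {n a : ℕ}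
    (hn : ¬ p ∣ n) {g : G} (hg : orderOf g ∣ p ^ (a + 1) * n)
    (hfix : ∀ σ : ℂ ≃+* ℂ, (∀ z : ℂ, z ^ n = 1 → σ z = z) → σ (χ g) = χ g) :
    χ g ∈ rootField n := by
  classical
  have hP := (Fact.out : p.Prime)
  have hn0 : n ≠ 0 := fun h => hn (h ▸ dvd_zero p)
  have hcop : (p ^ (a + 1)).Coprime n := ((hP.coprime_iff_not_dvd).2 hn).pow_left _
  obtain ⟨v, hv1, hv0⟩ := exists_split hcop
  obtain ⟨u, hu1, hu0⟩ := exists_split hcop.symm
  obtain ⟨d, ρ, rfl⟩ := hχ
  obtain ⟨z, hz, hc, -, -⟩ := Chars.exists_eigenvalues ρ g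
  have hzN : ∀ i, z i ^ (p ^ (a + 1) * n) = 1 := fun i => by
    obtain ⟨t, ht⟩ := hg; rw [ht, pow_mul, hz i, one_pow]
  set T := (Finset.range (p ^ (a + 1))).filter (fun j => ¬ p ∣ j)
  have hT : T.Nonempty := ⟨1, Finset.mem_filter.2
    ⟨Finset.mem_range.2 (Nat.one_lt_pow (Nat.succ_ne_zero a) hP.one_lt), hP.not_dvd_one⟩⟩
  have hval : ∀ j ∈ T, ρ.character g = ∑ i, z i ^ u * (z i ^ v) ^ j := by
    intro j hj
    have hjp : ¬ p ∣ j := (Finset.mem_filter.1 hj).2
    set k := u + v * j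
    have hk1 : k ≡ 1 [MOD n] := by simpa [k] using hu1.add (hv0.mul_right j)
    have hk2 : k ≡ j [MOD p ^ (a + 1)] := by simpa [k] using hu0.add (hv1.mul_right j)
    have hkc : k.Coprime (p ^ (a + 1) * n) := by
      refine Nat.Coprime.mul_right ?_ (by
        rw [Nat.coprime_iff_gcd_eq_one, hk1.gcd_eq, Nat.gcd_one_left])
      rw [Nat.coprime_iff_gcd_eq_one, hk2.gcd_eq]
      exact (((hP.coprime_iff_not_dvd).2 hjp).pow_left _).symm
    obtain ⟨σ, hσ⟩ := OddChar.exists_aut_pow (mul_ne_zero (pow_ne_zero _ hP.ne_zero) hn0) hkc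
    rw [← hfix σ fun y hy => by
      rw [hσ y (by rw [mul_comm, pow_mul, hy, one_pow]), pow_eq_pow_of_modEq hk1 hy, pow_one]]
    have h1 := hc 1
    rw [pow_one] at h1
    rw [h1, map_sum]
    refine Finset.sum_congr rfl fun i _ => ?_
    rw [pow_one, hσ _ (hzN i), pow_add, pow_mul]
  have hsum : (T.card : ℂ) * ρ.character g = ∑ i, z i ^ u * ∑ j ∈ T, (z i ^ v) ^ j := by
    rw [← nsmul_eq_mul, ← Finset.sum_const, Finset.sum_congr rfl hval, Finset.sum_comm]
    simp only [Finset.mul_sum]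
  have hmem : ∀ i, z i ^ u * ∑ j ∈ T, (z i ^ v) ^ j ∈ rootField n := fun i => by
    obtain ⟨r, hr⟩ := exists_rat_sum (p := p) (a := a) (w := z i ^ v) (by
      rw [← pow_mul]
      obtain ⟨t, ht⟩ := Nat.modEq_zero_iff_dvd.1 hv0
      rw [ht, show n * t * p ^ (a + 1) = p ^ (a + 1) * n * t by ring, pow_mul, hzN i, one_pow])
    rw [hr]
    refine mul_mem (mem_rootField hn0 ?_) (eq_ratCast (algebraMap ℚ ℂ) r ▸
      (rootField n).algebraMap_mem r)
    rw [← pow_mul]
    obtain ⟨t, ht⟩ := Nat.modEq_zero_iff_dvd.1 hu0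
    rw [ht, show p ^ (a + 1) * t * n = p ^ (a + 1) * n * t by ring, pow_mul, hzN i, one_pow]
  have h := (rootField n).sum_mem (t := Finset.univ) fun i _ => hmem i
  rw [← hsum] at h
  have hc0 : (T.card : ℂ) ≠ 0 := Nat.cast_ne_zero.2 hT.card_pos.ne'
  have := mul_mem (inv_mem (natCast_mem (rootField n) T.card)) h
  rwa [inv_mul_cancel_left₀ hc0] at this

end Cfsg.Agent.DegreeGraph.PRational
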