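import Cfsg.Agent.DegreeGraph.IsoBlock
import Cfsg.Agent.Core.Schmidt
import Mathlib.GroupTheory.SchurZassenhaus

/-!
An extendible member of the principal block of a normal subgroup, supplemented by the centralizer of
its Sylow `p`-subgroup, extends into the principal block.
-/

namespace Cfsg.Agent.DegreeGraph.IsoBlock

open Cfsg Cfsg.Agent
open scoped ComplexConjugate

set_option linter.style.haveILetI false
set_option linter.unusedSectionVars false

universe u

variable {p : ℕ} {M : Ideal AlgInt} [Fact p.Prime] [M.IsMaximal]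

/-- The `p'`-part of an element. -/
noncomputable def regOf (p : ℕ) {G : Type u} [Group G] (g : G) : G := (Blocks.ppart p g)⁻¹ * g

theorem regOf_spec {G : Type u} [Group G] [Finite G] (g : G) : ¬ p ∣ orderOf (regOf p g) := by
  obtain ⟨y, hy, -, -, hy'⟩ := Blocks.isPPart_ppart (p := p) g
  have : regOf p g = y := by rw [regOf, inv_mul_eq_iff_eq_mul, hy]
  rwa [this]

theorem regOf_of_regular {G : Type u} [Group G] [Finite G] {g : G} (hg : ¬ p ∣ orderOf g) :
    regOf p g = g := by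
  rw [regOf, Blocks.ppart_one_iff.2 hg, inv_one, one_mul]

theorem regOf_map {G H : Type u} [Group G] [Finite G] [Group H] [Finite H] (f : H →* G)
    (hf : Function.Injective f) (h : H) : regOf p (f h) = f (regOf p h) := by
  obtain ⟨y, hy, hc, ⟨k, hk⟩, hy'⟩ := Blocks.isPPart_ppart (p := p) h
  have : Blocks.ppart p (f h) = f (Blocks.ppart p h) :=
    (Blocks.eq_ppart ⟨f y, by rw [← map_mul, hy], hc.map f,
      ⟨k, by rw [orderOf_injective f hf, hk]⟩, by rwa [orderOf_injective f hf]⟩).symm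
  rw [regOf, regOf, this, map_mul, map_inv]

theorem regOf_conj {G : Type u} [Group G] [Finite G] (x g : G) :
    regOf p (x * g * x⁻¹) = x * regOf p g * x⁻¹ := by
  rw [regOf, regOf, Blocks.ppart_conj]; group

/-- In an elementary group taking `p'`-parts is multiplicative. -/
theorem regOf_mul_of_elementary {E : Type u} [Group E] [Finite E] {q : ℕ} (hq : q.Prime)
    (hE : IsElementary q E) :
    ∃ K : Subgroup E, ¬ p ∣ Nat.card K ∧ (∀ e, regOf p e ∈ K) ∧
      ∀ a b : E, regOf p (a * b) = regOf p a * regOf p b := by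
  haveI := Fact.mk hq
  have hp := (Fact.out : p.Prime)
  obtain ⟨z, hz, hzq, k, hk⟩ := hE
  have hle : Subgroup.zpowers z ≤ Subgroup.center E := Subgroup.zpowers_le.2 hz
  haveI hZn : (Subgroup.zpowers z).Normal :=
    ⟨fun y hy g => by rw [(Subgroup.mem_center_iff.1 (hle hy) g), mul_inv_cancel_right]; exact hy⟩
  have hcardZ : Nat.card (E ⧸ Subgroup.zpowers z) = q ^ k := by rw [← Subgroup.index_eq_card, hk]
  have hmem : ∀ x : E, (orderOf x).Coprime q → x ∈ Subgroup.zpowers z := fun x hx =>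
    (QuotientGroup.eq_one_iff x).1 (orderOf_eq_one_iff.1 (Nat.eq_one_of_dvd_coprimes
      (Nat.Coprime.pow_right k hx) (orderOf_map_dvd (QuotientGroup.mk' _) x)
      (hcardZ ▸ orderOf_dvd_natCard _)))
  have hcomm : ∀ t y : E, (∃ i : ℕ, orderOf t = p ^ i) → ¬ p ∣ orderOf y → Commute t y := by
    rintro t y ⟨i, ht⟩ hy
    by_cases hpq : p = q
    · have := hle (hmem y (hpq ▸ (hp.coprime_iff_not_dvd.2 hy).symm))
      exact Subgroup.mem_center_iff.1 this t
    · have := hle (hmem t (ht ▸ Nat.Coprime.pow_left i ((Nat.coprime_primes hp hq).2 hpq)))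
      exact (Subgroup.mem_center_iff.1 this y).symm
  have hQ : IsPGroup q (E ⧸ Subgroup.zpowers z) := IsPGroup.of_card hcardZ
  haveI : Group.IsNilpotent (E ⧸ Subgroup.zpowers z) := hQ.isNilpotent
  have hnil : Group.IsNilpotent E :=
    Subgroup.isNilpotent_of_ker_le_center (QuotientGroup.mk' (Subgroup.zpowers z))
      (by rw [QuotientGroup.ker_mk']; exact hle)
  obtain ⟨S⟩ : Nonempty (Sylow p E) := inferInstance
  haveI hSn : (S : Subgroup E).Normal :=
    (Core.isNilpotent_iff_forall_sylow_normal (G := E)).mp hnil p inferInstance S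
  obtain ⟨i, hi⟩ := IsPGroup.iff_card.1 S.isPGroup'
  have hSi : ¬ p ∣ (S : Subgroup E).index := S.not_dvd_index' Subgroup.index_ne_zero_of_finite
  obtain ⟨K, hK⟩ := Subgroup.exists_right_complement'_of_coprime (N := (S : Subgroup E))
    (hi ▸ Nat.Coprime.pow_left i (hp.coprime_iff_not_dvd.2 hSi))
  have hKc : ¬ p ∣ Nat.card K := by rwa [← hK.symm.index_eq_card]
  have hKreg : ∀ y ∈ K, ¬ p ∣ orderOf y := fun y hy h =>
    hKc (h.trans (Subgroup.orderOf_dvd_natCard _ hy))
  have hSp : ∀ t ∈ (S : Subgroup E), ∃ j : ℕ, orderOf t = p ^ j := fun t ht => by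
    obtain ⟨j, hj⟩ := IsPGroup.iff_orderOf.1 S.isPGroup' ⟨t, ht⟩
    exact ⟨j, by rw [← hj, Subgroup.orderOf_mk]⟩
  have hdec : ∀ e : E, ∃ t ∈ (S : Subgroup E), ∃ y ∈ K, e = t * y := fun e => by
    obtain ⟨⟨⟨t, ht⟩, ⟨y, hy⟩⟩, he, -⟩ := Subgroup.IsComplement.existsUnique hK e
    exact ⟨t, ht, y, hy, he.symm⟩
  have hreg : ∀ t ∈ (S : Subgroup E), ∀ y ∈ K, regOf p (t * y) = y := fun t ht y hy => by
    rw [regOf, Blocks.ppart_mul (hcomm t y (hSp t ht) (hKreg y hy)) (hSp t ht) (hKreg y hy),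
      inv_mul_cancel_left]
  refine ⟨K, hKc, fun e => ?_, fun a b => ?_⟩
  · obtain ⟨t, ht, y, hy, rfl⟩ := hdec e
    rw [hreg t ht y hy]; exact hy
  · obtain ⟨t, ht, y, hy, rfl⟩ := hdec a
    obtain ⟨t', ht', y', hy', rfl⟩ := hdec b
    rw [hreg t ht y hy, hreg t' ht' y' hy', show t * y * (t' * y') = t * t' * (y * y') by
      rw [mul_assoc, ← mul_assoc y, ← (hcomm t' y (hSp t' ht') (hKreg y hy)).eq]
      group]
    exact hreg _ (mul_mem ht ht') _ (mul_mem hy hy')

variable {G : Type u} [Group G] [Fintype G] {N : Subgroup G} [N.Normal] [Fintype N]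

/-- The `p'`-elements lie in the product of `N` and the centralizer of `P`. -/
def RegIn (p : ℕ) (N P : Subgroup G) : Prop :=
  ∀ g : G, ¬ p ∣ orderOf g → g ∈ N ⊔ Subgroup.centralizer (P : Set G)

/-- A twist of the restriction of `χ₀` lying in the principal block. -/
def Tw (M : Ideal AlgInt) (N : Subgroup G) (χ₀ : G → ℂ) (U : Subgroup G) (ν : U →* ℂˣ) : Prop :=
  (∀ x : U, (x : G) ∈ N → ν x = 1) ∧
    ∃ ξ : IrrCharacter U, ξ ∈ principalBlock M U ∧ ∀ x : U, (ξ : U → ℂ) x = (ν x : ℂ) * χ₀ x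

theorem local_hyp {P : Subgroup G} (hPN : P ≤ N) (hPN' : ¬ p ∣ P.relIndex N)
    (hreg : RegIn p N P) {H : Subgroup G} (hNH : N ≤ H)
    (hH : ¬ p ∣ N.relIndex H) :
    ¬ p ∣ (P.subgroupOf H).index ∧
      N.subgroupOf H ⊔ Subgroup.centralizer ((P.subgroupOf H : Subgroup H) : Set H) = ⊤ := by
  refine ⟨fun h => ?_, top_unique fun x _ => ?_⟩
  · change p ∣ P.relIndex H at h
    rw [← Subgroup.relIndex_mul_relIndex P N H hPN hNH] at h
    exact ((Fact.out : p.Prime).dvd_mul.1 h).elim hPN' hH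
  have hx : (x : G) ∈ N ⊔ Subgroup.centralizer (P : Set G) := by
    obtain ⟨y, hy, -, ⟨i, hi⟩, hy'⟩ := Blocks.isPPart_ppart (p := p) (x : G)
    have hxpH : Blocks.ppart p (x : G) ∈ H := H.pow_mem x.2 _
    have hr : Blocks.ppart p (x : G) ^ N.relIndex H ∈ N :=
      (N.subgroupOf H).pow_index_mem ⟨_, hxpH⟩
    obtain ⟨k, hk⟩ := exists_pow_eq_self_of_coprime (n := N.relIndex H)
      (x := Blocks.ppart p (x : G))
      (hi ▸ ((Nat.Prime.coprime_iff_not_dvd Fact.out).2 hH).symm.pow_right i)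
    rw [← hy]
    exact Subgroup.mul_mem _ (Subgroup.mem_sup_left (hk ▸ N.pow_mem hr k)) (hreg y hy')
  obtain ⟨n, hn, c, hc, he⟩ := Subgroup.mem_sup_of_normal_left.1 hx
  have hcH : c ∈ H := by
    have := H.mul_mem (H.inv_mem (hNH hn)) x.2
    rwa [← he, inv_mul_cancel_left] at this
  rw [show x = (⟨n, hNH hn⟩ : H) * ⟨c, hcH⟩ from Subtype.ext he.symm]
  exact Subgroup.mul_mem _ (Subgroup.mem_sup_left hn) (Subgroup.mem_sup_right
    (Subgroup.mem_centralizer_iff.2 fun y hy =>
      Subtype.ext (Subgroup.mem_centralizer_iff.1 hc _ hy)))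

theorem exists_tw (hpM : (p : AlgInt) ∈ M) {P : Subgroup G} (hPN : P ≤ N)
    (hPN' : ¬ p ∣ P.relIndex N) (hreg : RegIn p N P)
    {θ : IrrCharacter N} (hθ : θ ∈ principalBlock M N) {χ₀ : IrrCharacter G}
    (hext : ∀ n : N, (χ₀ : G → ℂ) n = (θ : N → ℂ) n) {U : Subgroup G} [Fintype U] (hNU : N ≤ U)
    (hU : ¬ p ∣ N.relIndex U) : ∃ ν : U →* ℂˣ, Tw M N (χ₀ : G → ℂ) U ν := by
  classical
  haveI : Fintype (N.subgroupOf U) := Fintype.ofFinite _
  obtain ⟨h3, h4⟩ := local_hyp hPN hPN' hreg hNU hU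
  let e := Subgroup.subgroupOfEquivOfLe hNU
  obtain ⟨ξ, hξ, hξN⟩ := exists_ext hpM (G := U) hU (fun x hx => hPN hx) h3 h4
    (principal_transport hNU hθ)
  haveI := Fintype.ofFinite (U ⧸ N.subgroupOf U)
  have hinv : Chars2.inertiaSub ((θ : N → ℂ) ∘ e) = ⊤ := Chars2.inertiaSub_eq_top fun x n => by
    have h1 := hξN ⟨x * (n : U) * x⁻¹, Subgroup.Normal.conj_mem inferInstance _ n.2 x⟩
    have h2 := hξN n
    simp only [Chars.irrEquiv_apply] at h1 h2
    show (θ : N → ℂ) (e _) = (θ : N → ℂ) (e n)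
    rw [← h1, ← h2]
    exact Chars.isClassFunction_irr ξ (n : U) x
  obtain ⟨-, -, hsurj⟩ := ModFix.gallagher_hom (QuotientGroup.mk' (N.subgroupOf U))
    (QuotientGroup.mk'_surjective _) (QuotientGroup.ker_mk' _)
    (Chars.isIrrCharacter_comp_equiv θ.2 e) hinv (isIrr_restrict hNU θ.2 χ₀ hext)
    (fun n => hext (e n))
  obtain ⟨γ, hγ⟩ := hsurj ξ (by
    rw [show (fun n : N.subgroupOf U => (ξ : U → ℂ) n) = (θ : N → ℂ) ∘ e from funext hξN,
      Chars.classInner_self_irr (Chars.isIrrCharacter_comp_equiv θ.2 e)]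
    exact one_ne_zero)
  have h1 : (γ : U ⧸ N.subgroupOf U → ℂ) 1 = 1 := by
    have e1 := hγ 1
    have e2 := hξN 1
    simp only [Subgroup.coe_one] at e1 e2
    rw [e2, Chars.irrEquiv_apply, map_one, map_one, ← hext, Subgroup.coe_one] at e1
    exact (mul_eq_right₀ (Chars.irr_apply_one_ne_zero χ₀.2)).1 e1.symm
  obtain ⟨l, hl⟩ := Chars.exists_hom_of_degree_one (Chars.irr_isCharacter γ) h1
  refine ⟨l.comp (QuotientGroup.mk' _), fun x hx => ?_, ξ, hξ, fun x => by
    rw [hγ, hl]; rfl⟩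
  rw [MonoidHom.comp_apply, show QuotientGroup.mk' (N.subgroupOf U) x = 1 from
    (QuotientGroup.eq_one_iff x).2 hx, map_one]

theorem tw_apply (hpM : (p : AlgInt) ∈ M) {P : Subgroup G} (hPN : P ≤ N)
    (hPN' : ¬ p ∣ P.relIndex N) (hreg : RegIn p N P)
    {θ : IrrCharacter N} {χ₀ : IrrCharacter G}
    (hext : ∀ n : N, (χ₀ : G → ℂ) n = (θ : N → ℂ) n) {U H : Subgroup G} [Fintype U] [Fintype H]
    (hNH : N ≤ H) (hHU : H ≤ U) (hU : ¬ p ∣ N.relIndex U) {ν : U →* ℂˣ} {μ : H →* ℂˣ}
    (hν : Tw M N (χ₀ : G → ℂ) U ν) (hμ : Tw M N (χ₀ : G → ℂ) H μ) (x : H) :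
    μ x = ν ⟨x, hHU x.2⟩ := by
  classical
  obtain ⟨hνN, ξ, hξ, hξv⟩ := hν
  obtain ⟨hμN, η, hη, hηv⟩ := hμ
  haveI : Fintype (N.subgroupOf H) := Fintype.ofFinite _
  have hH : ¬ p ∣ N.relIndex H := fun h =>
    hU (h.trans ⟨H.relIndex U, (Subgroup.relIndex_mul_relIndex N H U hNH hHU).symm⟩)
  obtain ⟨hu3, -⟩ := local_hyp hPN hPN' hreg (hNH.trans hHU) hU
  obtain ⟨h3, h4⟩ := local_hyp hPN hPN' hreg hNH hH
  let e := Subgroup.subgroupOfEquivOfLe hNH
  have hirr := isIrr_restrict hNH θ.2 χ₀ hext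
  have h1 : IsIrrCharacter H (fun y : H => (ν ⟨y, hHU y.2⟩ : ℂ) * (χ₀ : G → ℂ) y) :=
    Chars.isIrrCharacter_mul_hom hirr (ν.comp (Subgroup.inclusion hHU))
  have hNval : ∀ n : N.subgroupOf H, ((n : H) : G) ∈ N := fun n => n.2
  have heq : η = ⟨_, h1⟩ := eq_of_ratioOne hpM hH h4 (Chars.isIrrCharacter_comp_equiv θ.2 e)
    (χ := ⟨_, h1⟩)
    (fun n => by
      show (ν _ : ℂ) * _ = _
      rw [hνN ⟨((n : H) : G), hHU (n : H).2⟩ (hNval n), Units.val_one, one_mul]
      exact hext (e n))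
    (fun c hc => by
      have := ratioOne_of_principal hpM hu3 hξ ⟨(c : G), hHU c.2⟩
        (Subgroup.mem_centralizer_iff.2 fun y hy => Subtype.ext (Subgroup.mem_centralizer_iff.1
          (mem_centralizer_sub (hPN.trans hNH) hc) _ hy))
      rwa [hξv, hξv] at this)
    (by
      rw [show (fun n : N.subgroupOf H => (η : H → ℂ) n) = (θ : N → ℂ) ∘ e from funext fun n => by
        rw [hηv, hμN _ (hNval n), Units.val_one, one_mul]; exact hext (e n),
        Chars.classInner_self_irr (Chars.isIrrCharacter_comp_equiv θ.2 e)]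
      exact one_ne_zero)
    (ratioOne_of_principal hpM h3 hη)
  haveI := Fintype.ofFinite (H ⧸ N.subgroupOf H)
  have hinv : Chars2.inertiaSub ((θ : N → ℂ) ∘ e) = ⊤ := Chars2.inertiaSub_eq_top fun y n => by
    show (θ : N → ℂ) _ = (θ : N → ℂ) _
    rw [← hext, ← hext]
    exact Chars.isClassFunction_irr χ₀ ((n : H) : G) (y : G)
  obtain ⟨-, hinj, -⟩ := ModFix.gallagher_hom (QuotientGroup.mk' (N.subgroupOf H))
    (QuotientGroup.mk'_surjective _) (QuotientGroup.ker_mk' _)
    (Chars.isIrrCharacter_comp_equiv θ.2 e) hinv hirr (fun n => hext (e n))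
  let μ' := QuotientGroup.lift (N.subgroupOf H) μ fun n hn => hμN n hn
  let ν' := QuotientGroup.lift (N.subgroupOf H) (ν.comp (Subgroup.inclusion hHU))
    fun n hn => hνN ⟨(n : G), hHU n.2⟩ hn
  have := hinj ⟨_, Chars.isIrrCharacter_hom μ'⟩ ⟨_, Chars.isIrrCharacter_hom ν'⟩ fun y => by
    show (μ y : ℂ) * _ = (ν ⟨y, hHU y.2⟩ : ℂ) * _
    rw [← hηv y, heq]
  exact Units.ext (congrFun (congrArg Subtype.val this) (x : H ⧸ N.subgroupOf H))

theorem relIndex_sup_zpowers_dvd (g : G) :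
    N.relIndex (N ⊔ Subgroup.zpowers g) ∣ orderOf g := by
  rw [sup_comm, Subgroup.relIndex_sup_right, ← Nat.card_zpowers]
  exact Subgroup.relIndex_dvd_card N (Subgroup.zpowers g)

/-- Locally principal characters are principal. -/
theorem mem_principal_of_local (hpM : (p : AlgInt) ∈ M) {χ : IrrCharacter G}
    (h : ∀ g : G, ¬ p ∣ orderOf g → ∀ [Fintype ↥(N ⊔ Subgroup.zpowers g)],
      ∃ η : IrrCharacter ↥(N ⊔ Subgroup.zpowers g),
        η ∈ principalBlock M ↥(N ⊔ Subgroup.zpowers g) ∧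
        (η : ↥(N ⊔ Subgroup.zpowers g) → ℂ) ⟨g, Subgroup.mem_sup_right (Subgroup.mem_zpowers g)⟩ =
          (χ : G → ℂ) g ∧ (η : ↥(N ⊔ Subgroup.zpowers g) → ℂ) 1 = (χ : G → ℂ) 1) :
    χ ∈ principalBlock M G := by
  classical
  have hloc : ∀ g : G, ¬ p ∣ orderOf g →
      MemLocalIdeal M (centralChar (fun _ : G => (1 : ℂ)) g - centralChar (χ : G → ℂ) g) := by
    intro g hg
    set H : Subgroup G := N ⊔ Subgroup.zpowers g with hH
    have hgH : g ∈ H := Subgroup.mem_sup_right (Subgroup.mem_zpowers g)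
    haveI : Fintype H := Fintype.ofFinite _
    obtain ⟨η, hη, hηg, hη1⟩ := h g hg
    have hloc := (mem_principalBlock_iff.1 hη) ⟨g, hgH⟩
    set C := Subgroup.centralizer ({g} : Set G) with hC
    have hCH : Subgroup.centralizer ({⟨g, hgH⟩} : Set H) = C.subgroupOf H := by
      ext x
      simp [hC, Subgroup.mem_subgroupOf, Subgroup.mem_centralizer_singleton_iff, Subtype.ext_iff]
    have hb0 : C.relIndex H ≠ 0 := Subgroup.index_ne_zero_of_finite
    have hle : (C.relIndex H).factorization p ≤ C.index.factorization p := by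
      have e1 : (C ⊓ H).index = C.relIndex H * H.index := by
        rw [← Subgroup.inf_relIndex_right, Subgroup.relIndex_mul_index inf_le_right]
      have e2 : (C ⊓ H).index = H.relIndex C * C.index := by
        rw [inf_comm, ← Subgroup.inf_relIndex_right, Subgroup.relIndex_mul_index inf_le_right]
      have hH0 : H.index ≠ 0 := Subgroup.index_ne_zero_of_finite
      have hr0 : H.relIndex C ≠ 0 := Subgroup.index_ne_zero_of_finite
      have hNC : H.relIndex C ∣ N.index :=
        (Subgroup.relIndex_dvd_of_le_left C le_sup_left).trans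
          (Subgroup.relIndex_dvd_index_of_normal N C)
      have hNH : ¬ p ∣ N.relIndex H := fun h' => hg (h'.trans (relIndex_sup_zpowers_dvd g))
      have h5 := congrArg (fun n : ℕ => n.factorization p)
        (Subgroup.relIndex_mul_index (le_sup_left : N ≤ H))
      rw [Nat.factorization_mul (show N.relIndex H ≠ 0 from Subgroup.index_ne_zero_of_finite) hH0,
        Finsupp.add_apply, Nat.factorization_eq_zero_of_not_dvd hNH, zero_add] at h5
      have h6 : (H.relIndex C).factorization p ≤ N.index.factorization p :=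
        Finsupp.le_def.1 ((Nat.factorization_le_iff_dvd hr0
          Subgroup.index_ne_zero_of_finite).2 hNC) p
      have e3 := congrArg (fun n : ℕ => n.factorization p) (e1.symm.trans e2)
      rw [Nat.factorization_mul hb0 hH0,
        Nat.factorization_mul hr0 Subgroup.index_ne_zero_of_finite, Finsupp.add_apply,
        Finsupp.add_apply] at e3
      omega
    have hR := Blocks.natRatio_memR hpM (Subgroup.index_ne_zero_of_finite (H := C)) hb0 hle
    have := Blocks.memI_mul_left hR hloc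
    convert this using 1
    simp only [centralChar, hCH, hηg, hη1, div_one, mul_one,
      show (C.subgroupOf H).index = C.relIndex H from rfl, ← hC]
    have : (C.relIndex H : ℂ) ≠ 0 := Nat.cast_ne_zero.2 hb0
    field_simp
  by_contra hχ
  have hB : IsPBlock M (principalBlock M G) := Blocks.isPBlock_principal
  set f := blockCoeff (principalBlock M G) with hf
  have h1 : MemLocalIdeal M
      (Blocks.omega ((Blocks.oneChar G : IrrCharacter G) : G → ℂ) f -
        Blocks.omega (χ : G → ℂ) f) := by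
    rw [Blocks.omega_eq_sum_clsFun (Chars.isClassFunction_irr _)
        (Blocks.isClassFunction_blockCoeff _),
      Blocks.omega_eq_sum_clsFun (Chars.isClassFunction_irr χ)
        (Blocks.isClassFunction_blockCoeff _), ← Finset.sum_sub_distrib]
    refine Blocks.memI_sum _ _ fun K _ => ?_
    rw [← mul_sub]
    by_cases hK : p ∣ orderOf (Blocks.clsRep K)
    · rw [Blocks.blockCoeff_eq_zero_of_dvd hpM hB hK, zero_mul]; exact Blocks.memI_zero
    · exact Blocks.memI_mul_left (Blocks.rFun_blockCoeff hpM hB _) (hloc _ hK)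
  rw [hf, Blocks.omega_blockCoeff_mem Blocks.one_mem_principal,
    Blocks.omega_blockCoeff_not_mem hχ, sub_zero] at h1
  exact Blocks.not_memI_one h1

/-- An extendible member of the principal block extends into the principal block, compatibly with
all intermediate subgroups. -/
theorem exists_ext_principal_of_regular (hpM : (p : AlgInt) ∈ M) {P : Subgroup G} (hPN : P ≤ N)
    (hPN' : ¬ p ∣ P.relIndex N) (hreg : RegIn p N P)
    {θ : IrrCharacter N} (hθ : θ ∈ principalBlock M N) {χ₀ : IrrCharacter G}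
    (hext : ∀ n : N, (χ₀ : G → ℂ) n = (θ : N → ℂ) n) :
    ∃ χ : IrrCharacter G, χ ∈ principalBlock M G ∧ (∀ n : N, (χ : G → ℂ) n = (θ : N → ℂ) n) ∧
      ∀ J : Subgroup G, N ≤ J → ∃ ξ : IrrCharacter J, ξ ∈ principalBlock M J ∧
        ∀ y : J, (ξ : J → ℂ) y = (χ : G → ℂ) y := by
  classical
  haveI : ∀ H : Subgroup G, Fintype H := fun H => Fintype.ofFinite _
  have hU : ∀ g : G, ¬ p ∣ orderOf g → ¬ p ∣ N.relIndex (N ⊔ Subgroup.zpowers g) :=
    fun g hg h => hg (h.trans (relIndex_sup_zpowers_dvd g))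
  choose ν hν using fun g : G => exists_tw hpM hPN hPN' hreg hθ hext
    (le_sup_left : N ≤ N ⊔ Subgroup.zpowers (regOf p g)) (hU _ (regOf_spec g))
  let L : G → ℂ := fun g => (ν g ⟨regOf p g, Subgroup.mem_sup_right (Subgroup.mem_zpowers _)⟩ : ℂ)
  have hL : ∀ (U : Subgroup G) (hU : ¬ p ∣ N.relIndex U) (μ : U →* ℂˣ), N ≤ U →
      Tw M N (χ₀ : G → ℂ) U μ → ∀ (g : G) (hg : regOf p g ∈ U), L g = (μ ⟨regOf p g, hg⟩ : ℂ) := by
    intro U hU μ hNU hμ g hg
    exact congrArg Units.val (tw_apply hpM hPN hPN' hreg hext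
      (le_sup_left : N ≤ N ⊔ Subgroup.zpowers (regOf p g))
      (sup_le hNU (Subgroup.zpowers_le.2 hg)) hU hμ (hν g) _)
  have hLc : IsClassFunction G L := by
    intro g x
    set H : Subgroup G := N ⊔ Subgroup.zpowers (regOf p g) with hH
    set H' : Subgroup G := N ⊔ Subgroup.zpowers (regOf p (x * g * x⁻¹)) with hH'
    have hmap : H.map (MulAut.conj x).toMonoidHom = H' := by
      rw [hH, Subgroup.map_sup, MonoidHom.map_zpowers, hH', regOf_conj]
      congr 1
      ext y
      rw [Subgroup.mem_map]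
      constructor
      · rintro ⟨z, hz, rfl⟩; exact ‹N.Normal›.conj_mem z hz x
      · intro hy
        refine ⟨x⁻¹ * y * x, ?_, by simp [mul_assoc]⟩
        simpa using ‹N.Normal›.conj_mem y hy x⁻¹
    let c : H' ≃* H :=
      ((MulEquiv.subgroupMap (MulAut.conj x) H).trans (MulEquiv.subgroupCongr hmap)).symm
    have hval : ∀ y : H', ((c y : H) : G) = x⁻¹ * y * x := fun y => by
      have h := congrArg Subtype.val (c.symm_apply_apply y)
      change x * ((c y : H) : G) * x⁻¹ = (y : G) at h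
      rw [← h]; group
    obtain ⟨hνN, ξ, hξ, hξv⟩ := hν g
    have htw : Tw M N (χ₀ : G → ℂ) H' ((ν g).comp c.toMonoidHom) := by
      refine ⟨fun y hy => hνN _ ?_, Chars.irrEquiv c ξ,
        mem_principal_of_surjective c.toMonoidHom c.surjective hξ rfl, fun y => ?_⟩
      · show ((c y : H) : G) ∈ N
        rw [hval]; simpa using ‹N.Normal›.conj_mem _ hy x⁻¹
      · show (ξ : H → ℂ) (c y) = _
        rw [hξv, hval]
        congr 1
        have := Chars.isClassFunction_irr χ₀ (y : G) x⁻¹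
        rwa [inv_inv] at this
    rw [hL H' (hU _ (regOf_spec _)) _ le_sup_left htw (x * g * x⁻¹)
      (Subgroup.mem_sup_right (Subgroup.mem_zpowers _))]
    show ((ν g) (c ⟨regOf p (x * g * x⁻¹), _⟩) : ℂ) = L g
    refine congrArg (fun y => ((ν g y : ℂˣ) : ℂ)) (Subtype.ext ?_)
    rw [hval]
    show x⁻¹ * regOf p (x * g * x⁻¹) * x = regOf p g
    rw [regOf_conj]; group
  have hgen : IsGeneralizedCharacter G L := by
    refine Chars.isGen_of_elementary hLc fun E q hq hE => ?_
    obtain ⟨K, hKc, hKmem, hKmul⟩ := regOf_mul_of_elementary (p := p) hq hE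
    set U : Subgroup G := N ⊔ K.map E.subtype with hUdef
    have hUi : ¬ p ∣ N.relIndex U := fun h => hKc (by
      rw [hUdef, sup_comm, Subgroup.relIndex_sup_right] at h
      have := h.trans (Subgroup.relIndex_dvd_card N (K.map E.subtype))
      rwa [Subgroup.card_map_of_injective E.subtype_injective] at this)
    obtain ⟨μ, hμ⟩ := exists_tw hpM hPN hPN' hreg hθ hext (le_sup_left : N ≤ U) hUi
    have hmem : ∀ e : E, regOf p (e : G) ∈ U := fun e => by
      rw [show regOf p (e : G) = ((regOf p e : E) : G) from regOf_map E.subtype E.subtype_injective e]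
      exact Subgroup.mem_sup_right ⟨_, hKmem e, rfl⟩
    let l : E →* ℂˣ := MonoidHom.mk' (fun e => μ ⟨regOf p (e : G), hmem e⟩) fun a b => by
      rw [← map_mul]
      refine congrArg μ (Subtype.ext ?_)
      show regOf p ((a * b : E) : G) = regOf p (a : G) * regOf p (b : G)
      rw [show ∀ e : E, regOf p (e : G) = ((regOf p e : E) : G) from
        fun e => regOf_map E.subtype E.subtype_injective e, hKmul]
      simp [show ∀ e : E, regOf p (e : G) = ((regOf p e : E) : G) from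
        fun e => regOf_map E.subtype E.subtype_injective e]
    rw [show (fun e : E => L e) = fun e : E => (l e : ℂ) from
      funext fun e => hL U hUi μ le_sup_left hμ e (hmem e)]
    exact Chars.isGen_of_isCharacter (Chars.isCharacter_hom l)
  have hnorm : ∀ g, L g * conj (L g) = 1 := by
    intro g
    set y : ↥(N ⊔ Subgroup.zpowers (regOf p g)) :=
      ⟨regOf p g, Subgroup.mem_sup_right (Subgroup.mem_zpowers _)⟩
    have hfin : ((ν g y : ℂˣ) : ℂ) ^ orderOf y = 1 := by
      rw [← Units.val_pow_eq_pow_val, ← map_pow, pow_orderOf_eq_one, map_one, Units.val_one]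
    show ((ν g y : ℂˣ) : ℂ) * conj ((ν g y : ℂˣ) : ℂ) = 1
    rw [Complex.mul_conj, Complex.normSq_eq_norm_sq,
      Complex.norm_eq_one_of_pow_eq_one hfin (orderOf_pos _).ne']
    simp
  have hL1 : ∀ n : G, regOf p n ∈ N → L n = 1 := fun n hn => by
    show ((ν n _ : ℂˣ) : ℂ) = 1
    rw [(hν n).1 _ hn, Units.val_one]
  have hone : L 1 = 1 := hL1 1 (by
    rw [regOf_of_regular (by simpa using (Fact.out : p.Prime).not_dvd_one)]; exact N.one_mem)
  have hLirr : IsIrrCharacter G L := by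
    have hLL : classInner L L = 1 := by
      rw [Chars.classInner_def]
      simp [hnorm]
    rcases Chars.isIrrCharacter_of_gen_norm_one hgen hLL with h | h
    · exact h
    · exfalso
      obtain ⟨d, hd0, hd⟩ := Chars.exists_irr_apply_one_eq h
      rw [Pi.neg_apply, hone] at hd
      have h2 : ((d + 1 : ℕ) : ℂ) = 0 := by push_cast; linear_combination -hd
      exact absurd (Nat.cast_eq_zero.1 h2) (by omega)
  obtain ⟨lam, hlam⟩ := Chars.exists_hom_of_degree_one (Chars.isCharacter_of_isIrr hLirr) hone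
  let χ : IrrCharacter G := ⟨_, Chars.isIrrCharacter_mul_hom χ₀.2 lam⟩
  have hχ : ∀ g, (χ : G → ℂ) g = L g * (χ₀ : G → ℂ) g := fun g => by
    show (lam g : ℂ) * _ = _
    rw [hlam]
  have hχN : ∀ n : N, (χ : G → ℂ) n = (θ : N → ℂ) n := fun n => by
    rw [hχ, hL1 n (by rw [regOf, Blocks.ppart]; exact N.mul_mem (N.inv_mem (N.pow_mem n.2 _)) n.2),
      one_mul, hext]
  have hlocal : ∀ g : G, ¬ p ∣ orderOf g → ∃ η : IrrCharacter ↥(N ⊔ Subgroup.zpowers g),
      η ∈ principalBlock M ↥(N ⊔ Subgroup.zpowers g) ∧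
      (η : ↥(N ⊔ Subgroup.zpowers g) → ℂ) ⟨g, Subgroup.mem_sup_right (Subgroup.mem_zpowers g)⟩ =
        (χ : G → ℂ) g ∧ (η : ↥(N ⊔ Subgroup.zpowers g) → ℂ) 1 = (χ : G → ℂ) 1 := by
    intro g hg
    obtain ⟨μ, hμ⟩ := exists_tw hpM hPN hPN' hreg hθ hext
      (le_sup_left : N ≤ N ⊔ Subgroup.zpowers g) (hU g hg)
    have hrg := regOf_of_regular hg
    have hval := hL _ (hU g hg) μ le_sup_left hμ g
      (by rw [hrg]; exact Subgroup.mem_sup_right (Subgroup.mem_zpowers g))
    simp only [hrg] at hval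
    obtain ⟨-, η, hη, hηv⟩ := hμ
    refine ⟨η, hη, by rw [hηv, hχ, hval], ?_⟩
    rw [hηv, map_one, hχ, hone]
    simp
  refine ⟨χ, mem_principal_of_local (N := N) hpM fun g hg => ?_, hχN, fun J hJ => ?_⟩
  · intro _
    obtain ⟨η, h1, h2, h3⟩ := hlocal g hg
    exact ⟨η, h1, h2, h3⟩
  · haveI : Fintype (N.subgroupOf J) := Fintype.ofFinite _
    let ξ : IrrCharacter J := ⟨_, isIrr_restrict hJ θ.2 χ hχN⟩
    refine ⟨ξ, mem_principal_of_local (N := N.subgroupOf J) hpM fun y hy => ?_, fun y => rfl⟩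
    intro _
    obtain ⟨η, h1, h2, h3⟩ := hlocal (y : G) (by rwa [Subgroup.orderOf_coe])
    have hle : N ⊔ Subgroup.zpowers (y : G) ≤ J := sup_le hJ (Subgroup.zpowers_le.2 y.2)
    have heq : N.subgroupOf J ⊔ Subgroup.zpowers y = (N ⊔ Subgroup.zpowers (y : G)).subgroupOf J := by
      rw [Subgroup.subgroupOf_sup hJ (Subgroup.zpowers_le.2 y.2)]
      congr 1
      rw [show Subgroup.zpowers (y : G) = (Subgroup.zpowers y).map J.subtype from
        (MonoidHom.map_zpowers J.subtype y).symm]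
      exact (Subgroup.comap_map_eq_self_of_injective J.subtype_injective _).symm
    let e : ↥(N.subgroupOf J ⊔ Subgroup.zpowers y) ≃* ↥(N ⊔ Subgroup.zpowers (y : G)) :=
      (MulEquiv.subgroupCongr heq).trans (Subgroup.subgroupOfEquivOfLe hle)
    refine ⟨Chars.irrEquiv e η, mem_principal_of_surjective e.toMonoidHom e.surjective h1 rfl,
      ?_, ?_⟩
    · rw [Chars.irrEquiv_apply]; exact h2
    · rw [Chars.irrEquiv_apply, map_one]; exact h3

/-- An extendible member of the principal block extends into the principal block when the normal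
subgroup is supplemented by the centralizer. -/
theorem exists_ext_principal (hpM : (p : AlgInt) ∈ M) {P : Subgroup G} (hPN : P ≤ N)
    (hPN' : ¬ p ∣ P.relIndex N) (hsup : N ⊔ Subgroup.centralizer (P : Set G) = ⊤)
    {θ : IrrCharacter N} (hθ : θ ∈ principalBlock M N) {χ₀ : IrrCharacter G}
    (hext : ∀ n : N, (χ₀ : G → ℂ) n = (θ : N → ℂ) n) :
    ∃ χ : IrrCharacter G, χ ∈ principalBlock M G ∧ (∀ n : N, (χ : G → ℂ) n = (θ : N → ℂ) n) ∧
      ∀ J : Subgroup G, N ≤ J → ∃ ξ : IrrCharacter J, ξ ∈ principalBlock M J ∧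
        ∀ y : J, (ξ : J → ℂ) y = (χ : G → ℂ) y :=
  exists_ext_principal_of_regular hpM hPN hPN' (fun g _ => hsup.symm ▸ Subgroup.mem_top g) hθ hext

end Cfsg.Agent.DegreeGraph.IsoBlock
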