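import Cfsg.Agent.Blocks.Orth
import Cfsg.Agent.BlockChar.BrauerMap
import Cfsg.Agent.Chars.Linear
import Cfsg.Agent.Chars.Induced
import Mathlib.Algebra.CharP.Quotient

/-!
The idempotent of the principal block is a unit at `1`: the Brauer homomorphism to the centralizer
of a Sylow subgroup, pushed to its quotient of order prime to `p`.  Hence every linear character of
a Sylow subgroup lies under a character of degree prime to `p` in the principal block.
-/

namespace Cfsg.Agent.DegreeGraph

open Cfsg
open scoped ComplexConjugate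

set_option linter.style.haveILetI false
set_option linter.unusedSectionVars false

universe u

variable {G : Type u} [Group G] [Fintype G] {p : ℕ} [Fact p.Prime] {M : Ideal AlgInt} [M.IsMaximal]

/-- An invariant function on a set with an action of a `p`-group sums, modulo `M`, to its sum over
the fixed points. -/
theorem memI_sum_sub_fixed (hpM : (p : AlgInt) ∈ M) {α : Type*} [Fintype α] {P : Type*} [Group P]
    [MulAction P α] (hP : IsPGroup p P) (f : α → ℂ) (hR : ∀ a, MemLocalRing M (f a))
    (hf : ∀ (u : P) (a : α), f (u • a) = f a) [DecidablePred fun a : α => ∀ u : P, u • a = a] :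
    MemLocalIdeal M
      ((∑ a, f a) - ∑ a ∈ Finset.univ.filter (fun a : α => ∀ u : P, u • a = a), f a) := by
  have : CharP (Blocks.Res M) p :=
    (CharP.charP_iff_prime_eq_zero (Fact.out : p.Prime)).mpr (by
      rw [← map_natCast (Ideal.Quotient.mk M), Ideal.Quotient.eq_zero_iff_mem]; exact hpM)
  let g : α → Blocks.loc M := fun a => ⟨f a, hR a⟩
  have key := BlockChar.sum_eq_sum_fixed (k := Blocks.Res M) hP
    (fun a => Blocks.residue M (g a)) (fun u a => congrArg _ (Subtype.ext (hf u a)))
  rw [← map_sum, ← map_sum, Blocks.residue_eq_iff] at key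
  simpa [g, AddSubmonoidClass.coe_finset_sum] using key

/-- The elements centralizing a Sylow subgroup lying in it, inside the centralizer. -/
abbrev zSub (P : Sylow p G) : Subgroup ↥(Subgroup.centralizer ((P : Subgroup G) : Set G)) :=
  (P : Subgroup G).subgroupOf (Subgroup.centralizer ((P : Subgroup G) : Set G))

instance zSub_normal (P : Sylow p G) : (zSub P).Normal :=
  ⟨fun n hn c => by
    rw [Subgroup.mem_subgroupOf] at hn ⊢
    have := Subgroup.mem_centralizer_iff.1 c.2 _ hn
    rw [Subgroup.coe_mul, Subgroup.coe_mul, Subgroup.coe_inv, ← this, mul_inv_cancel_right]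
    exact hn⟩

theorem mem_zSub_of_pelement (P : Sylow p G)
    {c : ↥(Subgroup.centralizer ((P : Subgroup G) : Set G))} {k : ℕ}
    (hc : orderOf (c : G) = p ^ k) : c ∈ zSub P := by
  rw [Subgroup.mem_subgroupOf]
  have hz : IsPGroup p (Subgroup.zpowers (c : G)) :=
    IsPGroup.of_card (n := k) (by rw [Nat.card_zpowers, hc])
  have hn : (c : G) ∈ Subgroup.zpowers (c : G) ⊓
      Subgroup.normalizer ((P : Subgroup G) : Set G) :=
    ⟨Subgroup.mem_zpowers _, Subgroup.centralizer_le_normalizer _ c.2⟩
  exact ((hz.inf_normalizer_sylow P).le hn).2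

theorem not_dvd_card_quotient_zSub (P : Sylow p G) :
    ¬ p ∣ Nat.card (↥(Subgroup.centralizer ((P : Subgroup G) : Set G)) ⧸ zSub P) := by
  intro h
  obtain ⟨y, hy⟩ := exists_prime_orderOf_dvd_card' p h
  obtain ⟨c, rfl⟩ := QuotientGroup.mk'_surjective (zSub P) y
  have hmem : Blocks.ppart p c ∈ zSub P := by
    obtain ⟨k, hk⟩ := Blocks.exists_orderOf_ppart (p := p) c
    exact mem_zSub_of_pelement P (k := k) (by rw [Subgroup.orderOf_coe]; exact hk)
  rw [← (QuotientGroup.eq_one_iff (Blocks.ppart p c)), ← QuotientGroup.mk'_apply, Blocks.ppart,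
    map_pow] at hmem
  have h1 := orderOf_dvd_of_pow_eq_one hmem
  rw [hy] at h1
  have h0 : 1 ≤ (Nat.card ↥(Subgroup.centralizer ((P : Subgroup G) : Set G))).factorization p :=
    (Fact.out : p.Prime).factorization_pos_of_dvd Nat.card_pos.ne'
      (h.trans (Subgroup.card_quotient_dvd_card _))
  have h2 := ((Blocks.ppExp_spec (p := p)
    (G := ↥(Subgroup.centralizer ((P : Subgroup G) : Set G)))).1).of_dvd (dvd_pow_self p (by omega))
  exact (Fact.out : p.Prime).not_dvd_one ((h2.dvd_iff dvd_rfl).1 h1)

section push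

variable (P : Sylow p G)

/-- A function on the group, restricted to the centralizer of a Sylow subgroup and summed over the
cosets of the central Sylow subgroup. -/
noncomputable def pushC (f : G → ℂ)
    (y : ↥(Subgroup.centralizer ((P : Subgroup G) : Set G)) ⧸ zSub P) : ℂ := by
  classical
  exact ∑ c : ↥(Subgroup.centralizer ((P : Subgroup G) : Set G)),
    if (c : ↥(Subgroup.centralizer ((P : Subgroup G) : Set G)) ⧸ zSub P) = y then f c else 0

theorem sum_pushC [Fintype (↥(Subgroup.centralizer ((P : Subgroup G) : Set G)) ⧸ zSub P)]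
    [Fintype ↥(Subgroup.centralizer ((P : Subgroup G) : Set G))] (f : G → ℂ)
    (F : ↥(Subgroup.centralizer ((P : Subgroup G) : Set G)) ⧸ zSub P → ℂ) :
    ∑ y, pushC P f y * F y =
      ∑ c : ↥(Subgroup.centralizer ((P : Subgroup G) : Set G)), f c * F c := by
  classical
  simp only [pushC, Finset.sum_mul, ite_mul, zero_mul]
  rw [Finset.sum_comm]
  exact Finset.sum_congr (by ext; simp) fun c _ => by simp

theorem pushC_sub (f h : G → ℂ) : pushC P (f - h) = pushC P f - pushC P h := by
  classical
  funext y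
  simp only [pushC, Pi.sub_apply, ← Finset.sum_sub_distrib]
  exact Finset.sum_congr rfl fun c _ => by split_ifs <;> simp

theorem pushC_smul (a : ℂ) (f : G → ℂ) : pushC P (a • f) = a • pushC P f := by
  classical
  funext y
  simp only [pushC, Pi.smul_apply, smul_eq_mul, Finset.mul_sum]
  exact Finset.sum_congr rfl fun c _ => by split_ifs <;> simp

theorem pushC_add (f h : G → ℂ) : pushC P (f + h) = pushC P f + pushC P h := by
  classical
  funext y
  simp only [pushC, Pi.add_apply, ← Finset.sum_add_distrib]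
  exact Finset.sum_congr rfl fun c _ => by split_ifs <;> simp

theorem rFun_pushC {f : G → ℂ} (hf : Blocks.RFun M f) : Blocks.RFun M (pushC P f) := fun y => by
  classical
  exact Blocks.memR_sum _ _ fun c _ => by split_ifs; exacts [hf _, Blocks.memR_zero]

theorem iFun_pushC {f : G → ℂ} (hf : Blocks.IFun M f) : Blocks.IFun M (pushC P f) := fun y => by
  classical
  exact Blocks.memI_sum _ _ fun c _ => by split_ifs; exacts [hf _, Blocks.memI_zero]

theorem isClassFunction_pushC {f : G → ℂ} (hf : IsClassFunction G f) :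
    IsClassFunction _ (pushC P f) := fun y d => by
  classical
  obtain ⟨d, rfl⟩ := QuotientGroup.mk_surjective d
  unfold pushC
  refine (Fintype.sum_equiv (MulAut.conj d).toEquiv _ _ fun c => ?_).symm
  simp only [MulEquiv.toEquiv_eq_coe, EquivLike.coe_coe, MulAut.conj_apply, QuotientGroup.mk_mul,
    QuotientGroup.mk_inv, Subgroup.coe_mul, Subgroup.coe_inv, hf (c : G) (d : G),
    mul_left_inj, mul_right_inj]

theorem pushC_delta :
    pushC P (Blocks.delta G) = Blocks.delta (↥(Subgroup.centralizer ((P : Subgroup G) : Set G)) ⧸ zSub P) := by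
  classical
  funext y
  unfold pushC
  rw [Finset.sum_eq_single (1 : ↥(Subgroup.centralizer ((P : Subgroup G) : Set G)))]
  · simp [Blocks.delta_apply, eq_comm]; rfl
  · intro c _ hc
    rw [Blocks.delta_of_ne (fun h => hc (Subtype.ext h)), ite_self]
  · simp

/-- The Brauer homomorphism is multiplicative modulo `M`. -/
theorem memI_pushC_conv (hpM : (p : AlgInt) ∈ M)
    [Fintype (↥(Subgroup.centralizer ((P : Subgroup G) : Set G)) ⧸ zSub P)]
    {f h : G → ℂ} (hf : IsClassFunction G f)
    (hfR : Blocks.RFun M f) (hh : IsClassFunction G h) (hhR : Blocks.RFun M h)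
    (y : ↥(Subgroup.centralizer ((P : Subgroup G) : Set G)) ⧸ zSub P) :
    MemLocalIdeal M (pushC P (Blocks.conv f h) y -
      Blocks.conv (pushC P f) (pushC P h) y) := by
  classical
  have e : Blocks.conv (pushC P f) (pushC P h) y =
      ∑ c : ↥(Subgroup.centralizer ((P : Subgroup G) : Set G)),
        if (c : ↥(Subgroup.centralizer ((P : Subgroup G) : Set G)) ⧸ zSub P) = y then
          ∑ x : ↥(Subgroup.centralizer ((P : Subgroup G) : Set G)),
            f x * h ((x : G)⁻¹ * (c : G)) else 0 := by
    show ∑ z, pushC P f z * pushC P h (z⁻¹ * y) = _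
    rw [sum_pushC P f (fun z => pushC P h (z⁻¹ * y))]
    calc _ = ∑ x : ↥(Subgroup.centralizer ((P : Subgroup G) : Set G)),
          ∑ c : ↥(Subgroup.centralizer ((P : Subgroup G) : Set G)),
            if (c : ↥(Subgroup.centralizer ((P : Subgroup G) : Set G)) ⧸ zSub P) = y then
              f x * h ((x : G)⁻¹ * (c : G)) else 0 := by
          refine Finset.sum_congr (by ext; simp) fun x _ => ?_
          simp only [pushC, Finset.mul_sum, mul_ite, mul_zero]
          refine Fintype.sum_equiv (Equiv.mulLeft x) _ _ fun c => ?_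
          simp [eq_inv_mul_iff_mul_eq]
          rfl
      _ = _ := by
          rw [Finset.sum_comm]
          refine Finset.sum_congr rfl fun c _ => ?_
          split_ifs <;> simp
  rw [e]
  simp only [pushC, ← Finset.sum_sub_distrib]
  refine Blocks.memI_sum _ _ fun c _ => ?_
  split_ifs
  · let act : MulAction (P : Subgroup G) G := MulAction.compHom G
      (MulAut.conj.comp (P : Subgroup G).subtype)
    have hsm : ∀ (u : (P : Subgroup G)) (a : G),
        u • a = (u : G) * a * (u : G)⁻¹ := fun _ _ => rfl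
    have hcu : ∀ u : (P : Subgroup G), (u : G) * (c : G) * (u : G)⁻¹ = (c : G) := fun u => by
      rw [Subgroup.mem_centralizer_iff.1 c.2 _ u.2, mul_inv_cancel_right]
    have key := memI_sum_sub_fixed hpM P.isPGroup' (fun x : G => f x * h (x⁻¹ * (c : G)))
      (fun x => Blocks.memR_mul (hfR x) (hhR _)) (fun u x => by
        simp only [hsm]
        rw [hf x (u : G), ← hh (x⁻¹ * (c : G)) (u : G)]
        conv_lhs => rw [← hcu u]
        group)
    convert key using 1
    congr 1
    refine (Finset.sum_subtype _ (fun x => ?_) (fun x : G => f x * h (x⁻¹ * (c : G)))).symm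
    simp only [Finset.mem_filter, Finset.mem_univ, true_and, hsm,
      Subgroup.mem_centralizer_iff, mul_inv_eq_iff_eq_mul, Subtype.forall, SetLike.mem_coe]
  · rw [sub_zero]; exact Blocks.memI_zero

/-- The Brauer functional of an irreducible character of the quotient. -/
theorem memI_omega_pushC_conv (hpM : (p : AlgInt) ∈ M)
    [Fintype (↥(Subgroup.centralizer ((P : Subgroup G) : Set G)) ⧸ zSub P)]
    (ψ : IrrCharacter (↥(Subgroup.centralizer ((P : Subgroup G) : Set G)) ⧸ zSub P))
    {f h : G → ℂ} (hf : IsClassFunction G f) (hfR : Blocks.RFun M f) (hh : IsClassFunction G h)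
    (hhR : Blocks.RFun M h) :
    MemLocalIdeal M (Blocks.omega (ψ : _ → ℂ) (pushC P (Blocks.conv f h)) -
      Blocks.omega (ψ : _ → ℂ) (pushC P f) * Blocks.omega (ψ : _ → ℂ) (pushC P h)) := by
  rw [← Blocks.omega_conv ψ.2 (isClassFunction_pushC P hf) (isClassFunction_pushC P hh),
    ← Blocks.omega_sub]
  exact Blocks.omega_memI hpM ψ.2 (Chars.isClassFunction_sub
    (isClassFunction_pushC P (Blocks.isClassFunction_conv hf hh))
    (Blocks.isClassFunction_conv (isClassFunction_pushC P hf) (isClassFunction_pushC P hh)))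
    (fun y => memI_pushC_conv P hpM hf hfR hh hhR y)

end push

/-- The idempotent of the principal block is a unit at the identity. -/
theorem not_memI_blockCoeff_principal (hpM : (p : AlgInt) ∈ M) :
    ¬ MemLocalIdeal M (blockCoeff (principalBlock M G) (1 : G)) := by
  classical
  obtain ⟨P⟩ : Nonempty (Sylow p G) := inferInstance
  let Q := ↥(Subgroup.centralizer ((P : Subgroup G) : Set G)) ⧸ zSub P
  haveI : Fintype Q := Fintype.ofFinite Q
  set e := blockCoeff (principalBlock M G) with he
  have hB : IsPBlock M (principalBlock M G) := Blocks.isPBlock_principal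
  have hec : IsClassFunction G e := Blocks.isClassFunction_blockCoeff _
  have heR : Blocks.RFun M e := Blocks.rFun_blockCoeff hpM hB
  have hsupp : ∀ x : G, p ∣ orderOf x → e x = 0 := fun x hx =>
    Blocks.blockCoeff_eq_zero_of_dvd hpM hB hx
  let R : Set G := {x | ∃ c ∈ Subgroup.centralizer ((P : Subgroup G) : Set G),
    IsConj c x ∧ ¬ p ∣ orderOf c}
  let f : G → ℂ := fun x => if x ∈ R then 1 else 0
  have hreg : ∀ {a b : G}, IsConj a b → (p ∣ orderOf a ↔ p ∣ orderOf b) := fun {a b} hab => by
    obtain ⟨d, rfl⟩ := isConj_iff.1 hab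
    rw [← MulAut.conj_apply, MulEquiv.orderOf_eq]
  have hfc : IsClassFunction G f := fun x d => by
    have : d * x * d⁻¹ ∈ R ↔ x ∈ R := by
      have hx : IsConj x (d * x * d⁻¹) := isConj_iff.2 ⟨d, rfl⟩
      exact ⟨fun ⟨c, h1, h2, h3⟩ => ⟨c, h1, h2.trans hx.symm, h3⟩,
        fun ⟨c, h1, h2, h3⟩ => ⟨c, h1, h2.trans hx, h3⟩⟩
    simp only [f, this]
  have hfR : Blocks.RFun M f := fun x => by
    simp only [f]; split_ifs; exacts [Blocks.memR_one, Blocks.memR_zero]
  have hfC : ∀ c : ↥(Subgroup.centralizer ((P : Subgroup G) : Set G)),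
      f c = if ¬ p ∣ orderOf (c : G) then 1 else 0 := fun c => by
    have : (c : G) ∈ R ↔ ¬ p ∣ orderOf (c : G) :=
      ⟨fun ⟨d, _, h2, h3⟩ h => h3 ((hreg h2).2 h), fun h => ⟨c, c.2, IsConj.refl _, h⟩⟩
    simp only [f, this]
  have hJ : pushC P f = fun _ => 1 := by
    funext y
    obtain ⟨c, rfl⟩ := QuotientGroup.mk_surjective y
    obtain ⟨w, hcw, hcomm, hpp, hw⟩ := Blocks.isPPart_ppart (p := p) c
    obtain ⟨k, hk⟩ := hpp
    have hz : Blocks.ppart p c ∈ zSub P :=
      mem_zSub_of_pelement P (k := k) (by rw [Subgroup.orderOf_coe]; exact hk)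
    have hcy : (w : Q) = (c : Q) := by
      rw [← hcw, QuotientGroup.mk_mul, (QuotientGroup.eq_one_iff _).2 hz, one_mul]
    unfold pushC
    rw [Finset.sum_eq_single w]
    · rw [if_pos hcy, hfC, if_pos (by rwa [Subgroup.orderOf_coe])]
    · intro d _ hd
      split_ifs with hdy
      · rw [hfC, if_neg]
        intro hdr
        apply hd
        have h1 : d⁻¹ * w ∈ zSub P := QuotientGroup.eq.1 (hdy.trans hcy.symm)
        have h1' := Subgroup.mem_subgroupOf.1 h1
        obtain ⟨j, hj⟩ := IsPGroup.iff_orderOf.1 P.isPGroup' ⟨_, h1'⟩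
        rw [Subgroup.orderOf_mk] at hj
        have hc1 : Commute (d : G) (((d⁻¹ * w : _) :
            ↥(Subgroup.centralizer ((P : Subgroup G) : Set G))) : G) :=
          (Subgroup.mem_centralizer_iff.1 d.2 _ h1').symm
        have h2 := Blocks.ppart_mul (p := p) hc1.symm ⟨j, hj⟩ hdr
        have h3 : (((d⁻¹ * w : _) : ↥(Subgroup.centralizer ((P : Subgroup G) : Set G))) : G) *
            (d : G) = (w : G) := by
          rw [hc1.symm.eq, ← Subgroup.coe_mul, mul_inv_cancel_left]
        rw [h3, Blocks.ppart_one_iff.2 (by rwa [Subgroup.orderOf_coe])] at h2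
        have h4 : d⁻¹ * w = 1 := Subtype.ext h2.symm
        exact inv_mul_eq_one.1 h4
      · rfl
    · simp
  have hQp : ¬ p ∣ Nat.card Q := not_dvd_card_quotient_zSub P
  -- the functionals
  let φ : IrrCharacter Q → (G → ℂ) → ℂ := fun ψ h => Blocks.omega (ψ : Q → ℂ) (pushC P h)
  have hφR : ∀ ψ h, IsClassFunction G h → Blocks.RFun M h → MemLocalRing M (φ ψ h) :=
    fun ψ h hc hR => Blocks.omega_memR hpM ψ.2 (isClassFunction_pushC P hc) (rFun_pushC P hR)
  have hφδ : ∀ ψ, φ ψ (Blocks.delta G) = 1 := fun ψ => by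
    simp only [φ, pushC_delta]
    exact Blocks.omega_delta (Chars.irr_apply_one_ne_zero ψ.2)
  have hφf : ∀ ψ : IrrCharacter Q,
      φ ψ f = if ψ = Blocks.oneChar Q then (Nat.card Q : ℂ) else 0 := fun ψ => by
    simp only [φ, hJ]
    have h3 := Chars.classInner_irrCharacter ψ (Blocks.oneChar Q)
    rw [Chars.classInner_def, Blocks.coe_oneChar] at h3
    simp only [map_one, mul_one, inv_mul_eq_iff_eq_mul₀ (Chars.card_ne_zero (G := Q))] at h3
    simp only [Blocks.omega, one_mul, h3]
    split_ifs with h
    · subst h; simp [Blocks.coe_oneChar]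
    · simp
  -- the trivial functional
  have hone : ∀ h : G → ℂ, IsClassFunction G h → Blocks.RFun M h →
      MemLocalIdeal M (Blocks.omega ((Blocks.oneChar G : IrrCharacter G) : G → ℂ) h -
        φ (Blocks.oneChar Q) h) := by
    intro h hc hR
    simp only [φ, Blocks.omega, Blocks.coe_oneChar, div_one]
    rw [sum_pushC P h (fun _ => 1)]
    simp only [mul_one]
    let act : MulAction (P : Subgroup G) G := MulAction.compHom G
      (MulAut.conj.comp (P : Subgroup G).subtype)
    have hsm : ∀ (u : (P : Subgroup G)) (a : G),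
        u • a = (u : G) * a * (u : G)⁻¹ := fun _ _ => rfl
    have key := memI_sum_sub_fixed hpM P.isPGroup' h hR (fun u x => by rw [hsm]; exact hc x (u : G))
    convert key using 1
    congr 1
    refine (Finset.sum_subtype _ (fun x => ?_) h).symm
    simp only [Finset.mem_filter, Finset.mem_univ, true_and, hsm,
      Subgroup.mem_centralizer_iff, mul_inv_eq_iff_eq_mul, Subtype.forall, SetLike.mem_coe]
  set a : ℂ := Blocks.omega ((Blocks.oneChar G : IrrCharacter G) : G → ℂ) f with ha
  have haR : MemLocalRing M a := Blocks.omega_memR hpM (Blocks.oneChar G).2 hfc hfR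
  have haQ : MemLocalIdeal M (a - Nat.card Q) := by
    have := hone f hfc hfR
    rwa [hφf, if_pos rfl] at this
  have haU : ¬ MemLocalIdeal M a := fun h =>
    hQp ((Blocks.memI_natCast_iff hpM _).1 ((Blocks.memI_iff_of_sub haQ).1 h))
  set u : G → ℂ := f - a • Blocks.delta G with hu
  have huc : IsClassFunction G u :=
    Chars.isClassFunction_sub hfc (Chars.isClassFunction_smul _ Blocks.isClassFunction_delta)
  have huR : Blocks.RFun M u := Blocks.rFun_sub hfR (Blocks.rFun_smul haR Blocks.rFun_delta)
  set v : G → ℂ := Blocks.conv e u with hv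
  have hvc : IsClassFunction G v := Blocks.isClassFunction_conv hec huc
  have hvR : Blocks.RFun M v := Blocks.rFun_conv heR huR
  have hvI : ∀ χ : IrrCharacter G, MemLocalIdeal M (Blocks.omega (χ : G → ℂ) v) := fun χ => by
    rw [hv, Blocks.omega_conv χ.2 hec huc, Blocks.omega_blockCoeff]
    split_ifs with h
    · rw [one_mul, hu, Blocks.omega_sub, Blocks.omega_smul,
        Blocks.omega_delta (Chars.irr_apply_one_ne_zero χ.2), mul_one]
      exact Blocks.omega_congr (Blocks.sameBlock_of_mem hB h Blocks.one_mem_principal) hfc hfR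
    · rw [zero_mul]; exact Blocks.memI_zero
  obtain ⟨N, hN⟩ := Blocks.exists_cpow_iFun hpM hvc hvI
  have hzero : ∀ ψ : IrrCharacter Q, ψ ≠ Blocks.oneChar Q → MemLocalIdeal M (φ ψ e) := by
    intro ψ hψ
    have hpow : ∀ k, MemLocalIdeal M (φ ψ (Blocks.cpow v k) - φ ψ v ^ k) := by
      intro k
      induction k with
      | zero =>
        rw [show Blocks.cpow v 0 = Blocks.delta G from rfl, hφδ, pow_zero, sub_self]
        exact Blocks.memI_zero
      | succ k ih =>
        have h3 := Blocks.memI_add (memI_omega_pushC_conv P hpM ψ (Blocks.isClassFunction_cpow hvc k)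
          (Blocks.rFun_cpow hvR k) hvc hvR) (Blocks.memI_mul_right ih (hφR ψ v hvc hvR))
        show MemLocalIdeal M (φ ψ (Blocks.conv (Blocks.cpow v k) v) - φ ψ v ^ (k + 1))
        convert h3 using 1
        simp only [φ]
        ring
    have hvφ : MemLocalIdeal M (φ ψ v) := by
      have h4 : MemLocalIdeal M (φ ψ v ^ N) := by
        have h5 : MemLocalIdeal M (φ ψ (Blocks.cpow v N)) :=
          Blocks.omega_memI hpM ψ.2 (isClassFunction_pushC P (Blocks.isClassFunction_cpow hvc N))
            (iFun_pushC P hN)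
        simpa using Blocks.memI_sub h5 (hpow N)
      by_contra hne
      have : ∀ k, ¬ MemLocalIdeal M (φ ψ v ^ k) := fun k => by
        induction k with
        | zero => rw [pow_zero]; exact Blocks.not_memI_one
        | succ k ih =>
          rw [pow_succ]
          exact Blocks.not_memI_mul (Blocks.memR_pow (hφR ψ v hvc hvR) k) (hφR ψ v hvc hvR) ih hne
      exact this N h4
    have h6 := Blocks.memI_sub hvφ (memI_omega_pushC_conv P hpM ψ hec heR huc huR)
    simp only [φ, ← hv, sub_sub_cancel] at h6
    have hu0 : Blocks.omega (ψ : Q → ℂ) (pushC P u) = -a := by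
      have h1 := hφf ψ
      have h2 := hφδ ψ
      simp only [φ] at h1 h2
      rw [hu, pushC_sub, pushC_smul, Blocks.omega_sub, Blocks.omega_smul, h1, h2, if_neg hψ]
      ring
    rw [hu0] at h6
    exact (Blocks.memI_or_of_mul (hφR ψ e hec heR) (Blocks.memR_neg haR) h6).resolve_right
      fun h => haU (by simpa using Blocks.memI_neg h)
  -- the value at the identity
  have hE1 : pushC P e 1 = e 1 := by
    unfold pushC
    rw [Finset.sum_eq_single (1 : ↥(Subgroup.centralizer ((P : Subgroup G) : Set G)))]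
    · rw [if_pos (QuotientGroup.mk_one _)]; rfl
    · intro c _ hc
      split_ifs with h
      · rw [QuotientGroup.eq_one_iff, Subgroup.mem_subgroupOf] at h
        refine hsupp _ ?_
        obtain ⟨j, hj⟩ := IsPGroup.iff_orderOf.1 P.isPGroup' ⟨_, h⟩
        rw [Subgroup.orderOf_mk] at hj
        rw [hj]
        rcases j with - | j
        · exact absurd (Subtype.ext (orderOf_eq_one_iff.1 (hj.trans (pow_zero p)))) hc
        · exact dvd_pow_self p j.succ_ne_zero
      · rfl
    · simp
  have hdec := congrFun (Blocks.eq_sum_omega (isClassFunction_pushC P hec)) 1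
  rw [hE1, Finset.sum_apply] at hdec
  simp only [Pi.smul_apply, smul_eq_mul, Blocks.eFun] at hdec
  intro h1
  apply Blocks.not_memI_one (M := M)
  have h2 : MemLocalIdeal M ((Nat.card Q : ℂ) * e 1) :=
    Blocks.memI_mul_left (Blocks.memR_natCast _) h1
  rw [hdec, Finset.mul_sum, ← Finset.add_sum_erase _ _ (Finset.mem_univ (Blocks.oneChar Q))] at h2
  refine (fun H : MemLocalIdeal M (∑ ψ ∈ (Finset.univ : Finset (IrrCharacter Q)).erase
      (Blocks.oneChar Q), (Nat.card Q : ℂ) * (Blocks.omega (ψ : Q → ℂ) (pushC P e) *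
        ((Nat.card Q : ℂ)⁻¹ * ((ψ : Q → ℂ) 1 * conj ((ψ : Q → ℂ) 1))))) => ?_)
    (Blocks.memI_sum _ _ fun ψ hψ => ?_)
  · have h3 := Blocks.memI_sub h2 H
    rw [add_sub_cancel_right] at h3
    simp only [Blocks.coe_oneChar, map_one, mul_one] at h3
    rw [mul_comm (Blocks.omega _ _), ← mul_assoc, mul_inv_cancel₀ (Chars.card_ne_zero (G := Q)),
      one_mul] at h3
    have h4 := Blocks.memI_add (hone e hec heR) h3
    rw [Blocks.omega_blockCoeff_mem Blocks.one_mem_principal] at h4
    simpa [φ, Blocks.coe_oneChar] using h4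
  · have := Blocks.memI_mul_right (hzero ψ (Finset.mem_erase.1 hψ).1)
      (Blocks.memR_mul (Blocks.irr_memR (M := M) ψ 1)
        (Blocks.memR_of_isIntegral (M := M)
          ((Chars.isIntegral_of_isCharacter (Chars.irr_isCharacter ψ) (1 : Q)).map
            (Complex.conjAe.toAlgHom.restrictScalars ℤ))))
    convert this using 1
    simp only [φ]
    rw [mul_left_comm (Nat.card Q : ℂ), ← mul_assoc (Nat.card Q : ℂ),
      mul_inv_cancel₀ (Chars.card_ne_zero (G := Q)), one_mul]
    rfl

/-- Every linear character of a Sylow subgroup lies under a character of the principal block of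
degree prime to `p`. -/
theorem exists_principal_over_linear (hpM : (p : AlgInt) ∈ M) (P : Sylow p G)
    [Fintype (P : Subgroup G)] (φ : (P : Subgroup G) →* ℂˣ) :
    ∃ χ : IrrCharacter G, χ ∈ principalBlock M G ∧ ¬ p ∣ charDegree (χ : G → ℂ) ∧
      classInner (fun x : (P : Subgroup G) => (φ x : ℂ))
        (fun x : (P : Subgroup G) => (χ : G → ℂ) x) ≠ 0 := by
  classical
  set B := principalBlock M G with hBdef
  have hB : IsPBlock M B := Blocks.isPBlock_principal
  by_contra hc
  push Not at hc
  have hterm : ∀ χ ∈ Finset.univ.filter (· ∈ B), MemLocalIdeal M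
      ((χ : G → ℂ) 1 * classInner (fun x : (P : Subgroup G) => (φ x : ℂ))
        (fun x : (P : Subgroup G) => (χ : G → ℂ) x)) := by
    intro χ hχ
    obtain ⟨m, hm⟩ := Chars.exists_classInner_eq_nat (Chars.isCharacter_hom φ)
      (Chars.isCharacter_restrict (Chars.irr_isCharacter χ) (P : Subgroup G))
    by_cases hd : p ∣ charDegree (χ : G → ℂ)
    · rw [hm, (Blocks.charDegree_eq χ.2).1]
      exact Blocks.memI_mul_right ((Blocks.memI_natCast_iff hpM _).2 hd) (Blocks.memR_natCast _)
    · rw [hc χ (Finset.mem_filter.1 hχ).2 hd, mul_zero]; exact Blocks.memI_zero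
  have hsum := Blocks.memI_sum _ _ hterm
  have hval : (∑ χ ∈ Finset.univ.filter (· ∈ B), (χ : G → ℂ) 1 *
      classInner (fun x : (P : Subgroup G) => (φ x : ℂ))
        (fun x : (P : Subgroup G) => (χ : G → ℂ) x)) =
      ((P : Subgroup G).index : ℂ) * blockCoeff B 1 := by
    simp only [Chars.classInner_def, Finset.mul_sum]
    rw [Finset.sum_comm, Finset.sum_eq_single (1 : (P : Subgroup G))]
    · rw [Blocks.blockCoeff_eq_sum, Finset.sum_apply, Finset.mul_sum]
      refine Finset.sum_congr rfl fun χ _ => ?_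
      have hcard : (Nat.card (P : Subgroup G) : ℂ) * ((P : Subgroup G).index : ℂ) =
          (Nat.card G : ℂ) := by exact_mod_cast (P : Subgroup G).card_mul_index
      simp only [map_one, Units.val_one, one_mul, OneMemClass.coe_one, Blocks.eFun]
      have h1 : (Nat.card (P : Subgroup G) : ℂ) ≠ 0 := Nat.cast_ne_zero.2 Nat.card_pos.ne'
      have h2 : ((P : Subgroup G).index : ℂ) ≠ 0 :=
        Nat.cast_ne_zero.2 Subgroup.index_ne_zero_of_finite
      rw [← hcard, mul_inv]
      field_simp
    · intro x _ hx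
      obtain ⟨j, hj⟩ := IsPGroup.iff_orderOf.1 P.isPGroup' x
      have hp : p ∣ orderOf (x : G) := by
        rw [Subgroup.orderOf_coe, hj]
        rcases j with - | j
        · exact absurd (orderOf_eq_one_iff.1 (hj.trans (pow_zero p))) hx
        · exact dvd_pow_self p j.succ_ne_zero
      have h0 := Blocks.blockCoeff_eq_zero_of_dvd hpM hB hp
      rw [Blocks.blockCoeff_eq_sum, Finset.sum_apply] at h0
      simp only [Blocks.eFun, ← Finset.mul_sum, mul_eq_zero, inv_eq_zero] at h0
      have h1 := h0.resolve_left (Chars.card_ne_zero (G := G))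
      rw [show ∑ χ ∈ Finset.univ.filter (· ∈ B), (χ : G → ℂ) 1 *
          ((Nat.card (P : Subgroup G) : ℂ)⁻¹ * ((φ x : ℂ) * conj ((χ : G → ℂ) x))) =
          ((Nat.card (P : Subgroup G) : ℂ)⁻¹ * (φ x : ℂ)) *
            ∑ χ ∈ Finset.univ.filter (· ∈ B), (χ : G → ℂ) 1 * conj ((χ : G → ℂ) x) by
        rw [Finset.mul_sum]; exact Finset.sum_congr rfl fun χ _ => by ring, h1, mul_zero]
    · simp
  rw [hval] at hsum
  exact Blocks.not_memI_mul (Blocks.memR_natCast _) (Blocks.rFun_blockCoeff hpM hB 1)
    (fun h => P.not_dvd_index ((Blocks.memI_natCast_iff hpM _).1 h))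
    (not_memI_blockCoeff_principal hpM) hsum

end Cfsg.Agent.DegreeGraph
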