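import Cfsg.Agent.Chars.PrimePowerDivisor
import Cfsg.Agent.Chars2.Linear
import Cfsg.Agent.Core.HallSystem
import Cfsg.Prelude.Def_DegreeGraph
import Mathlib.LinearAlgebra.Determinant

/-!
The common-divisor graph on the degrees relative to a normal subgroup inside the derived subgroup:
the reachability facts behind the bound on the number of its components.
-/

set_option autoImplicit false
set_option linter.style.haveILetI false
set_option linter.unusedSectionVars false

namespace Cfsg.Agent.DegreeGraph.RelTwo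

open Cfsg Cfsg.Agent
open scoped ComplexConjugate

universe u

attribute [-instance] MonoidHom.instPow instOneMonoidHom

section det

variable {H : Type u} [Group H] [Fintype H]

/-- The determinant homomorphism of an irreducible character. -/
noncomputable def detIrr (φ : IrrCharacter H) : H →* ℂˣ :=
  Chars2.detHom φ.2.choose_spec.choose

theorem detIrr_eq (φ : IrrCharacter H) {V : Type*} [AddCommGroup V] [Module ℂ V]
    [FiniteDimensional ℂ V] (σ : Representation ℂ H V) (h : σ.character = (φ : H → ℂ)) :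
    Chars2.detHom σ = detIrr φ := by
  obtain ⟨hirr, hchar⟩ := φ.2.choose_spec.choose_spec
  haveI := hirr
  obtain ⟨e⟩ := Chars2.equiv_of_character_eq φ.2.choose_spec.choose σ (hchar.trans h.symm)
  ext g
  rw [detIrr, Chars2.detHom_apply, Chars2.detHom_apply, ← e.conj_apply_self g]
  exact LinearMap.det_conj _ _

theorem detIrr_linFun (l : H →* ℂˣ) (h : IsIrrCharacter H (Chars2.linFun l)) :
    detIrr ⟨_, h⟩ = l := by
  obtain ⟨hirr, hchar⟩ := h.choose_spec.choose_spec
  obtain ⟨n, hn⟩ : ∃ n, h.choose = n := ⟨_, rfl⟩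
  have h1 := congrFun hchar 1
  rw [Representation.char_one, Module.finrank_fin_fun, Chars2.linFun_apply, map_one,
    Units.val_one, Nat.cast_eq_one] at h1
  ext g
  rw [detIrr, Chars2.detHom_apply]
  have h2 := congrFun hchar g
  rw [Chars2.linFun_apply] at h2
  rw [← h2, Representation.character]
  revert h2 hchar hirr
  generalize h.choose_spec.choose = ρ
  revert ρ
  rw [h1]
  intro ρ _ _ _
  exact (Chars2.trace_eq_det_one (ρ g)).symm

/-- The determinant of a representation through the multiplicities of its constituents. -/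
theorem detHom_eq_prod (V : Type) [AddCommGroup V] [Module ℂ V] [FiniteDimensional ℂ V]
    (σ : Representation ℂ H V) (m : IrrCharacter H → ℕ)
    (hm : ∀ φ : IrrCharacter H, classInner σ.character (φ : H → ℂ) = m φ) :
    Chars2.detHom σ = ∏ φ : IrrCharacter H, detIrr φ ^ m φ := by
  classical
  revert m
  refine Chars.rep_induction (G := H) (P := fun W _ _ τ => ∀ m : IrrCharacter H → ℕ,
    (∀ φ : IrrCharacter H, classInner τ.character (φ : H → ℂ) = m φ) →
    Chars2.detHom τ = ∏ φ : IrrCharacter H, detIrr φ ^ m φ) ?_ ?_ ?_ V σ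
  · intro W _ _ τ _ m hm
    have h0 : ∀ φ, m φ = 0 := by
      intro φ
      have hc : τ.character = 0 := funext fun g => by
        rw [Representation.character, Subsingleton.elim (τ g) 0, map_zero]; rfl
      have h1 := hm φ
      rw [hc, Chars.classInner_def] at h1
      simp at h1
      exact_mod_cast h1.symm
    ext g
    rw [Finset.prod_eq_one (fun φ _ => by rw [h0]; exact pow_zero _), Chars2.detHom_apply,
      Subsingleton.elim (τ g) LinearMap.id, LinearMap.det_id]
    simp
  · intro W _ _ _ τ _ m hm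
    let ψ : IrrCharacter H := ⟨τ.character, Chars.isIrrCharacter_of_rep τ⟩
    have hψ : m ψ = 1 := by
      have h1 := hm ψ
      rw [show (ψ : H → ℂ) = τ.character from rfl,
        Chars.classInner_self_irr (Chars.isIrrCharacter_of_rep τ)] at h1
      exact_mod_cast h1.symm
    have hne : ∀ φ, φ ≠ ψ → m φ = 0 := by
      intro φ hφ
      have h1 := hm φ
      rw [Chars.classInner_irr_of_ne (Chars.isIrrCharacter_of_rep τ) φ.2
        (fun h => hφ (Subtype.ext h.symm))] at h1
      exact_mod_cast h1.symm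
    rw [Finset.prod_eq_single ψ (fun φ _ hφ => by rw [hne φ hφ]; exact pow_zero _) (by simp), hψ]
    rw [pow_one]
    exact detIrr_eq ψ τ rfl
  · intro W _ _ _ τ S C hc hS hC m hm
    obtain ⟨a, ha⟩ := Chars2.exists_multiplicities (Chars.isCharacter_of_rep S.toRepresentation)
    obtain ⟨b, hb⟩ := Chars2.exists_multiplicities (Chars.isCharacter_of_rep C.toRepresentation)
    have hab : ∀ φ, m φ = a φ + b φ := by
      intro φ
      have h1 := hm φ
      rw [Chars.character_eq_add_of_isCompl τ S C hc, Chars.classInner_add_left, ha, hb] at h1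
      exact_mod_cast h1.symm
    have hdet : Chars2.detHom τ =
        Chars2.detHom S.toRepresentation * Chars2.detHom C.toRepresentation := by
      ext g
      let e := Submodule.prodEquivOfIsCompl _ _ hc
      have he : e.conj ((S.toRepresentation g).prodMap (C.toRepresentation g)) = τ g := by
        ext v
        obtain ⟨⟨x, y⟩, rfl⟩ := e.surjective v
        simp [e, LinearEquiv.conj_apply, map_add, Subrepresentation.toRepresentation]
      rw [MonoidHom.mul_apply, Units.val_mul, Chars2.detHom_apply, Chars2.detHom_apply,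
        Chars2.detHom_apply, ← he, ← LinearMap.det_prodMap]
      rw [LinearEquiv.conj_apply, LinearMap.comp_assoc]
      exact LinearMap.det_conj ((S.toRepresentation g).prodMap (C.toRepresentation g)) e
    rw [hdet, hS a ha, hC b hb, ← Finset.prod_mul_distrib]
    exact Finset.prod_congr rfl fun φ _ => by rw [hab]; exact (pow_add _ _ _).symm

end det

section main

variable {G : Type u} [Group G] [Fintype G] (N : Subgroup G) [hN : N.Normal]

noncomputable local instance : Fintype N := Fintype.ofFinite N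

/-- Conjugation of linear characters of a normal subgroup. -/
def conjL (g : G) (l : N →* ℂˣ) : N →* ℂˣ :=
  l.comp (MulAut.conjNormal (H := N) g⁻¹).toMonoidHom

/-- The stabilizer of a linear character. -/
abbrev stab (l : N →* ℂˣ) : Subgroup G := Chars2.inertiaSub (Chars2.linFun l : N → ℂ)

variable {N}

theorem linFun_conjL (g : G) (l : N →* ℂˣ) :
    Chars2.conjFun (Chars2.linFun l : N → ℂ) g = Chars2.linFun (conjL N g l) := rfl

theorem mem_stab {g : G} {l : N →* ℂˣ} : g ∈ stab N l ↔ conjL N g l = l := by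
  rw [Chars2.mem_inertiaSub, linFun_conjL, Chars2.linFun_injective.eq_iff]

theorem conjL_conjL (a b : G) (l : N →* ℂˣ) : conjL N b (conjL N a l) = conjL N (b * a) l := by
  ext n
  simp [conjL, mul_inv_rev, map_mul, MulAut.mul_apply]

theorem conjL_mul (g : G) (l l' : N →* ℂˣ) : conjL N g (l * l') = conjL N g l * conjL N g l' := rfl

theorem conjL_pow (g : G) (l : N →* ℂˣ) (k : ℕ) : conjL N g (l ^ k) = conjL N g l ^ k := by
  ext n; simp [conjL]

theorem isIrr_linFun (l : N →* ℂˣ) : IsIrrCharacter N (Chars2.linFun l) :=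
  Chars.isIrrCharacter_hom l

theorem stab_one : stab N (1 : N →* ℂˣ) = ⊤ := eq_top_iff.2 fun g _ => mem_stab.2 rfl

theorem stab_pow (l : N →* ℂˣ) (k : ℕ) : stab N l ≤ stab N (l ^ k) := fun g hg => by
  rw [mem_stab, conjL_pow, mem_stab.1 hg]

/-- A coprime power can be undone. -/
theorem stab_pow_of_coprime (l : N →* ℂˣ) {k : ℕ} (hk : (orderOf l).Coprime k) :
    stab N (l ^ k) ≤ stab N l := by
  obtain ⟨j, hj⟩ := exists_pow_eq_self_of_coprime hk.symm
  conv_rhs => rw [← hj]
  exact stab_pow _ j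

theorem detIrr_conjFun (φ : IrrCharacter N) (g : G) :
    detIrr ⟨Chars2.conjFun (φ : N → ℂ) g, Chars2.conjFun_isIrr φ.2 g⟩ =
      conjL N g (detIrr φ) := by
  obtain ⟨hirr, hchar⟩ := φ.2.choose_spec.choose_spec
  rw [← detIrr_eq ⟨_, Chars2.conjFun_isIrr φ.2 g⟩
    (φ.2.choose_spec.choose.comp (MulAut.conjNormal (H := N) g⁻¹).toMonoidHom)
    (funext fun n => congrFun hchar (MulAut.conjNormal g⁻¹ n))]
  ext n
  rfl

theorem inertia_le_stab_det (φ : IrrCharacter N) :
    Chars2.inertiaSub (φ : N → ℂ) ≤ stab N (detIrr φ) := fun g hg => by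
  rw [mem_stab, ← detIrr_conjFun]
  congr 1
  exact Subtype.ext (Chars2.mem_inertiaSub.1 hg)

theorem degree_cast (χ : IrrCharacter G) :
    (charDegree (χ : G → ℂ) : ℂ) = (χ : G → ℂ) 1 := by
  obtain ⟨n, hn⟩ := Chars.exists_apply_one_eq (Chars.irr_isCharacter χ)
  rw [charDegree, hn, Complex.natCast_re, Nat.floor_natCast]

/-- Every irreducible character of `N` lies below some irreducible character of `G`. -/
theorem exists_over (φ : IrrCharacter N) :
    ∃ χ : IrrCharacter G, classInner (fun n : N => (χ : G → ℂ) n) (φ : N → ℂ) ≠ 0 := by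
  classical
  by_contra hno
  push Not at hno
  have hind : indFun N (φ : N → ℂ) = 0 := by
    rw [Chars.eq_sum_classInner (Chars.isClassFunction_indFun N _)]
    refine Finset.sum_eq_zero fun χ _ => ?_
    rw [Chars.classInner_indFun N _ (Chars.isClassFunction_irr χ), ← Chars.classInner_conj_symm,
      hno χ, map_zero, zero_smul]
  have h1 := congrFun hind 1
  rw [Chars.indFun_apply_one] at h1
  simp only [Pi.zero_apply, mul_eq_zero, Nat.cast_eq_zero] at h1
  rcases h1 with h1 | h1
  · exact Subgroup.index_ne_zero_of_finite h1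
  · exact Chars.irr_apply_one_ne_zero φ.2 h1

/-- The degree of a character over a character of `N`. -/
theorem exists_degree (χ : IrrCharacter G) {φ : IrrCharacter N}
    (h : classInner (fun n : N => (χ : G → ℂ) n) (φ : N → ℂ) ≠ 0) :
    ∃ e d : ℕ, classInner (fun n : N => (χ : G → ℂ) n) (φ : N → ℂ) = e ∧ (φ : N → ℂ) 1 = d ∧
      charDegree (χ : G → ℂ) = (Chars2.inertiaSub (φ : N → ℂ)).index * e * d := by
  obtain ⟨d, hd⟩ := Chars.exists_apply_one_eq (Chars.irr_isCharacter φ)
  obtain ⟨e, he, hdeg⟩ := Chars.PrimePower.constituent_degree χ.2 (degree_cast χ).symm N φ.2 hd h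
  exact ⟨e, d, he, hd, hdeg⟩

theorem mem_rel_of_over (χ : IrrCharacter G) {φ : IrrCharacter N}
    (hφ : (φ : N → ℂ) ≠ fun _ => 1)
    (h : classInner (fun n : N => (χ : G → ℂ) n) (φ : N → ℂ) ≠ 0) :
    charDegree (χ : G → ℂ) ∈ relCharDegrees N := by
  refine ⟨χ, ?_, rfl⟩
  by_contra hc
  push Not at hc
  refine h ?_
  rw [show (fun n : N => (χ : G → ℂ) n) = (χ : G → ℂ) 1 • (fun _ : N => (1 : ℂ)) from
    funext fun n => by rw [Pi.smul_apply, smul_eq_mul, mul_one]; exact hc n n.2,
    Chars.classInner_smul_left, Chars.classInner_irr_of_ne Chars.isIrrCharacter_one φ.2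
      (fun he => hφ he.symm), mul_zero]

/-- Every relative degree belongs to a character over a nontrivial character of `N`. -/
theorem exists_below {a : ℕ} (ha : a ∈ relCharDegrees N) :
    ∃ (χ : IrrCharacter G) (φ : IrrCharacter N), charDegree (χ : G → ℂ) = a ∧
      (φ : N → ℂ) ≠ (fun _ => 1) ∧ classInner (fun n : N => (χ : G → ℂ) n) (φ : N → ℂ) ≠ 0 := by
  obtain ⟨χ, ⟨x, hx, hne⟩, rfl⟩ := ha
  obtain ⟨φ, hφ⟩ := Chars.PrimePower.exists_constituent (Chars.irr_isCharacter χ)
    (Chars.irr_apply_one_ne_zero χ.2) N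
  refine ⟨χ, φ, rfl, fun h1 => hne ?_, hφ⟩
  have hinv : Chars2.inertiaSub (φ : N → ℂ) = ⊤ := by
    refine eq_top_iff.2 fun g _ => Chars2.mem_inertiaSub.2 (funext fun n => ?_)
    rw [Chars2.conjFun_apply, h1]
  have hr := Chars2.clifford_invariant χ.2 φ.2 hinv hφ
  have e1 := hr ⟨x, hx⟩
  have e2 := hr 1
  rw [h1] at e1 e2
  exact e1.trans e2.symm

/-- Joined by a path in the graph on the relative degrees. -/
def Reach (N : Subgroup G) (a b : ℕ) : Prop :=
  ∃ (ha : a ∈ relCharDegrees N) (hb : b ∈ relCharDegrees N),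
    (commonDivisorGraph.induce (relCharDegrees N)).Reachable ⟨a, ha⟩ ⟨b, hb⟩

theorem Reach.symm {a b : ℕ} (h : Reach N a b) : Reach N b a :=
  ⟨h.2.1, h.1, h.2.2.symm⟩

theorem Reach.trans {a b c : ℕ} (h : Reach N a b) (h' : Reach N b c) : Reach N a c :=
  ⟨h.1, h'.2.1, h.2.2.trans h'.2.2⟩

theorem reach_of_gcd {a b d : ℕ} (ha : a ∈ relCharDegrees N) (hb : b ∈ relCharDegrees N)
    (hd : d ≠ 1) (hda : d ∣ a) (hdb : d ∣ b) (ha0 : a ≠ 0) : Reach N a b := by
  refine ⟨ha, hb, ?_⟩
  rcases eq_or_ne a b with rfl | hne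
  · rfl
  · refine SimpleGraph.Adj.reachable ⟨hne, ?_⟩
    have h1 : d ∣ Nat.gcd a b := Nat.dvd_gcd hda hdb
    have h2 : Nat.gcd a b ≠ 0 := fun h => ha0 (Nat.gcd_eq_zero_iff.1 h).1
    have h3 : Nat.gcd a b ≠ 1 := fun h => hd (Nat.dvd_one.1 (h ▸ h1))
    show 1 < Nat.gcd a b
    omega

theorem degree_ne_zero (χ : IrrCharacter G) : charDegree (χ : G → ℂ) ≠ 0 := fun h => by
  have h1 := degree_cast χ
  rw [h, Nat.cast_zero] at h1
  exact Chars.irr_apply_one_ne_zero χ.2 h1.symm

theorem linFun_ne_one {l : N →* ℂˣ} (h : l ≠ 1) : (Chars2.linFun l : N → ℂ) ≠ fun _ => 1 :=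
  fun he => h (Chars2.linFun_injective (he.trans (map_one Chars2.linFun).symm))

theorem mul_linFun_isIrr (φ : IrrCharacter N) (l : N →* ℂˣ) :
    IsIrrCharacter N (fun n => (l n : ℂ) * (φ : N → ℂ) n) :=
  Chars.isIrrCharacter_mul_hom φ.2 l

/-- The twist of an irreducible character of `N` by a linear one. -/
noncomputable def tw (φ : IrrCharacter N) (l : N →* ℂˣ) : IrrCharacter N :=
  ⟨_, mul_linFun_isIrr φ l⟩

theorem detIrr_tw (φ : IrrCharacter N) (l : N →* ℂˣ) {d : ℕ} (hd : (φ : N → ℂ) 1 = d) :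
    detIrr (tw φ l) = l ^ d * detIrr φ := by
  obtain ⟨hirr, hchar⟩ := φ.2.choose_spec.choose_spec
  set ρ := φ.2.choose_spec.choose with hρ
  let σ : Representation ℂ N (Fin φ.2.choose → ℂ) :=
    { toFun := fun n => (l n : ℂ) • ρ n
      map_one' := by simp
      map_mul' := fun a b => by rw [map_mul, map_mul, Units.val_mul, smul_mul_smul_comm] }
  have hσ : σ.character = (tw φ l : N → ℂ) := funext fun n => by
    show LinearMap.trace ℂ _ ((l n : ℂ) • ρ n) = (l n : ℂ) * (φ : N → ℂ) n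
    rw [map_smul, smul_eq_mul]
    exact congrArg ((l n : ℂ) * ·) (congrFun hchar n)
  have hdim : φ.2.choose = d := by
    have h1 := congrFun hchar 1
    rw [Representation.char_one, Module.finrank_fin_fun, hd] at h1
    exact_mod_cast h1
  rw [← detIrr_eq _ σ hσ]
  ext n
  show LinearMap.det ((l n : ℂ) • ρ n) = _
  rw [LinearMap.det_smul, Module.finrank_fin_fun,
    show (l n : ℂ) ^ φ.2.choose = (l n : ℂ) ^ d from by rw [hdim], MonoidHom.mul_apply,
    Units.val_mul]
  rfl

theorem det_trivial (hNG : N ≤ commutator G) {V : Type*} [AddCommGroup V] [Module ℂ V]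
    (ρ : Representation ℂ G V) (n : N) : (Chars2.detHom ρ) (n : G) = 1 :=
  Abelianization.commutator_subset_ker _ (hNG n.2)

/-- Twisting a constituent by an invariant linear character. -/
theorem pow_eq_one_of_twist (hNG : N ≤ commutator G) (l : N →* ℂˣ) (hl : stab N l = ⊤)
    (ψ χ : IrrCharacter G) (φ : IrrCharacter N) {e e' : ℕ}
    (he : classInner (fun n : N => (ψ : G → ℂ) n) (φ : N → ℂ) = e)
    (he' : classInner (fun n : N => (χ : G → ℂ) n) (tw φ l : N → ℂ) = e')
    (hne : e ≠ 0) (hne' : e' ≠ 0) : l ^ (charDegree (ψ : G → ℂ) * e') = 1 := by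
  classical
  obtain ⟨a, ρ, hirr, hρ⟩ := ψ.2
  obtain ⟨b, τ, hirr', hτ⟩ := χ.2
  let σ : Representation ℂ N (Fin a → ℂ) :=
    { toFun := fun n => (l n : ℂ) • ρ (n : G)
      map_one' := by simp
      map_mul' := fun x y => by
        rw [map_mul, Subgroup.coe_mul, map_mul, Units.val_mul, smul_mul_smul_comm] }
  let σ' : Representation ℂ N (Fin b → ℂ) := τ.comp N.subtype
  have hσ : σ.character = fun n : N => (l n : ℂ) * (ψ : G → ℂ) n := funext fun n => by
    show LinearMap.trace ℂ _ ((l n : ℂ) • ρ (n : G)) = _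
    rw [map_smul, smul_eq_mul, ← hρ]; rfl
  have hσ' : σ'.character = fun n : N => (χ : G → ℂ) n := funext fun n => by rw [← hτ]; rfl
  obtain ⟨m, hm⟩ := Chars2.exists_multiplicities (Chars.isCharacter_of_rep σ)
  obtain ⟨m', hm'⟩ := Chars2.exists_multiplicities (Chars.isCharacter_of_rep σ')
  have hl1 : ∀ n : N, (l n : ℂ) * conj (l n : ℂ) = 1 := fun n => by
    rw [← Chars.char_inv_eq_conj (Chars.isCharacter_hom l), map_inv,
      Units.val_inv_eq_inv_val, mul_inv_cancel₀ (Units.ne_zero _)]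
  have hconjtw : ∀ g : G, Chars2.conjFun (tw φ l : N → ℂ) g =
      fun n => (l n : ℂ) * Chars2.conjFun (φ : N → ℂ) g n := by
    intro g
    funext n
    have hg : conjL N g l = l := mem_stab.1 (hl ▸ Subgroup.mem_top g)
    have h1 := DFunLike.congr_fun hg n
    show (l (MulAut.conjNormal g⁻¹ n) : ℂ) * _ = _
    rw [show l (MulAut.conjNormal g⁻¹ n) = l n from h1]
    rfl
  have key : ∀ η : IrrCharacter N, m η * e' = m' η * e := by
    intro η
    by_cases hη : ∃ g : G, (η : N → ℂ) = Chars2.conjFun (tw φ l : N → ℂ) g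
    · obtain ⟨g, hg⟩ := hη
      have h2 : m' η = e' := by
        have h := hm' η
        rw [hσ', hg, Chars2.classInner_restrict_conjFun (Chars.isClassFunction_irr χ), he'] at h
        exact_mod_cast h.symm
      have h1 : m η = e := by
        have h := hm η
        rw [hg, hconjtw] at h
        have h' : classInner σ.character (fun n => (l n : ℂ) * Chars2.conjFun (φ : N → ℂ) g n) =
            classInner (fun n : N => (ψ : G → ℂ) n) (Chars2.conjFun (φ : N → ℂ) g) := by
          rw [hσ, Chars.classInner_def, Chars.classInner_def]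
          congr 1
          refine Finset.sum_congr rfl fun n _ => ?_
          rw [map_mul]
          calc _ = ((l n : ℂ) * conj (l n : ℂ)) *
              ((ψ : G → ℂ) n * conj (Chars2.conjFun (φ : N → ℂ) g n)) := by ring
            _ = _ := by rw [hl1, one_mul]
        rw [h', Chars2.classInner_restrict_conjFun (Chars.isClassFunction_irr ψ), he] at h
        exact_mod_cast h.symm
      rw [h1, h2, Nat.mul_comm]
    · have h2 : m' η = 0 := by
        by_contra h0
        refine hη (Chars2.clifford_constituent χ.2 (tw φ l).2 (by rw [he']; exact_mod_cast hne')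
          η.2 ?_)
        rw [← hσ', hm']; exact_mod_cast h0
      have h1 : m η = 0 := by
        by_contra h0
        have h3 : classInner (fun n : N => (ψ : G → ℂ) n) (tw η l⁻¹ : N → ℂ) ≠ 0 := by
          have h := hm η
          rw [hσ] at h
          have h' : classInner (fun n : N => (l n : ℂ) * (ψ : G → ℂ) n) (η : N → ℂ) =
              classInner (fun n : N => (ψ : G → ℂ) n) (tw η l⁻¹ : N → ℂ) := by
            rw [Chars.classInner_def, Chars.classInner_def]
            congr 1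
            refine Finset.sum_congr rfl fun n _ => ?_
            show _ = (ψ : G → ℂ) n * conj (((l⁻¹) n : ℂ) * (η : N → ℂ) n)
            rw [map_mul, MonoidHom.inv_apply, Units.val_inv_eq_inv_val, map_inv₀,
              inv_eq_of_mul_eq_one_left (hl1 n)]
            ring
          rw [h'] at h
          rw [h]; exact_mod_cast h0
        obtain ⟨g, hg⟩ := Chars2.clifford_constituent ψ.2 φ.2 (by rw [he]; exact_mod_cast hne)
          (tw η l⁻¹).2 h3
        refine hη ⟨g, ?_⟩
        rw [hconjtw]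
        funext n
        rw [← congrFun hg n]
        show _ = (l n : ℂ) * (((l⁻¹) n : ℂ) * (η : N → ℂ) n)
        rw [MonoidHom.inv_apply, Units.val_inv_eq_inv_val, ← mul_assoc,
          mul_inv_cancel₀ (Units.ne_zero _), one_mul]
      rw [h1, h2, zero_mul, zero_mul]
  have h1 : Chars2.detHom σ ^ e' = Chars2.detHom σ' ^ e := by
    rw [detHom_eq_prod _ σ m hm, detHom_eq_prod _ σ' m' hm', ← Finset.prod_pow, ← Finset.prod_pow]
    exact Finset.prod_congr rfl fun η _ => by rw [← pow_mul, ← pow_mul, key η]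
  have h2 : Chars2.detHom σ' = 1 := MonoidHom.ext fun n => by
    rw [MonoidHom.one_apply, ← det_trivial hNG τ n]
    ext; rfl
  have h3 : Chars2.detHom σ = l ^ charDegree (ψ : G → ℂ) := MonoidHom.ext fun n => Units.ext (by
    show LinearMap.det ((l n : ℂ) • ρ (n : G)) = _
    have hdeg : charDegree (ψ : G → ℂ) = a := by
      have h := congrFun hρ 1
      rw [Representation.char_one, Module.finrank_fin_fun, ← degree_cast ψ] at h
      exact_mod_cast h.symm
    rw [LinearMap.det_smul, Module.finrank_fin_fun, hdeg]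
    have h4 : LinearMap.det (ρ (n : G)) = 1 := by
      have h5 := congrArg Units.val (det_trivial hNG ρ n)
      exact h5
    rw [h4, mul_one]
    rfl)
  rw [h3, h2] at h1
  rw [pow_mul]
  exact h1.trans (one_pow e)

/-- Every degree over a linear character of order `r` is divisible by the index of its
stabilizer. -/
def Link (N : Subgroup G) [N.Normal] (a : ℕ) (l : N →* ℂˣ) : Prop :=
  ∀ χ : IrrCharacter G, classInner (fun n : N => (χ : G → ℂ) n) (Chars2.linFun l) ≠ 0 →
    Reach N a (charDegree (χ : G → ℂ))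

theorem exists_over_lin (l : N →* ℂˣ) (hl : l ≠ 1) : ∃ χ : IrrCharacter G,
    classInner (fun n : N => (χ : G → ℂ) n) (Chars2.linFun l) ≠ 0 ∧
      charDegree (χ : G → ℂ) ∈ relCharDegrees N ∧ (stab N l).index ∣ charDegree (χ : G → ℂ) := by
  obtain ⟨χ, hχ⟩ := exists_over ⟨_, isIrr_linFun l⟩
  obtain ⟨e, d, -, -, hdeg⟩ := exists_degree χ hχ
  exact ⟨χ, hχ, mem_rel_of_over χ (linFun_ne_one hl) hχ, hdeg ▸ ⟨e * d, mul_assoc _ _ _⟩⟩

theorem link_of_dvd {a d : ℕ} (ha : a ∈ relCharDegrees N) (ha0 : a ≠ 0) {l : N →* ℂˣ}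
    (hl : l ≠ 1) (hd : d ≠ 1) (hda : d ∣ a) (hdl : d ∣ (stab N l).index) : Link N a l := by
  intro χ hχ
  obtain ⟨e, c, -, -, hdeg⟩ := exists_degree χ (φ := ⟨_, isIrr_linFun l⟩) hχ
  exact reach_of_gcd ha (mem_rel_of_over χ (φ := ⟨_, isIrr_linFun l⟩) (linFun_ne_one hl) hχ) hd hda
    (hdl.trans (hdeg ▸ ⟨e * c, mul_assoc _ _ _⟩)) ha0

theorem reach_of_link {a b : ℕ} {l : N →* ℂˣ} (hl : l ≠ 1) (h : Link N a l) (h' : Link N b l) :
    Reach N a b := by
  obtain ⟨χ, hχ, -⟩ := exists_over_lin l hl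
  exact (h χ hχ).trans (h' χ hχ).symm

/-- Linked linear characters. -/
def Link2 (N : Subgroup G) [N.Normal] (l m : N →* ℂˣ) : Prop :=
  ∀ χ : IrrCharacter G, classInner (fun n : N => (χ : G → ℂ) n) (Chars2.linFun l) ≠ 0 →
    Link N (charDegree (χ : G → ℂ)) m

theorem reach_of_link2 {a b : ℕ} {l m : N →* ℂˣ} (hl : l ≠ 1) (hm : m ≠ 1) (h : Link N a l)
    (h' : Link N b m) (h2 : Link2 N l m) : Reach N a b := by
  obtain ⟨χ, hχ, -⟩ := exists_over_lin l hl
  exact (h χ hχ).trans (reach_of_link hm (h2 χ hχ) h')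

theorem link2_of_dvd {d : ℕ} {l m : N →* ℂˣ} (hl : l ≠ 1) (hm : m ≠ 1) (hd : d ≠ 1)
    (h1 : d ∣ (stab N l).index) (h2 : d ∣ (stab N m).index) : Link2 N l m := by
  intro χ hχ
  obtain ⟨e, c, -, -, hdeg⟩ := exists_degree χ (φ := ⟨_, isIrr_linFun l⟩) hχ
  exact link_of_dvd (mem_rel_of_over χ (φ := ⟨_, isIrr_linFun l⟩) (linFun_ne_one hl) hχ)
    (degree_ne_zero χ) hm hd (h1.trans (hdeg ▸ ⟨e * c, mul_assoc _ _ _⟩)) h2

theorem link2_trans {l k m : N →* ℂˣ} (hk : k ≠ 1) (h : Link2 N l k) (h' : Link2 N k m) :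
    Link2 N l m := by
  intro χ hχ χ' hχ'
  obtain ⟨χ'', hχ'', -⟩ := exists_over_lin k hk
  exact (h χ hχ χ'' hχ'').trans (h' χ'' hχ'' χ' hχ')

section nofix

variable (nofix : ∀ l : N →* ℂˣ, l ≠ 1 → stab N l ≠ ⊤)

include nofix

theorem index_ne_one {l : N →* ℂˣ} (hl : l ≠ 1) : (stab N l).index ≠ 1 := fun h =>
  nofix l hl (Subgroup.index_eq_one.1 h)

theorem link2_coprime {l m : N →* ℂˣ} {r s : ℕ} (hr : r.Prime) (hs : s.Prime) (hrs : r ≠ s)
    (hl : orderOf l = r) (hm : orderOf m = s) : Link2 N l m := by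
  have hcop : r.Coprime s := (Nat.coprime_primes hr hs).2 hrs
  have hl1 : l ≠ 1 := fun h => hr.ne_one (by rw [← hl, h, orderOf_one])
  have hm1 : m ≠ 1 := fun h => hs.ne_one (by rw [← hm, h, orderOf_one])
  have h1 : stab N (l * m) ≤ stab N l := by
    refine (stab_pow (l * m) s).trans ?_
    rw [show (l * m) ^ s = l ^ s * m ^ s from mul_pow l m s,
      show m ^ s = 1 from hm ▸ pow_orderOf_eq_one m, show l ^ s * 1 = l ^ s from mul_one (M := N →* ℂˣ) _]
    exact stab_pow_of_coprime l (hl ▸ hcop)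
  have h2 : stab N (l * m) ≤ stab N m := by
    refine (stab_pow (l * m) r).trans ?_
    rw [show (l * m) ^ r = l ^ r * m ^ r from mul_pow l m r,
      show l ^ r = 1 from hl ▸ pow_orderOf_eq_one l, show 1 * m ^ r = m ^ r from one_mul (M := N →* ℂˣ) _]
    exact stab_pow_of_coprime m (hm ▸ hcop.symm)
  have hlm : l * m ≠ 1 := fun h => by
    rw [h, stab_one, top_le_iff] at h1
    exact nofix l hl1 h1
  refine link2_trans hlm ?_ ?_
  · exact link2_of_dvd hl1 hlm (index_ne_one nofix hl1) dvd_rfl (Subgroup.index_dvd_of_le h1)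
  · exact link2_of_dvd hlm hm1 (index_ne_one nofix hm1) (Subgroup.index_dvd_of_le h2) dvd_rfl

open scoped Classical in
theorem prod_orbit_eq_one (l : N →* ℂˣ) :
    ∏ x ∈ Finset.univ.image (fun g : G => conjL N g l), x = 1 := by
  by_contra hne
  refine nofix _ hne (eq_top_iff.2 fun g _ => mem_stab.2 ?_)
  have hinj : Function.Injective (conjL N g) := fun x y h => by
    have h1 := congrArg (conjL N g⁻¹) h
    rw [conjL_conjL, conjL_conjL, inv_mul_cancel] at h1
    have h2 : ∀ z : N →* ℂˣ, conjL N 1 z = z := fun z => by ext n; simp [conjL]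
    rwa [h2, h2] at h1
  have hmap : ∀ s : Finset (N →* ℂˣ), conjL N g (∏ x ∈ s, x) = ∏ x ∈ s, conjL N g x := by
    intro s
    induction s using Finset.induction_on with
    | empty => simp; rfl
    | insert a s ha ih => rw [Finset.prod_insert ha, Finset.prod_insert ha, conjL_mul, ih]
  rw [hmap, ← Finset.prod_image (g := conjL N g) (f := fun x => x) hinj.injOn]
  congr 1
  rw [Finset.image_image]
  ext x
  simp only [Finset.mem_image, Finset.mem_univ, true_and, Function.comp_apply, conjL_conjL]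
  exact ⟨fun ⟨a, ha⟩ => ⟨g * a, ha⟩, fun ⟨a, ha⟩ => ⟨g⁻¹ * a, by rw [mul_inv_cancel_left, ha]⟩⟩

open scoped Classical in
theorem not_coprime_mul {l m : N →* ℂˣ} {r : ℕ} (hm : orderOf m = r)
    (hli : ¬ r ∣ (stab N l).index) (hg : (stab N l).index.Coprime (stab N m).index) :
    ¬ (stab N m).index.Coprime (stab N (l * m)).index := by
  intro hc
  set B := stab N m with hB
  set OB : Finset (N →* ℂˣ) := (Finset.univ.filter fun g : G => g ∈ B).image
    (fun g => conjL N g l) with hOB
  have hcov : ∀ x : N →* ℂˣ, B.index.Coprime (stab N x).index →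
      (Finset.univ.filter fun g : G => g ∈ B).image (fun g => conjL N g x) =
        Finset.univ.image fun g : G => conjL N g x := by
    intro x hx
    refine Finset.Subset.antisymm (Finset.image_subset_image (Finset.filter_subset _ _)) ?_
    intro y hy
    obtain ⟨g, -, rfl⟩ := Finset.mem_image.1 hy
    obtain ⟨b, hb, a, ha, rfl⟩ := Core.exists_mul_of_coprime_index hx g
    refine Finset.mem_image.2 ⟨b, Finset.mem_filter.2 ⟨Finset.mem_univ _, hb⟩, ?_⟩
    rw [← conjL_conjL, mem_stab.1 ha]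
  have e1 := hcov l hg.symm
  have e2 := hcov (l * m) hc
  have hmove : (Finset.univ.filter fun g : G => g ∈ B).image (fun g => conjL N g (l * m)) =
      OB.image (fun x => x * m) := by
    rw [hOB, Finset.image_image]
    refine Finset.image_congr fun g hg' => ?_
    show conjL N g (l * m) = conjL N g l * m
    rw [conjL_mul, mem_stab.1 (show g ∈ B from (Finset.mem_filter.1 hg').2)]
  have p1 := prod_orbit_eq_one nofix (l * m)
  rw [← e2, hmove, Finset.prod_image (mul_left_injective m).injOn, Finset.prod_mul_distrib,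
    Finset.prod_const, hOB, e1, prod_orbit_eq_one nofix l] at p1
  replace p1 := orderOf_dvd_of_pow_eq_one ((one_mul (M := N →* ℂˣ) _).symm.trans p1)
  rw [hm] at p1
  refine hli ?_
  have hcard : (Finset.univ.image fun g : G => conjL N g l).card = (stab N l).index := by
    rw [← Chars2.card_orbitFinset (isIrr_linFun l)]
    rw [← Finset.card_image_of_injective (f := fun x : N →* ℂˣ =>
      (⟨_, isIrr_linFun x⟩ : IrrCharacter N))
      _ (fun x y h => Chars2.linFun_injective (congrArg Subtype.val h))]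
    congr 1
    ext φ
    simp only [Finset.mem_image, Finset.mem_univ, true_and, Chars2.mem_orbitFinset,
      exists_exists_eq_and]
    constructor
    · rintro ⟨g, rfl⟩; exact ⟨g, rfl⟩
    · rintro ⟨g, hg'⟩; exact ⟨g, Subtype.ext hg'⟩
  rwa [hcard] at p1

theorem link2_same {l m : N →* ℂˣ} {r : ℕ} (hr : r.Prime) (hl : orderOf l = r)
    (hm : orderOf m = r) (hli : ¬ r ∣ (stab N l).index) (hmi : ¬ r ∣ (stab N m).index) :
    Link2 N l m := by
  classical
  have hl1 : l ≠ 1 := fun h => hr.ne_one (by rw [← hl, h, orderOf_one])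
  have hm1 : m ≠ 1 := fun h => hr.ne_one (by rw [← hm, h, orderOf_one])
  by_cases hg : (stab N l).index.Coprime (stab N m).index
  swap
  · exact link2_of_dvd hl1 hm1 hg (Nat.gcd_dvd_left _ _) (Nat.gcd_dvd_right _ _)
  have hlm : l * m ≠ 1 := fun h => by
    have h1 : stab N l = stab N m := by
      have h2 : m = l ^ (r - 1) := by
        have h3 : l * l ^ (r - 1) = 1 := by
          rw [← pow_succ', Nat.sub_add_cancel hr.one_le, ← hl, pow_orderOf_eq_one]
        exact mul_left_cancel (h.trans h3.symm)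
      refine le_antisymm (h2 ▸ stab_pow l _) (h2 ▸ stab_pow_of_coprime l ?_)
      rw [hl]
      exact (hr.coprime_iff_not_dvd).2 (Nat.not_dvd_of_pos_of_lt (by have := hr.two_le; omega)
        (by have := hr.two_le; omega))
    rw [h1, Nat.coprime_self] at hg
    exact index_ne_one nofix hm1 hg
  have hne := not_coprime_mul nofix hm hli hg
  have hne' : ¬ (stab N l).index.Coprime (stab N (l * m)).index := by
    have h := not_coprime_mul nofix hl hmi (Nat.coprime_comm.1 hg)
    rwa [show m * l = l * m from mul_comm m l] at h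
  refine link2_trans hlm ?_ ?_
  · exact link2_of_dvd hl1 hlm hne' (Nat.gcd_dvd_left _ _) (Nat.gcd_dvd_right _ _)
  · exact link2_of_dvd hlm hm1 (fun h => hne (Nat.coprime_comm.1 h)) (Nat.gcd_dvd_left _ _)
      (Nat.gcd_dvd_right _ _)

end nofix

theorem inertia_tw_le (φ : IrrCharacter N) (l : N →* ℂˣ) {g : G}
    (hl : g ∈ stab N l) (hg : g ∈ Chars2.inertiaSub (tw φ l : N → ℂ)) :
    g ∈ Chars2.inertiaSub (φ : N → ℂ) := by
  rw [Chars2.mem_inertiaSub] at hl hg ⊢
  funext n
  have h1 := congrFun hl n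
  have h2 := congrFun hg n
  change (l (MulAut.conjNormal g⁻¹ n) : ℂ) = (l n : ℂ) at h1
  change (l (MulAut.conjNormal g⁻¹ n) : ℂ) * Chars2.conjFun (φ : N → ℂ) g n =
    (l n : ℂ) * (φ : N → ℂ) n at h2
  rw [h1] at h2
  exact mul_left_cancel₀ (Units.ne_zero _) h2

theorem tw_apply_one (φ : IrrCharacter N) (l : N →* ℂˣ) :
    (tw φ l : N → ℂ) 1 = (φ : N → ℂ) 1 := by
  show (l 1 : ℂ) * _ = _
  rw [map_one, Units.val_one, one_mul]

theorem exists_lin (φ : IrrCharacter N) (h : (φ : N → ℂ) 1 = 1) :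
    ∃ k : N →* ℂˣ, (φ : N → ℂ) = Chars2.linFun k := by
  obtain ⟨k, hk⟩ := Chars2.exists_linFun _ ⟨Chars.irr_isCharacter φ, h⟩
  exact ⟨k, hk.symm⟩

/-- An invariant linear character is killed by the degrees over it. -/
theorem pow_degree (hNG : N ≤ commutator G) (k : N →* ℂˣ) (hk : stab N k = ⊤)
    (χ : IrrCharacter G)
    (h : classInner (fun n : N => (χ : G → ℂ) n) (Chars2.linFun k) ≠ 0) :
    k ^ charDegree (χ : G → ℂ) = 1 := by
  obtain ⟨e, d, he, hd, hdeg⟩ := exists_degree χ (φ := ⟨_, isIrr_linFun k⟩) h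
  change (Chars2.linFun k : N → ℂ) 1 = d at hd
  rw [Chars2.linFun_apply, map_one, Units.val_one, eq_comm, Nat.cast_eq_one] at hd
  change charDegree (χ : G → ℂ) = (stab N k).index * e * d at hdeg
  rw [hk, Subgroup.index_top, hd, one_mul, mul_one] at hdeg
  let ψ : IrrCharacter G := ⟨_, Chars.isIrrCharacter_one⟩
  let φ : IrrCharacter N := ⟨_, Chars.isIrrCharacter_one⟩
  have hψ : charDegree (ψ : G → ℂ) = 1 := by
    rw [← Nat.cast_inj (R := ℂ), degree_cast ψ, Nat.cast_one]
  have htw : (tw φ k : N → ℂ) = Chars2.linFun k := funext fun n => mul_one _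
  have he1 : classInner (fun n : N => (ψ : G → ℂ) n) (φ : N → ℂ) = (1 : ℕ) := by
    rw [Nat.cast_one]; exact Chars.classInner_self_irr φ.2
  have h1 := pow_eq_one_of_twist hNG k hk ψ χ φ (e := 1) (e' := e) he1 (by rw [htw]; exact he)
    one_ne_zero (fun h0 => degree_ne_zero χ (hdeg.trans h0))
  rwa [hψ, one_mul, ← hdeg] at h1

/-- A degree prime to `r` reaches linear characters of order `r`. -/
theorem link_exists (nofix : ∀ l : N →* ℂˣ, l ≠ 1 → stab N l ≠ ⊤) {a r : ℕ} (hr : r.Prime)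
    (ha : a ∈ relCharDegrees N) (hra : ¬ r ∣ a) :
    (∃ δ : N →* ℂˣ, orderOf δ = r ∧ ¬ r ∣ (stab N δ).index ∧ Link N a δ) ∨
      (∀ l : N →* ℂˣ, orderOf l = r → Link N a l) := by
  obtain ⟨χ, φ, rfl, hφ1, hφ⟩ := exists_below ha
  obtain ⟨e, d, he, hd, hdeg⟩ := exists_degree χ hφ
  have ha0 := degree_ne_zero χ
  by_cases hord : r ∣ orderOf (detIrr φ)
  · left
    set δ := detIrr φ ^ (orderOf (detIrr φ) / r) with hδ
    have hpos : orderOf (detIrr φ) ≠ 0 := by
      haveI : Finite (N →* ℂˣ) := Finite.of_injective (fun l : N →* ℂˣ =>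
        (⟨_, isIrr_linFun l⟩ : IrrCharacter N))
        (fun x y h => Chars2.linFun_injective (congrArg Subtype.val h))
      exact (orderOf_pos (detIrr φ)).ne'
    have hδo : orderOf δ = r := orderOf_pow_orderOf_div hpos hord
    have hδ1 : δ ≠ 1 := fun h => hr.ne_one (by rw [← hδo, h, orderOf_one])
    have hdvd : (stab N δ).index ∣ charDegree (χ : G → ℂ) :=
      (Subgroup.index_dvd_of_le ((inertia_le_stab_det φ).trans (stab_pow _ _))).trans
        (hdeg ▸ ⟨e * d, mul_assoc _ _ _⟩)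
    exact ⟨δ, hδo, fun h => hra (h.trans hdvd),
      link_of_dvd ha ha0 hδ1 (index_ne_one nofix hδ1) hdvd dvd_rfl⟩
  right
  intro l hl
  have hl1 : l ≠ 1 := fun h => hr.ne_one (by rw [← hl, h, orderOf_one])
  have hd0 : ¬ r ∣ d := fun h => hra (h.trans (hdeg ▸ dvd_mul_left d _))
  have hle : Chars2.inertiaSub (tw φ l : N → ℂ) ≤ stab N l := by
    refine (inertia_le_stab_det _).trans ?_
    rw [detIrr_tw φ l hd]
    refine (stab_pow _ (orderOf (detIrr φ))).trans ?_
    rw [show (l ^ d * detIrr φ) ^ orderOf (detIrr φ) = l ^ (d * orderOf (detIrr φ)) from by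
      rw [show (l ^ d * detIrr φ) ^ orderOf (detIrr φ) =
          (l ^ d) ^ orderOf (detIrr φ) * detIrr φ ^ orderOf (detIrr φ) from
          mul_pow (l ^ d) (detIrr φ) _,
        pow_orderOf_eq_one, ← pow_mul]
      exact mul_one (M := N →* ℂˣ) _]
    refine stab_pow_of_coprime l (hl ▸ hr.coprime_iff_not_dvd.2 fun h => ?_)
    rcases hr.dvd_mul.1 h with h | h
    · exact hd0 h
    · exact hord h
  have hle' : Chars2.inertiaSub (tw φ l : N → ℂ) ≤ Chars2.inertiaSub (φ : N → ℂ) :=
    fun g hg => inertia_tw_le φ l (hle hg) hg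
  by_cases hq : (Chars2.inertiaSub (φ : N → ℂ)).index * d = 1
  · exfalso
    obtain ⟨ht, hd1⟩ := mul_eq_one.1 hq
    obtain ⟨k, hk⟩ := exists_lin φ (by rw [hd, hd1, Nat.cast_one])
    have hk1 : k ≠ 1 := fun h => hφ1 (by rw [hk, h]; rfl)
    refine nofix k hk1 ?_
    rw [stab, ← hk]
    exact Subgroup.index_eq_one.1 ht
  obtain ⟨χ', hχ'⟩ := exists_over (tw φ l)
  have htw1 : (tw φ l : N → ℂ) ≠ fun _ => 1 := by
    intro h
    refine nofix l hl1 (top_le_iff.1 (le_trans (le_of_eq ?_) hle))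
    symm
    refine eq_top_iff.2 fun g _ => Chars2.mem_inertiaSub.2 (funext fun n => ?_)
    rw [Chars2.conjFun_apply, h]
  have hb := mem_rel_of_over χ' htw1 hχ'
  obtain ⟨e', d', -, hd', hdeg'⟩ := exists_degree χ' hχ'
  rw [tw_apply_one, hd, Nat.cast_inj] at hd'
  subst hd'
  have h1 : Reach N (charDegree (χ : G → ℂ)) (charDegree (χ' : G → ℂ)) := by
    refine reach_of_gcd ha hb hq ?_ ?_ ha0
    · rw [hdeg]; exact ⟨e, by ring⟩
    · rw [hdeg']
      exact (Nat.mul_dvd_mul_right (Subgroup.index_dvd_of_le hle') d).trans ⟨e', by ring⟩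
  have h2 : Link N (charDegree (χ' : G → ℂ)) l :=
    link_of_dvd hb (degree_ne_zero χ') hl1 (index_ne_one nofix hl1)
      ((Subgroup.index_dvd_of_le hle).trans (hdeg' ▸ ⟨e' * d, mul_assoc _ _ _⟩)) dvd_rfl
  exact fun ξ hξ => h1.trans (h2 ξ hξ)

/-- With an invariant linear character of order `r`, every degree reaches one divisible by `r`. -/
theorem exists_dvd_reach (hNG : N ≤ commutator G) {l : N →* ℂˣ} (hfix : stab N l = ⊤) {r a : ℕ}
    (hr : r.Prime) (hl : orderOf l = r) (ha : a ∈ relCharDegrees N) :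
    ∃ b, r ∣ b ∧ Reach N a b := by
  by_cases hra : r ∣ a
  · exact ⟨a, hra, ha, ha, SimpleGraph.Reachable.refl _⟩
  obtain ⟨χ, φ, rfl, hφ1, hφ⟩ := exists_below ha
  obtain ⟨e, d, he, hd, hdeg⟩ := exists_degree χ hφ
  have ha0 := degree_ne_zero χ
  by_cases hq : (Chars2.inertiaSub (φ : N → ℂ)).index * d = 1
  · obtain ⟨ht, hd1⟩ := mul_eq_one.1 hq
    obtain ⟨k, hk⟩ := exists_lin φ (by rw [hd, hd1, Nat.cast_one])
    have hk1 : k ≠ 1 := fun h => hφ1 (by rw [hk, h]; rfl)
    have hks : stab N k = ⊤ := by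
      rw [stab, ← hk]; exact Subgroup.index_eq_one.1 ht
    have hka : orderOf k ∣ charDegree (χ : G → ℂ) :=
      orderOf_dvd_of_pow_eq_one (pow_degree hNG k hks χ (hk ▸ hφ))
    have hcop : (orderOf l).Coprime (orderOf k) := by
      rw [hl]; exact hr.coprime_iff_not_dvd.2 fun h => hra (h.trans hka)
    have ho := (Commute.all l k).orderOf_mul_eq_mul_orderOf_of_coprime hcop
    have hlk : l * k ≠ 1 := fun h => by
      rw [h, orderOf_one, hl, eq_comm, mul_eq_one] at ho
      exact hr.ne_one ho.1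
    obtain ⟨χ', hχ', hb, -⟩ := exists_over_lin (l * k) hlk
    have hinv : stab N (l * k) = ⊤ := eq_top_iff.2 fun g _ => mem_stab.2 (by
      rw [conjL_mul, mem_stab.1 (hfix ▸ Subgroup.mem_top g),
        mem_stab.1 (hks ▸ Subgroup.mem_top g)])
    have hdvd : orderOf l * orderOf k ∣ charDegree (χ' : G → ℂ) :=
      ho ▸ orderOf_dvd_of_pow_eq_one (pow_degree hNG _ hinv χ' hχ')
    refine ⟨_, hl ▸ (dvd_of_mul_right_dvd hdvd), reach_of_gcd ha hb ?_ hka
      (dvd_of_mul_left_dvd hdvd) ha0⟩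
    exact fun h => hk1 (orderOf_eq_one_iff.1 h)
  obtain ⟨χ', hχ'⟩ := exists_over (tw φ l)
  obtain ⟨e', d', he', hd', hdeg'⟩ := exists_degree χ' hχ'
  rw [tw_apply_one, hd, Nat.cast_inj] at hd'
  subst hd'
  have hle : Chars2.inertiaSub (tw φ l : N → ℂ) ≤ Chars2.inertiaSub (φ : N → ℂ) :=
    fun g hg => inertia_tw_le φ l (hfix ▸ Subgroup.mem_top g) hg
  have htw1 : (tw φ l : N → ℂ) ≠ fun _ => 1 := by
    intro h
    refine hq ?_
    have htop : Chars2.inertiaSub (φ : N → ℂ) = ⊤ := top_le_iff.1 (le_trans (le_of_eq (by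
      symm
      refine eq_top_iff.2 fun g _ => Chars2.mem_inertiaSub.2 (funext fun n => ?_)
      rw [Chars2.conjFun_apply, h])) hle)
    have h1 := tw_apply_one φ l
    rw [congrFun h 1, hd, eq_comm, Nat.cast_eq_one] at h1
    rw [htop, Subgroup.index_top, h1]
  have hre : r ∣ e' := by
    have hne : e ≠ 0 := fun h => by rw [h, mul_zero, zero_mul] at hdeg; exact ha0 hdeg
    have hne' : e' ≠ 0 := fun h => by
      rw [h, mul_zero, zero_mul] at hdeg'; exact degree_ne_zero χ' hdeg'
    have h1 := orderOf_dvd_of_pow_eq_one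
      (pow_eq_one_of_twist hNG l hfix χ χ' φ he he' hne hne')
    rw [hl] at h1
    exact (hr.dvd_mul.1 h1).resolve_left hra
  refine ⟨charDegree (χ' : G → ℂ), hdeg' ▸ (hre.trans (dvd_mul_left e' _)).trans
    (dvd_mul_right _ _), reach_of_gcd ha (mem_rel_of_over χ' htw1 hχ') hq ?_ ?_ ha0⟩
  · rw [hdeg]; exact ⟨e, by ring⟩
  · rw [hdeg']
    exact (Nat.mul_dvd_mul_right (Subgroup.index_dvd_of_le hle) d).trans ⟨e', by ring⟩

theorem card_lin : Nat.card (N →* ℂˣ) = ⁅N, N⁆.relIndex N := by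
  rw [Nat.card_congr Chars.homEquivLinear, Chars.card_linear, Subgroup.relIndex]
  congr 1
  rw [← Subgroup.comap_map_eq_self_of_injective N.subtype_injective (commutator N),
    Subgroup.map_subtype_commutator]
  rfl

/-- Two relative degrees avoiding prime divisors of `|N : N'|` are joined by a path. -/
theorem reach_of_not_dvd (hNG : N ≤ commutator G) {a b r s : ℕ} (ha : a ∈ relCharDegrees N)
    (hb : b ∈ relCharDegrees N) (hr : r.Prime) (hs : s.Prime)
    (hrm : r ∣ ⁅N, N⁆.relIndex N) (hsm : s ∣ ⁅N, N⁆.relIndex N) (hra : ¬ r ∣ a) (hsb : ¬ s ∣ b) :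
    Reach N a b := by
  haveI : Finite (N →* ℂˣ) := Finite.of_injective (fun l : N →* ℂˣ =>
    (⟨_, isIrr_linFun l⟩ : IrrCharacter N))
    (fun x y h => Chars2.linFun_injective (congrArg Subtype.val h))
  by_cases hex : ∃ l : N →* ℂˣ, l ≠ 1 ∧ stab N l = ⊤
  · obtain ⟨l, hl1, hfix⟩ := hex
    obtain ⟨t, ht, htd⟩ := Nat.exists_prime_and_dvd (n := orderOf l)
      (fun h => hl1 (orderOf_eq_one_iff.1 h))
    have hfix' : stab N (l ^ (orderOf l / t)) = ⊤ := top_le_iff.1 (hfix ▸ stab_pow l _)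
    have hto := orderOf_pow_orderOf_div (orderOf_pos l).ne' htd
    obtain ⟨x, hx, hax⟩ := exists_dvd_reach hNG hfix' ht hto ha
    obtain ⟨y, hy, hby⟩ := exists_dvd_reach hNG hfix' ht hto hb
    refine (hax.trans (reach_of_gcd hax.2.1 hby.2.1 ht.ne_one hx hy ?_)).trans hby.symm
    obtain ⟨χ, -, h⟩ := hax.2.1
    exact h ▸ degree_ne_zero χ
  push Not at hex
  have hord : ∀ {q : ℕ}, q.Prime → q ∣ ⁅N, N⁆.relIndex N →
      ∃ l : N →* ℂˣ, orderOf l = q := fun {q} hq hqm => by
    haveI := Fact.mk hq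
    exact exists_prime_orderOf_dvd_card' q (card_lin (N := N) ▸ hqm)
  have hne : ∀ {q : ℕ} {l : N →* ℂˣ}, q.Prime → orderOf l = q → l ≠ 1 :=
    fun {q l} hq hl h => hq.ne_one (by rw [← hl, h, orderOf_one])
  have hsel : ∀ {c q : ℕ}, q.Prime → q ∣ ⁅N, N⁆.relIndex N → c ∈ relCharDegrees N → ¬ q ∣ c →
      ∃ δ : N →* ℂˣ, orderOf δ = q ∧ Link N c δ := fun {c q} hq hqm hc hqc => by
    rcases link_exists hex hq hc hqc with ⟨δ, h1, -, h2⟩ | h
    · exact ⟨δ, h1, h2⟩
    · obtain ⟨l, hl⟩ := hord hq hqm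
      exact ⟨l, hl, h l hl⟩
  by_cases hrs : r = s
  · subst hrs
    rcases link_exists hex hr ha hra with ⟨δ, hδ, hδi, hδl⟩ | hall
    · rcases link_exists hex hr hb hsb with ⟨ε, hε, hεi, hεl⟩ | hall'
      · exact reach_of_link2 (hne hr hδ) (hne hr hε) hδl hεl (link2_same hex hr hδ hε hδi hεi)
      · exact reach_of_link (hne hr hδ) hδl (hall' δ hδ)
    · obtain ⟨ε, hε, hεl⟩ := hsel hr hrm hb hsb
      exact reach_of_link (hne hr hε) (hall ε hε) hεl
  · obtain ⟨δ, hδ, hδl⟩ := hsel hr hrm ha hra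
    obtain ⟨ε, hε, hεl⟩ := hsel hs hsm hb hsb
    exact reach_of_link2 (hne hr hδ) (hne hs hε) hδl hεl (link2_coprime hex hr hs hrs hδ hε)

end main

end Cfsg.Agent.DegreeGraph.RelTwo
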