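import Cfsg.Agent.DegreeGraph.RelativeTwoComponents
import Cfsg.Agent.DegreeGraph.ModFixBase
import Cfsg.Agent.S4776

/-!
The components of the common-divisor graph on the degrees relative to a solvable normal subgroup
inside the derived subgroup: distances inside a component.
-/

set_option autoImplicit false
set_option linter.style.haveILetI false
set_option linter.unusedSectionVars false

namespace Cfsg.Agent.DegreeGraph.RelTwo

open Cfsg Cfsg.Agent

universe u

attribute [-instance] MonoidHom.instPow instOneMonoidHom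

variable {G : Type u} [Group G] [Fintype G] {N : Subgroup G} [hN : N.Normal]

noncomputable local instance : Fintype N := Fintype.ofFinite N

/-- Two relative degrees with a common divisor other than one. -/
def Near (N : Subgroup G) (a b : ℕ) : Prop :=
  a ∈ relCharDegrees N ∧ b ∈ relCharDegrees N ∧ ∃ d : ℕ, d ≠ 1 ∧ d ∣ a ∧ d ∣ b

/-- At distance at most two. -/
def Two (N : Subgroup G) (a b : ℕ) : Prop := ∃ x, Near N a x ∧ Near N x b

theorem rel_ne_zero {a : ℕ} (ha : a ∈ relCharDegrees N) : a ≠ 0 := by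
  obtain ⟨χ, -, rfl⟩ := ha
  exact degree_ne_zero χ

theorem Near.symm {a b : ℕ} (h : Near N a b) : Near N b a :=
  ⟨h.2.1, h.1, h.2.2.imp fun _ hd => ⟨hd.1, hd.2.2, hd.2.1⟩⟩

theorem Two.symm {a b : ℕ} (h : Two N a b) : Two N b a :=
  h.imp fun _ hx => ⟨hx.2.symm, hx.1.symm⟩

theorem Near.reach {a b : ℕ} (h : Near N a b) : Reach N a b := by
  obtain ⟨ha, hb, d, hd, hda, hdb⟩ := h
  exact reach_of_gcd ha hb hd hda hdb (rel_ne_zero ha)

theorem Near.adj {a b : ↥(relCharDegrees N)} (h : Near N a b) (hne : a ≠ b) :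
    (commonDivisorGraph.induce (relCharDegrees N)).Adj a b := by
  obtain ⟨-, -, d, hd, hda, hdb⟩ := h
  refine ⟨fun e => hne (Subtype.ext e), ?_⟩
  have h1 : d ∣ Nat.gcd (a : ℕ) b := Nat.dvd_gcd hda hdb
  have h2 : Nat.gcd (a : ℕ) b ≠ 0 := fun h => rel_ne_zero a.2 (Nat.gcd_eq_zero_iff.1 h).1
  have h3 : Nat.gcd (a : ℕ) b ≠ 1 := fun h => hd (Nat.dvd_one.1 (h ▸ h1))
  show 1 < Nat.gcd (a : ℕ) b
  omega

section nofix

variable (nofix : ∀ l : N →* ℂˣ, l ≠ 1 → stab N l ≠ ⊤)
include nofix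

/-- The sharpened form of `link_exists`. -/
theorem near_exists {a r : ℕ} (hr : r.Prime) (ha : a ∈ relCharDegrees N) (hra : ¬ r ∣ a) :
    (∃ δ : N →* ℂˣ, orderOf δ = r ∧ (stab N δ).index ∣ a) ∨
      (∀ l : N →* ℂˣ, orderOf l = r → ∃ x, Near N a x ∧ (stab N l).index ∣ x) := by
  obtain ⟨χ, φ, rfl, hφ1, hφ⟩ := exists_below ha
  obtain ⟨e, d, he, hd, hdeg⟩ := exists_degree χ hφ
  by_cases hord : r ∣ orderOf (detIrr φ)
  · left
    haveI : Finite (N →* ℂˣ) := Finite.of_injective (fun l : N →* ℂˣ =>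
      (⟨_, isIrr_linFun l⟩ : IrrCharacter N))
      (fun x y h => Chars2.linFun_injective (congrArg Subtype.val h))
    exact ⟨detIrr φ ^ (orderOf (detIrr φ) / r),
      orderOf_pow_orderOf_div (orderOf_pos (detIrr φ)).ne' hord,
      (Subgroup.index_dvd_of_le ((inertia_le_stab_det φ).trans (stab_pow _ _))).trans
        (hdeg ▸ ⟨e * d, mul_assoc _ _ _⟩)⟩
  right
  intro l hl
  have hl1 : l ≠ 1 := fun h => hr.ne_one (by rw [← hl, h, orderOf_one])
  have hd0 : ¬ r ∣ d := fun h => hra (h.trans (hdeg ▸ dvd_mul_left d _))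
  have hle : Chars2.inertiaSub (tw φ l : N → ℂ) ≤ stab N l := by
    refine (inertia_le_stab_det _).trans ?_
    rw [detIrr_tw φ l hd]
    refine (stab_pow _ (orderOf (detIrr φ))).trans ?_
    rw [show (l ^ d * detIrr φ) ^ orderOf (detIrr φ) = l ^ (d * orderOf (detIrr φ)) from by
      rw [show (l ^ d * detIrr φ) ^ orderOf (detIrr φ) =
          (l ^ d) ^ orderOf (detIrr φ) * detIrr φ ^ orderOf (detIrr φ) from
          mul_pow (l ^ d) (detIrr φ) _,
        pow_orderOf_eq_one, ← pow_mul]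
      exact mul_one (M := N →* ℂˣ) _]
    refine stab_pow_of_coprime l (hl ▸ hr.coprime_iff_not_dvd.2 fun h => ?_)
    rcases hr.dvd_mul.1 h with h | h
    · exact hd0 h
    · exact hord h
  have hle' : Chars2.inertiaSub (tw φ l : N → ℂ) ≤ Chars2.inertiaSub (φ : N → ℂ) :=
    fun g hg => inertia_tw_le φ l (hle hg) hg
  have hq : (Chars2.inertiaSub (φ : N → ℂ)).index * d ≠ 1 := by
    intro hq
    obtain ⟨ht, hd1⟩ := mul_eq_one.1 hq
    obtain ⟨k, hk⟩ := exists_lin φ (by rw [hd, hd1, Nat.cast_one])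
    have hk1 : k ≠ 1 := fun h => hφ1 (by rw [hk, h]; rfl)
    refine nofix k hk1 ?_
    rw [stab, ← hk]
    exact Subgroup.index_eq_one.1 ht
  obtain ⟨χ', hχ'⟩ := exists_over (tw φ l)
  have htw1 : (tw φ l : N → ℂ) ≠ fun _ => 1 := by
    intro h
    refine nofix l hl1 (top_le_iff.1 (le_trans (le_of_eq ?_) hle))
    symm
    refine eq_top_iff.2 fun g _ => Chars2.mem_inertiaSub.2 (funext fun n => ?_)
    rw [Chars2.conjFun_apply, h]
  obtain ⟨e', d', -, hd', hdeg'⟩ := exists_degree χ' hχ'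
  rw [tw_apply_one, hd, Nat.cast_inj] at hd'
  subst hd'
  refine ⟨_, ⟨ha, mem_rel_of_over χ' htw1 hχ', _, hq, ?_, ?_⟩,
    (Subgroup.index_dvd_of_le hle).trans (hdeg' ▸ ⟨e' * d, mul_assoc _ _ _⟩)⟩
  · rw [hdeg]; exact ⟨e, by ring⟩
  · rw [hdeg']
    exact (Nat.mul_dvd_mul_right (Subgroup.index_dvd_of_le hle') d).trans ⟨e', by ring⟩

/-- Two degrees divisible by indices of stabilisers of two characters of one prime order. -/
theorem two_of_same {a c r : ℕ} {δ ε : N →* ℂˣ} (hr : r.Prime) (ha : a ∈ relCharDegrees N)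
    (hc : c ∈ relCharDegrees N) (hδ : orderOf δ = r) (hε : orderOf ε = r)
    (hda : (stab N δ).index ∣ a) (hec : (stab N ε).index ∣ c) (hra : ¬ r ∣ a) (hrc : ¬ r ∣ c) :
    Two N a c := by
  have hδ1 : δ ≠ 1 := fun h => hr.ne_one (by rw [← hδ, h, orderOf_one])
  have hε1 : ε ≠ 1 := fun h => hr.ne_one (by rw [← hε, h, orderOf_one])
  have hδi : ¬ r ∣ (stab N δ).index := fun h => hra (h.trans hda)
  have hεi : ¬ r ∣ (stab N ε).index := fun h => hrc (h.trans hec)
  by_cases hg : (stab N δ).index.Coprime (stab N ε).index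
  swap
  · exact ⟨c, ⟨ha, hc, _, hg, (Nat.gcd_dvd_left _ _).trans hda, (Nat.gcd_dvd_right _ _).trans hec⟩,
      hc, hc, _, index_ne_one nofix hε1, hec, hec⟩
  have hlm : δ * ε ≠ 1 := fun h => by
    have h1 : stab N δ = stab N ε := by
      have h2 : ε = δ ^ (r - 1) := by
        have h3 : δ * δ ^ (r - 1) = 1 := by
          rw [← pow_succ', Nat.sub_add_cancel hr.one_le, ← hδ, pow_orderOf_eq_one]
        exact mul_left_cancel (h.trans h3.symm)
      refine le_antisymm (h2 ▸ stab_pow δ _) (h2 ▸ stab_pow_of_coprime δ ?_)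
      rw [hδ]
      exact (hr.coprime_iff_not_dvd).2 (Nat.not_dvd_of_pos_of_lt (by have := hr.two_le; omega)
        (by have := hr.two_le; omega))
    rw [h1, Nat.coprime_self] at hg
    exact index_ne_one nofix hε1 hg
  have hne : ¬ (stab N ε).index.Coprime (stab N (δ * ε)).index := not_coprime_mul nofix hε hδi hg
  have hne' : ¬ (stab N δ).index.Coprime (stab N (δ * ε)).index := by
    have h := not_coprime_mul nofix hδ hεi (Nat.coprime_comm.1 hg)
    rwa [show ε * δ = δ * ε from mul_comm ε δ] at h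
  obtain ⟨χ, -, hx, hdvd⟩ := exists_over_lin (δ * ε) hlm
  exact ⟨_, ⟨ha, hx, _, hne', (Nat.gcd_dvd_left _ _).trans hda,
    (Nat.gcd_dvd_right _ _).trans hdvd⟩,
    hx, hc, _, hne, (Nat.gcd_dvd_right _ _).trans hdvd, (Nat.gcd_dvd_left _ _).trans hec⟩

/-- A degree with a linear constituent. -/
theorem exists_prime_lin {χ : IrrCharacter G} {φ : IrrCharacter N}
    (hφ1 : (φ : N → ℂ) ≠ fun _ => 1)
    (hφ : classInner (fun n : N => (χ : G → ℂ) n) (φ : N → ℂ) ≠ 0) (hd : (φ : N → ℂ) 1 = 1) :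
    ∃ (s : ℕ) (δ : N →* ℂˣ), s.Prime ∧ orderOf δ = s ∧ s ∣ ⁅N, N⁆.relIndex N ∧
      (stab N δ).index ∣ charDegree (χ : G → ℂ) := by
  haveI : Finite (N →* ℂˣ) := Finite.of_injective (fun l : N →* ℂˣ =>
    (⟨_, isIrr_linFun l⟩ : IrrCharacter N))
    (fun x y h => Chars2.linFun_injective (congrArg Subtype.val h))
  obtain ⟨e, d, he, hd', hdeg⟩ := exists_degree χ hφ
  obtain ⟨k, hk⟩ := exists_lin φ hd
  have hk1 : k ≠ 1 := fun h => hφ1 (by rw [hk, h]; rfl)
  obtain ⟨s, hs, hsk⟩ := Nat.exists_prime_and_dvd (n := orderOf k)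
    (fun h => hk1 (orderOf_eq_one_iff.1 h))
  have ho := orderOf_pow_orderOf_div (orderOf_pos k).ne' hsk
  refine ⟨s, k ^ (orderOf k / s), hs, ho, card_lin (N := N) ▸ ho ▸ orderOf_dvd_natCard _, ?_⟩
  refine (Subgroup.index_dvd_of_le (stab_pow k _)).trans ?_
  rw [stab, ← hk, hdeg]
  exact ⟨e * d, mul_assoc _ _ _⟩

theorem two_of_linear {a c : ℕ} (hc : c ∈ relCharDegrees N) (hcm : c.Coprime (⁅N, N⁆.relIndex N))
    {χ : IrrCharacter G} {φ : IrrCharacter N} (hχa : charDegree (χ : G → ℂ) = a)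
    (ha : a ∈ relCharDegrees N) (ham : a.Coprime (⁅N, N⁆.relIndex N))
    (hφ1 : (φ : N → ℂ) ≠ fun _ => 1)
    (hφ : classInner (fun n : N => (χ : G → ℂ) n) (φ : N → ℂ) ≠ 0) (hd : (φ : N → ℂ) 1 = 1) :
    Two N a c := by
  obtain ⟨s, δ, hs, hδ, hsm, hdvd⟩ := exists_prime_lin nofix hφ1 hφ hd
  rw [hχa] at hdvd
  have hδ1 : δ ≠ 1 := fun h => hs.ne_one (by rw [← hδ, h, orderOf_one])
  have hsa : ¬ s ∣ a := fun h => hs.ne_one (Nat.eq_one_of_dvd_coprimes ham h hsm)
  have hsc : ¬ s ∣ c := fun h => hs.ne_one (Nat.eq_one_of_dvd_coprimes hcm h hsm)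
  rcases near_exists nofix hs hc hsc with ⟨ε, hε, hec⟩ | hall
  · exact two_of_same nofix hs ha hc hδ hε hdvd hec hsa hsc
  · obtain ⟨x, hx, hix⟩ := hall δ hδ
    exact ⟨x, ⟨ha, hx.2.1, _, index_ne_one nofix hδ1, hdvd, hix⟩, hx.symm⟩

end nofix

/-- A character constant on the derived subgroup of `N` has a linear constituent on `N`. -/
theorem linear_of_const {χ : IrrCharacter G} {φ : IrrCharacter N}
    (hφ : classInner (fun n : N => (χ : G → ℂ) n) (φ : N → ℂ) ≠ 0)
    (h : ∀ x ∈ ⁅N, N⁆, (χ : G → ℂ) x = (χ : G → ℂ) 1) : (φ : N → ℂ) 1 = 1 := by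
  classical
  haveI : Fintype (⁅N, N⁆ : Subgroup G) := Fintype.ofFinite _
  have hle : ⁅N, N⁆ ≤ N := Subgroup.commutator_le_left N N
  set one' : IrrCharacter (⁅N, N⁆ : Subgroup G) := ⟨_, Chars.isIrrCharacter_one⟩
  set res := Chars2.resSub ⁅N, N⁆ N hle (φ : N → ℂ) with hres
  have hresc : IsCharacter (⁅N, N⁆ : Subgroup G) res :=
    Chars2.isCharacter_resSub ⁅N, N⁆ N hle (Chars.irr_isCharacter φ)
  have hzero : ∀ ψ : IrrCharacter (⁅N, N⁆ : Subgroup G), ψ ≠ one' →
      classInner res (ψ : (⁅N, N⁆ : Subgroup G) → ℂ) = 0 := by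
    intro ψ hψ
    have h0 : classInner (fun n : (⁅N, N⁆ : Subgroup G) => (χ : G → ℂ) n)
        (ψ : (⁅N, N⁆ : Subgroup G) → ℂ) = 0 := by
      rw [show (fun n : (⁅N, N⁆ : Subgroup G) => (χ : G → ℂ) n) =
          (χ : G → ℂ) 1 • (fun _ : (⁅N, N⁆ : Subgroup G) => (1 : ℂ)) from
        funext fun n => by rw [Pi.smul_apply, smul_eq_mul, mul_one]; exact h n n.2,
        Chars.classInner_smul_left, Chars.classInner_irr_of_ne Chars.isIrrCharacter_one ψ.2
          (fun he => hψ (Subtype.ext he.symm)), mul_zero]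
    rw [Chars2.classInner_restrict_expand ⁅N, N⁆ N hle (Chars.irr_isCharacter χ)] at h0
    have hnat : ∀ η : IrrCharacter N, ∃ k : ℕ,
        classInner (fun t : N => (χ : G → ℂ) t) (η : N → ℂ) *
          classInner (Chars2.resSub ⁅N, N⁆ N hle (η : N → ℂ)) (ψ : _ → ℂ) = k := fun η => by
      obtain ⟨i, hi⟩ := Chars.exists_classInner_eq_nat
        (Chars.isCharacter_restrict (Chars.irr_isCharacter χ) N) (Chars.irr_isCharacter η)
      obtain ⟨j, hj⟩ := Chars.exists_classInner_eq_nat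
        (Chars2.isCharacter_resSub ⁅N, N⁆ N hle (Chars.irr_isCharacter η)) (Chars.irr_isCharacter ψ)
      exact ⟨i * j, by rw [hi, hj, Nat.cast_mul]⟩
    choose k hk using hnat
    simp only [hk] at h0
    have h1 : k φ = 0 := Finset.sum_eq_zero_iff.1 (by exact_mod_cast h0) φ (Finset.mem_univ φ)
    have h2 := hk φ
    rw [h1, Nat.cast_zero] at h2
    exact (mul_eq_zero.1 h2).resolve_left hφ
  have hconst : ∀ x : (⁅N, N⁆ : Subgroup G), res x = res 1 := fun x => by
    have hcf := Chars.isClassFunction_of_isCharacter hresc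
    have hone : ∀ y, res y = classInner res (one' : _ → ℂ) := fun y => by
      rw [Chars2.apply_eq_sum hcf y, Finset.sum_eq_single one'
        (fun ψ _ hψ => by rw [hzero ψ hψ, zero_mul]) (fun hn => absurd (Finset.mem_univ _) hn)]
      exact mul_one _
    rw [hone x, hone 1]
  obtain ⟨γ, hγ⟩ := ModFix.exists_deflate (Abelianization.of (G := N))
    (QuotientGroup.mk'_surjective _) φ.2 (fun n hn => by
      rw [Abelianization.ker_of] at hn
      have hn' : (n : G) ∈ ⁅N, N⁆ := by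
        rw [← Subgroup.map_subtype_commutator N]
        exact ⟨n, hn, rfl⟩
      exact hconst ⟨(n : G), hn'⟩)
  rw [← hγ 1, map_one]
  exact Chars.irr_apply_one_of_comm mul_comm γ.2

/-- In a disconnected graph two degrees in the component prime to `|N : N'|` are at distance at
most two. -/
theorem two_of_coprime : ∀ (n : ℕ) {G : Type u} [Group G] [Fintype G] (N : Subgroup G) [N.Normal],
    Nat.card N ≤ n → Group.IsSolvable N → N ≤ commutator G → ∀ a c b : ℕ,
      a ∈ relCharDegrees N → c ∈ relCharDegrees N → b ∈ relCharDegrees N →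
      a.Coprime (⁅N, N⁆.relIndex N) → c.Coprime (⁅N, N⁆.relIndex N) →
      ¬ Reach N a b → ¬ Reach N c b → Two N a c := by
  intro n
  induction n with
  | zero => intro G _ _ N _ h; have := Nat.card_pos (α := N); omega
  | succ n ih =>
    intro G _ _ N _ hn hsol hNG a c b ha hc hb ham hcm hab hcb
    classical
    have hlt : ⁅N, N⁆ < N := by
      obtain ⟨χ, ⟨x, hx, hne⟩, -⟩ := ha
      haveI : Nontrivial N := ⟨⟨x, hx⟩, 1, fun e => hne (by rw [show x = 1 from congrArg Subtype.val e])⟩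
      haveI := hsol
      have h := Group.IsSolvable.commutator_lt_top_of_nontrivial (G := N)
      refine lt_of_le_of_ne (Subgroup.commutator_le_left N N) fun e => h.ne ?_
      refine Subgroup.map_injective N.subtype_injective ?_
      rw [Subgroup.map_subtype_commutator, e, ← MonoidHom.range_eq_map, Subgroup.range_subtype]
    set m := ⁅N, N⁆.relIndex N with hm
    have hm1 : m ≠ 1 := fun h => hlt.not_ge (Subgroup.relIndex_eq_one.1 h)
    have nofix : ∀ l : N →* ℂˣ, l ≠ 1 → stab N l ≠ ⊤ := by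
      intro l hl1 hfix
      haveI : Finite (N →* ℂˣ) := Finite.of_injective (fun l : N →* ℂˣ =>
        (⟨_, isIrr_linFun l⟩ : IrrCharacter N))
        (fun x y h => Chars2.linFun_injective (congrArg Subtype.val h))
      obtain ⟨t, ht, htd⟩ := Nat.exists_prime_and_dvd (n := orderOf l)
        (fun h => hl1 (orderOf_eq_one_iff.1 h))
      have hfix' : stab N (l ^ (orderOf l / t)) = ⊤ := top_le_iff.1 (hfix ▸ stab_pow l _)
      have hto := orderOf_pow_orderOf_div (orderOf_pos l).ne' htd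
      obtain ⟨x, hx, hax⟩ := exists_dvd_reach hNG hfix' ht hto ha
      obtain ⟨y, hy, hby⟩ := exists_dvd_reach hNG hfix' ht hto hb
      exact hab ((hax.trans (reach_of_gcd hax.2.1 hby.2.1 ht.ne_one hx hy
        (rel_ne_zero hax.2.1))).trans hby.symm)
    -- all primes of `m` divide `b`
    have hball : ∀ r : ℕ, r.Prime → r ∣ m → r ∣ b := by
      rcases (S4776.result N hlt hNG).2 a b ha hb (fun h => hab ⟨ha, hb, h⟩) with h | h
      · exact h.2
      · intro r hr hrm
        exact absurd (Nat.eq_one_of_dvd_coprimes ham (h.2 r hr hrm) hrm) hr.ne_one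
    by_cases hblin : b ∈ relCharDegrees ⁅N, N⁆
    swap
    · -- `b` has a linear constituent
      obtain ⟨χ, φ, hχb, hφ1, hφ⟩ := exists_below hb
      have hlin := linear_of_const hφ fun x hx => by
        by_contra hne
        exact hblin ⟨χ, ⟨x, hx, hne⟩, hχb⟩
      obtain ⟨s, δ, hs, hδ, hsm, hdvd⟩ := exists_prime_lin nofix hφ1 hφ hlin
      rw [hχb] at hdvd
      have hδ1 : δ ≠ 1 := fun h => hs.ne_one (by rw [← hδ, h, orderOf_one])
      have hleft : ∀ x ∈ relCharDegrees N, x.Coprime m → ¬ Reach N x b →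
          ∃ ε : N →* ℂˣ, orderOf ε = s ∧ (stab N ε).index ∣ x := by
        intro x hx hxm hxb
        refine (near_exists nofix hs hx
          fun h => hs.ne_one (Nat.eq_one_of_dvd_coprimes hxm h hsm)).resolve_right fun hall => hxb ?_
        obtain ⟨y, hy, hiy⟩ := hall δ hδ
        exact hy.reach.trans
          (reach_of_gcd hy.2.1 hb (index_ne_one nofix hδ1) hiy hdvd (rel_ne_zero hy.2.1))
      obtain ⟨ε, hε, hea⟩ := hleft a ha ham hab
      obtain ⟨ε', hε', hec⟩ := hleft c hc hcm hcb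
      exact two_of_same nofix hs ha hc hε hε' hea hec
        (fun h => hs.ne_one (Nat.eq_one_of_dvd_coprimes ham h hsm))
        (fun h => hs.ne_one (Nat.eq_one_of_dvd_coprimes hcm h hsm))
    by_cases halin : a ∈ relCharDegrees ⁅N, N⁆
    swap
    · obtain ⟨χ, φ, hχa, hφ1, hφ⟩ := exists_below ha
      exact two_of_linear nofix hc hcm hχa ha ham hφ1 hφ (linear_of_const hφ fun x hx => by
        by_contra hne
        exact halin ⟨χ, ⟨x, hx, hne⟩, hχa⟩)
    by_cases hclin : c ∈ relCharDegrees ⁅N, N⁆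
    swap
    · obtain ⟨χ, φ, hχc, hφ1, hφ⟩ := exists_below hc
      exact (two_of_linear nofix ha ham hχc hc hcm hφ1 hφ (linear_of_const hφ fun x hx => by
        by_contra hne
        exact hclin ⟨χ, ⟨x, hx, hne⟩, hχc⟩)).symm
    -- descend to the derived subgroup
    set D := ⁅N, N⁆ with hD
    have hDN : D ≤ N := hlt.le
    haveI : D.Normal := Subgroup.commutator_normal N N
    have hsub : relCharDegrees D ⊆ relCharDegrees N := fun x ⟨χ, ⟨y, hy, hne⟩, he⟩ =>
      ⟨χ, ⟨y, hDN hy, hne⟩, he⟩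
    have hnear : ∀ {x y : ℕ}, Near D x y → Near N x y := fun h => ⟨hsub h.1, hsub h.2.1, h.2.2⟩
    have hreach : ∀ {x y : ℕ}, Reach D x y → Reach N x y := by
      rintro x y ⟨hx, hy, h⟩
      exact ⟨hsub hx, hsub hy, h.map
        (SimpleGraph.induceHomOfLE commonDivisorGraph hsub).toHom⟩
    have hsolD : Group.IsSolvable D := by
      haveI := hsol
      exact Group.isSolvable_of_isSolvable_injective (Subgroup.inclusion_injective hDN)
    have hDG : D ≤ commutator G := hDN.trans hNG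
    have hDlt : ⁅D, D⁆ < D := by
      obtain ⟨χ, ⟨x, hx, hne⟩, -⟩ := halin
      haveI : Nontrivial D := ⟨⟨x, hx⟩, 1, fun e => hne (by rw [show x = 1 from congrArg Subtype.val e])⟩
      haveI := hsolD
      have h := Group.IsSolvable.commutator_lt_top_of_nontrivial (G := D)
      refine lt_of_le_of_ne (Subgroup.commutator_le_left D D) fun e => h.ne ?_
      refine Subgroup.map_injective D.subtype_injective ?_
      rw [Subgroup.map_subtype_commutator, e, ← MonoidHom.range_eq_map, Subgroup.range_subtype]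
    have hka := (S4776.result D hDlt hDG).2 a b halin hblin
      (fun h => hab (hreach ⟨halin, hblin, h⟩))
    have hkc := (S4776.result D hDlt hDG).2 c b hclin hblin
      (fun h => hcb (hreach ⟨hclin, hblin, h⟩))
    obtain ⟨r, hr, hrm⟩ := Nat.exists_prime_and_dvd (n := ⁅D, D⁆.relIndex D)
      (fun h => hDlt.not_ge (Subgroup.relIndex_eq_one.1 h))
    rcases hka with ⟨hac, hb1⟩ | ⟨hb0, ha1⟩ <;> rcases hkc with ⟨hcc, hb2⟩ | ⟨hb0', hc1⟩
    · have hcard : Nat.card D < Nat.card N :=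
        Set.ncard_lt_ncard (s := (D : Set G)) (t := (N : Set G)) hlt
      obtain ⟨x, h1, h2⟩ := ih D (by omega) hsolD hDG a c b halin hclin hblin hac hcc
        (fun h => hab (hreach h)) (fun h => hcb (hreach h))
      exact ⟨x, hnear h1, hnear h2⟩
    · exact absurd (Nat.eq_one_of_dvd_coprimes hb0' (hb1 r hr hrm) hrm) hr.ne_one
    · exact absurd (Nat.eq_one_of_dvd_coprimes hb0 (hb2 r hr hrm) hrm) hr.ne_one
    · exact ⟨c, ⟨ha, hc, r, hr.ne_one, ha1 r hr hrm, hc1 r hr hrm⟩,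
        hc, hc, r, hr.ne_one, hc1 r hr hrm, hc1 r hr hrm⟩

end Cfsg.Agent.DegreeGraph.RelTwo
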